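import Mathlib

set_option autoImplicit false

namespace H61

/-- Recognition of the dihedral group of order `2n`. -/
theorem nonempty_mulEquiv_dihedralGroup {G : Type*} [Group G] [Finite G] (c t : G) (n : ℕ) [NeZero n]
    (hc : orderOf c = n) (ht : t * t = 1) (htc : t * c * t = c⁻¹) (hnot : t ∉ Subgroup.zpowers c)
    (hcard : Nat.card G = 2 * n) : Nonempty (G ≃* DihedralGroup n) := by
  let f : ZMod n →+ Additive G := ZMod.lift n ⟨zmultiplesHom (Additive G) (Additive.ofMul c), by
    simp [zmultiplesHom_apply, ← hc, ← ofMul_pow, pow_orderOf_eq_one]⟩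
  let p : ZMod n → G := fun i => Additive.toMul (f i)
  have hp : ∀ k : ℤ, p (k : ZMod n) = c ^ k := fun k => by
    simp [p, f, zmultiplesHom_apply]
  have hadd : ∀ i j, p (i + j) = p i * p j := fun i j => by simp [p]
  have hneg : ∀ i, p (-i) = (p i)⁻¹ := fun i => by simp [p]
  have hconj : ∀ i, t * p i * t = (p i)⁻¹ := by
    intro i
    obtain ⟨k, rfl⟩ := ZMod.intCast_surjective i
    rw [hp, ← inv_zpow, ← htc]
    have ht' : t⁻¹ = t := inv_eq_of_mul_eq_one_right ht
    conv_rhs => rw [show t * c * t = t * c * t⁻¹ by rw [ht'], conj_zpow, ht']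
  have hconj' : ∀ i, p i * t = t * (p i)⁻¹ := by
    intro i
    rw [← hconj i]
    simp [mul_assoc, ← mul_assoc t t, ht]
  let φ : DihedralGroup n →* G := MonoidHom.mk' (fun x => match x with
      | .r i => p i
      | .sr i => t * p i) (by
    rintro (i | i) (j | j)
    · simp [hadd]
    · simp only [DihedralGroup.r_mul_sr]
      rw [← mul_assoc, hconj', mul_assoc, ← hneg, ← hadd]
      congr 2
      abel
    · simp [hadd, mul_assoc]
    · simp only [DihedralGroup.sr_mul_sr]
      rw [mul_assoc, ← mul_assoc (p i), hconj', ← mul_assoc, ← mul_assoc, ht, one_mul, ← hneg, ← hadd]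
      congr 1
      abel)
  have hinj : Function.Injective φ := by
    rw [injective_iff_map_eq_one]
    rintro (i | i) h
    · obtain ⟨k, rfl⟩ := ZMod.intCast_surjective i
      have h' : c ^ k = 1 := by rw [← hp]; exact h
      rw [← orderOf_dvd_iff_zpow_eq_one, hc] at h'
      rw [(ZMod.intCast_zmod_eq_zero_iff_dvd k n).mpr h', DihedralGroup.r_zero]
    · obtain ⟨k, rfl⟩ := ZMod.intCast_surjective i
      have h' : t * c ^ k = 1 := by rw [← hp]; exact h
      exfalso; apply hnot
      rw [mul_eq_one_iff_eq_inv.mp h']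
      exact (Subgroup.zpowers c).inv_mem ⟨k, rfl⟩
  have hb : Function.Bijective φ := hinj.bijective_of_nat_card_le (by rw [DihedralGroup.nat_card, hcard])
  exact ⟨(MulEquiv.ofBijective φ hb).symm⟩

end H61
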