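import Mathlib
import Cfsg.Agent.H58.JordanCriterion

/-!
Marggraff's theorem: a primitive group with a small Jordan set contains the alternating group.
-/

set_option autoImplicit false

namespace H61

open MulAction

variable {G Ω : Type*} [Group G] [MulAction G Ω]

/-- The pointwise stabiliser of the complement of `Γ` is transitive on `Γ`. -/
def JordanSet (G : Type*) {Ω : Type*} [Group G] [MulAction G Ω] (Γ : Set Ω) : Prop :=
  ∀ x ∈ Γ, ∀ y ∈ Γ, ∃ g : G, (∀ z ∉ Γ, g • z = z) ∧ g • x = y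

theorem JordanSet.pre {Γ : Set Ω} (h : JordanSet G Γ) (g : G) :
    JordanSet G ((g • ·) ⁻¹' Γ : Set Ω) := by
  intro x hx y hy
  obtain ⟨u, hu, hxy⟩ := h (g • x) hx (g • y) hy
  refine ⟨g⁻¹ * u * g, fun z hz => ?_, ?_⟩
  · rw [mul_smul, mul_smul, hu _ hz, inv_smul_smul]
  · rw [mul_smul, mul_smul, hxy, inv_smul_smul]

theorem JordanSet.union {A B : Set Ω} (hA : JordanSet G A) (hB : JordanSet G B)
    (hne : (A ∩ B).Nonempty) : JordanSet G (A ∪ B) := by
  obtain ⟨c, hcA, hcB⟩ := hne
  intro x hx y hy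
  have key : ∀ w ∈ A ∪ B, ∃ g : G, (∀ z ∉ A ∪ B, g • z = z) ∧ g • w = c := by
    rintro w (hw | hw)
    · obtain ⟨g, hg, hgw⟩ := hA w hw c hcA
      exact ⟨g, fun z hz => hg z fun h => hz (Or.inl h), hgw⟩
    · obtain ⟨g, hg, hgw⟩ := hB w hw c hcB
      exact ⟨g, fun z hz => hg z fun h => hz (Or.inr h), hgw⟩
  obtain ⟨u, hu, hux⟩ := key x hx
  obtain ⟨v, hv, hvy⟩ := key y hy
  refine ⟨v⁻¹ * u, fun z hz => ?_, ?_⟩
  · rw [mul_smul, hu z hz, inv_smul_eq_iff, hv z hz]
  · rw [mul_smul, hux, inv_smul_eq_iff, hvy]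

theorem JordanSet.pretransitive {Γ : Set Ω} (h : JordanSet G Γ) :
    IsPretransitive (fixingSubgroup G Γᶜ) (SubMulAction.ofFixingSubgroup G Γᶜ) := by
  refine ⟨fun x y => ?_⟩
  have hx : (x : Ω) ∈ Γ := not_not.mp x.2
  have hy : (y : Ω) ∈ Γ := not_not.mp y.2
  obtain ⟨g, hg, hgx⟩ := h x hx y hy
  exact ⟨⟨g, (mem_fixingSubgroup_iff G).mpr hg⟩, Subtype.ext hgx⟩

theorem jordanSet_of_pretransitive {Γ : Set Ω}
    (h : IsPretransitive (fixingSubgroup G Γᶜ) (SubMulAction.ofFixingSubgroup G Γᶜ)) :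
    JordanSet G Γ := by
  intro x hx y hy
  obtain ⟨g, hg⟩ := h.exists_smul_eq ⟨x, not_not.mpr hx⟩ ⟨y, not_not.mpr hy⟩
  exact ⟨g, (mem_fixingSubgroup_iff G).mp g.2, congrArg Subtype.val hg⟩

/-- A primitive group with a Jordan set is doubly transitive. -/
theorem JordanSet.two_pretransitive [Finite Ω] {Γ : Set Ω} (hJ : JordanSet G Γ)
    (hprim : IsPreprimitive G Ω) (h1 : 1 < Γ.ncard) (h2 : Γ.ncard < Nat.card Ω) :
    IsMultiplyPretransitive G Ω 2 := by
  have hc := Set.ncard_compl Γ
  exact hprim.is_two_pretransitive (s := Γᶜ) (n := Γᶜ.ncard - 1) (by omega) (by omega)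
    hJ.pretransitive

/-! ### counting translates -/

/-- The number of elements carrying `I` into `Γ` and `O` out of `Γ`. -/
noncomputable def hitCount (G : Type*) {Ω : Type*} [Group G] [MulAction G Ω] (Γ : Set Ω)
    (I O : Finset Ω) : ℕ :=
  {g : G | (∀ i ∈ I, g • i ∈ Γ) ∧ ∀ o ∈ O, g • o ∉ Γ}.ncard

/-- Number of `k`-subsets containing `i` given points, `N` points being free. -/
def setCount (k N i : ℕ) : ℕ := if i ≤ k then N.choose (k - i) else 0

theorem setCount_succ (k N i : ℕ) :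
    setCount k (N + 1) i = setCount k N (i + 1) + setCount k N i := by
  unfold setCount
  rcases lt_trichotomy i k with h | h | h
  · rw [if_pos h.le, if_pos h.le, if_pos (show i + 1 ≤ k by omega), show k - i = (k - (i + 1)) + 1 by omega,
      Nat.choose_succ_succ']
  · subst h
    simp
  · rw [if_neg (by omega), if_neg (by omega), if_neg (by omega)]

theorem choose_lt_choose_of_add_lt {N a b : ℕ} (hab : a < b) (h : a + b < N) :
    N.choose a < N.choose b := by
  have main : ∀ b', a < b' → 2 * b' ≤ N → N.choose a < N.choose b' := by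
    intro b' hab' hb'
    have hs : N.choose a < N.choose (a + 1) := by
      have he := Nat.choose_succ_right_eq N a
      by_contra hc
      push Not at hc
      have h1 : N.choose (a + 1) * (a + 1) ≤ N.choose a * (a + 1) := Nat.mul_le_mul_right _ hc
      have hpos : 0 < N.choose a := Nat.choose_pos (by omega)
      have h2 : N.choose a * (a + 1) < N.choose a * (N - a) :=
        Nat.mul_lt_mul_of_pos_left (by omega) hpos
      omega
    refine hs.trans_le ?_
    have : ∀ c, a + 1 ≤ c → 2 * c ≤ N → N.choose (a + 1) ≤ N.choose c := by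
      intro c hc
      induction c, hc using Nat.le_induction with
      | base => intro _; exact le_rfl
      | succ c hc ih =>
        intro h2
        exact (ih (by omega)).trans (Nat.choose_le_succ_of_lt_half_left (by omega))
    exact this b' hab' hb'
  rcases Nat.lt_or_ge N (2 * b) with hb | hb
  · rw [← Nat.choose_symm (show b ≤ N by omega)]
    exact main _ (by omega) (by omega)
  · exact main b hab hb

theorem exists_smul_image_eq [DecidableEq Ω] {i : ℕ} (htr : IsMultiplyPretransitive G Ω i)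
    {S S' : Finset Ω} (hS : S.card = i) (hS' : S'.card = i) :
    ∃ g : G, S.image (g • ·) = S' := by
  let e : Fin i ↪ Ω := (S.equivFinOfCardEq hS).symm.toEmbedding.trans (Function.Embedding.subtype _)
  let e' : Fin i ↪ Ω := (S'.equivFinOfCardEq hS').symm.toEmbedding.trans (Function.Embedding.subtype _)
  obtain ⟨g, hg⟩ := htr.exists_smul_eq e e'
  refine ⟨g, Finset.eq_of_subset_of_card_le (fun y hy => ?_) ?_⟩
  · obtain ⟨x, hx, rfl⟩ := Finset.mem_image.mp hy
    have := DFunLike.congr_fun hg (S.equivFinOfCardEq hS ⟨x, hx⟩)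
    simp only [Function.Embedding.smul_apply, e, e', Function.Embedding.trans_apply,
      Equiv.coe_toEmbedding, Equiv.symm_apply_apply, Function.Embedding.subtype_apply] at this
    rw [this]
    exact Subtype.coe_prop _
  · rw [Finset.card_image_of_injective _ (MulAction.injective g), hS, hS']

variable [Finite G] [Finite Ω]

theorem hitCount_split (Γ : Set Ω) (I O : Finset Ω) (e : Ω) [DecidableEq Ω] :
    hitCount G Γ I O = hitCount G Γ (insert e I) O + hitCount G Γ I (insert e O) := by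
  unfold hitCount
  rw [← Set.ncard_inter_add_ncard_sdiff_eq_ncard
    {g : G | (∀ i ∈ I, g • i ∈ Γ) ∧ ∀ o ∈ O, g • o ∉ Γ} {g : G | g • e ∈ Γ}]
  congr 1
  · congr 1
    ext g
    simp only [Set.mem_inter_iff, Set.mem_setOf_eq, Finset.forall_mem_insert]
    tauto
  · congr 1
    ext g
    simp only [Set.mem_diff, Set.mem_setOf_eq, Finset.forall_mem_insert]
    tauto

theorem hitCount_base (Γ : Set Ω) (I : Finset Ω) {t : ℕ} (hI : I.card ≤ t)
    (htr : IsMultiplyPretransitive G Ω t) (ht : t ≤ Nat.card Ω) :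
    hitCount G Γ I ∅ * (Nat.card Ω).choose Γ.ncard =
      Nat.card G * setCount Γ.ncard (Nat.card Ω - I.card) I.card := by
  classical
  haveI := Fintype.ofFinite Ω
  haveI := Fintype.ofFinite G
  set i := I.card with hi
  set n := Nat.card Ω
  set k := Γ.ncard
  have htr' : IsMultiplyPretransitive G Ω i := isMultiplyPretransitive_of_le hI ht
  let f : G → Finset Ω := fun g => I.image (g • ·)
  have hf : ∀ g, (f g).card = i := fun g => Finset.card_image_of_injective _ (MulAction.injective g)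
  obtain ⟨c, hc⟩ : ∃ c, ∀ S ∈ (Finset.univ : Finset Ω).powersetCard i,
      (Finset.univ.filter fun g => f g = S).card = c := by
    refine ⟨(Finset.univ.filter fun g => f g = I).card, fun S hS => ?_⟩
    obtain ⟨h, hh⟩ := exists_smul_image_eq htr' rfl (Finset.mem_powersetCard.mp hS).2
    refine (Finset.card_bij' (fun g _ => h * g) (fun g _ => h⁻¹ * g) ?_ ?_ ?_ ?_).symm
    · intro g hg
      simp only [Finset.mem_filter, Finset.mem_univ, true_and, f] at hg ⊢
      conv_rhs => rw [← hh, ← hg, Finset.image_image]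
      exact Finset.image_congr fun (x : Ω) _ => mul_smul h g x
    · intro g hg
      simp only [Finset.mem_filter, Finset.mem_univ, true_and, f] at hg ⊢
      have : S.image (h⁻¹ • ·) = I := by
        rw [← hh, Finset.image_image]
        exact (Finset.image_congr (g := id) fun (x : Ω) _ => inv_smul_smul h x).trans Finset.image_id
      conv_rhs => rw [← this, ← hg, Finset.image_image]
      exact Finset.image_congr fun (x : Ω) _ => mul_smul h⁻¹ g x
    · intro g _; simp
    · intro g _; simp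
  have h1 : Nat.card G = n.choose i * c := by
    rw [Nat.card_eq_fintype_card, ← Finset.card_univ,
      Finset.card_eq_sum_card_fiberwise (f := f) (t := (Finset.univ : Finset Ω).powersetCard i)
        (fun g _ => Finset.mem_powersetCard.mpr ⟨Finset.subset_univ _, hf g⟩),
      Finset.sum_congr rfl hc, Finset.sum_const, Finset.card_powersetCard, Finset.card_univ,
      smul_eq_mul]
    simp [n, Nat.card_eq_fintype_card]
  have h2 : hitCount G Γ I ∅ = k.choose i * c := by
    have e : {g : G | (∀ x ∈ I, g • x ∈ Γ) ∧ ∀ o ∈ (∅ : Finset Ω), g • o ∉ Γ} =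
        ((Finset.univ.filter fun g => f g ⊆ Γ.toFinset : Finset G) : Set G) := by
      ext g
      simp [f, Finset.subset_iff]
    rw [hitCount, e, Set.ncard_coe_finset,
      Finset.card_eq_sum_card_fiberwise (f := f) (t := Γ.toFinset.powersetCard i)
        (fun g hg => Finset.mem_powersetCard.mpr ⟨(Finset.mem_filter.mp hg).2, hf g⟩)]
    rw [Finset.sum_congr rfl (g := fun _ => c) fun S hS => ?_]
    · rw [Finset.sum_const, Finset.card_powersetCard, smul_eq_mul, ← Set.ncard_eq_toFinset_card']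
    · rw [← hc S (Finset.mem_powersetCard.mpr ⟨Finset.subset_univ _, (Finset.mem_powersetCard.mp hS).2⟩),
        Finset.filter_filter]
      refine congrArg Finset.card (Finset.filter_congr fun g _ => ⟨fun h => h.2, fun h => ⟨?_, h⟩⟩)
      exact h ▸ (Finset.mem_powersetCard.mp hS).1
  rw [h2, h1, setCount]
  split_ifs with hik
  · have := Nat.choose_mul (n := n) (k := k) (s := i) hik
    calc k.choose i * c * n.choose k = (n.choose k * k.choose i) * c := by ring
      _ = _ := by rw [this]; ring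
  · rw [Nat.choose_eq_zero_of_lt (by omega : k < i)]; simp

theorem hitCount_eq (Γ : Set Ω) {t : ℕ} (htr : IsMultiplyPretransitive G Ω t)
    (ht : t ≤ Nat.card Ω) (I O : Finset Ω) (hd : Disjoint I O) (hIO : I.card + O.card ≤ t) :
    hitCount G Γ I O * (Nat.card Ω).choose Γ.ncard =
      Nat.card G * setCount Γ.ncard (Nat.card Ω - I.card - O.card) I.card := by
  classical
  induction O using Finset.induction_on generalizing I with
  | empty => simpa using hitCount_base Γ I (by simpa using hIO) htr ht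
  | @insert e O heO ih =>
    rw [Finset.disjoint_insert_right] at hd
    rw [Finset.card_insert_of_notMem heO] at hIO ⊢
    have h1 := ih I hd.2 (by omega)
    have h2 := ih (insert e I) (Finset.disjoint_insert_left.mpr ⟨heO, hd.2⟩)
      (by rw [Finset.card_insert_of_notMem hd.1]; omega)
    rw [hitCount_split Γ I O e, add_mul, h2, Finset.card_insert_of_notMem hd.1,
      show Nat.card Ω - I.card - O.card = (Nat.card Ω - (I.card + 1) - O.card) + 1 by omega,
      setCount_succ, mul_add] at h1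
    rw [show Nat.card Ω - I.card - (O.card + 1) = Nat.card Ω - (I.card + 1) - O.card by omega]
    exact Nat.add_left_cancel h1

/-- All patterns on a set are determined by one of them. -/
theorem hitCount_dev (Γ : Set Ω) [DecidableEq Ω] (B : Finset Ω)
    (htr : IsMultiplyPretransitive G Ω (B.card - 1)) (hB : B.card ≤ Nat.card Ω) :
    ∃ d : ℤ, ∀ S ⊆ B, (hitCount G Γ S (B \ S) * (Nat.card Ω).choose Γ.ncard : ℤ) =
      (Nat.card G * setCount Γ.ncard (Nat.card Ω - B.card) S.card : ℤ) + (-1) ^ S.card * d := by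
  refine ⟨(hitCount G Γ ∅ B * (Nat.card Ω).choose Γ.ncard : ℤ) -
    (Nat.card G * setCount Γ.ncard (Nat.card Ω - B.card) 0 : ℤ), fun S hS => ?_⟩
  induction S using Finset.induction_on with
  | empty => simp
  | @insert e S heS ih =>
    have heB : e ∈ B := hS (Finset.mem_insert_self e S)
    have hSB : S ⊆ B := (Finset.subset_insert e S).trans hS
    have h1 := ih hSB
    have e1 : insert e (B \ insert e S) = B \ S := by
      ext x
      by_cases hx : x = e
      · simp [hx, heB, heS]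
      · simp [hx]
    have hlt : S.card < B.card := Finset.card_lt_card ⟨hSB, fun h => heS (h heB)⟩
    have hc : (B \ insert e S).card = B.card - (S.card + 1) := by
      rw [Finset.card_sdiff_of_subset hS, Finset.card_insert_of_notMem heS]
    have hm := hitCount_eq (G := G) Γ htr (by omega) S (B \ insert e S)
      (Finset.disjoint_left.mpr fun x hx hx' => (Finset.mem_sdiff.mp hx').2 (Finset.mem_insert_of_mem hx))
      (by omega)
    rw [hitCount_split Γ S _ e, e1, hc,
      show Nat.card Ω - S.card - (B.card - (S.card + 1)) = (Nat.card Ω - B.card) + 1 by omega,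
      setCount_succ] at hm
    rw [Finset.card_insert_of_notMem heS, pow_succ]
    have hm' := congrArg (Nat.cast : ℕ → ℤ) hm
    push_cast at hm'
    linarith [hm', h1]

/-- The pattern of weight one must occur. -/
theorem hitCount_single_ne_zero (Γ : Set Ω) [DecidableEq Ω] (B : Finset Ω) {x : Ω} (hx : x ∈ B)
    (htr : IsMultiplyPretransitive G Ω (B.card - 1)) (hB3 : 3 ≤ B.card)
    (h1 : 1 ≤ Γ.ncard) (hfit : Γ.ncard + (B.card - 1) ≤ Nat.card Ω)
    (h2 : 2 * Γ.ncard < Nat.card Ω ∨ (2 * Γ.ncard ≤ Nat.card Ω ∧ Odd B.card)) :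
    hitCount G Γ {x} (B \ {x}) ≠ 0 := by
  intro h0
  obtain ⟨d, hd⟩ := hitCount_dev (G := G) Γ B htr (by omega)
  set n := Nat.card Ω
  set k := Γ.ncard
  obtain ⟨i, hi3, hiJ, hodd, hsum⟩ : ∃ i, 3 ≤ i ∧ i ≤ B.card ∧ Odd i ∧
      (i ≤ k → k - i + (k - 1) < n - B.card) := by
    rcases Nat.even_or_odd B.card with hev | hodd
    · obtain ⟨r, hr⟩ := hev
      refine ⟨B.card - 1, by omega, by omega, ⟨r - 1, by omega⟩, fun hik => ?_⟩
      rcases h2 with h2 | ⟨-, q, hq⟩
      · omega
      · omega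
    · exact ⟨B.card, hB3, le_rfl, hodd, fun hik => by omega⟩
  obtain ⟨S, hSB, hS⟩ := Finset.exists_subset_card_eq hiJ
  have e1 := hd {x} (Finset.singleton_subset_iff.mpr hx)
  have e2 := hd S hSB
  rw [h0, Finset.card_singleton] at e1
  rw [hS, hodd.neg_one_pow] at e2
  have hlt : setCount k (n - B.card) i < setCount k (n - B.card) 1 := by
    rw [setCount, setCount, if_pos h1]
    split_ifs with hik
    · exact choose_lt_choose_of_add_lt (by omega) (hsum hik)
    · exact Nat.choose_pos (by omega)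
  have hG : (0 : ℤ) < (Nat.card G : ℤ) := by exact_mod_cast Nat.card_pos
  have hnn : (0 : ℤ) ≤ (hitCount G Γ S (B \ S) * n.choose k : ℤ) := by positivity
  have hlt' : (setCount k (n - B.card) i : ℤ) < setCount k (n - B.card) 1 := by exact_mod_cast hlt
  simp only [Nat.cast_zero, zero_mul, pow_one] at e1
  nlinarith [e1, e2, hnn, mul_lt_mul_of_pos_left hlt' hG]

/-- The pattern of weight two must occur on sets of at least four points. -/
theorem hitCount_pair_ne_zero (Γ : Set Ω) [DecidableEq Ω] (B : Finset Ω) {x y : Ω} (hx : x ∈ B)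
    (hy : y ∈ B) (hxy : x ≠ y)
    (htr : IsMultiplyPretransitive G Ω (B.card - 1)) (hB4 : 4 ≤ B.card)
    (h1 : 2 ≤ Γ.ncard) (hfit : Γ.ncard + (B.card - 2) ≤ Nat.card Ω) (hB : B.card ≤ Nat.card Ω)
    (h2 : 2 * Γ.ncard ≤ Nat.card Ω) :
    hitCount G Γ {x, y} (B \ {x, y}) ≠ 0 := by
  intro h0
  obtain ⟨d, hd⟩ := hitCount_dev (G := G) Γ B htr hB
  set n := Nat.card Ω
  set k := Γ.ncard
  obtain ⟨i, hi4, hiJ, hev, hsum⟩ : ∃ i, 4 ≤ i ∧ i ≤ B.card ∧ Even i ∧
      (i ≤ k → k - i + (k - 2) < n - B.card) := by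
    rcases Nat.even_or_odd B.card with hev | ⟨r, hr⟩
    · exact ⟨B.card, hB4, le_rfl, hev, fun hik => by omega⟩
    · exact ⟨B.card - 1, by omega, by omega, ⟨r, by omega⟩, fun hik => by omega⟩
  obtain ⟨S, hSB, hS⟩ := Finset.exists_subset_card_eq hiJ
  have e1 := hd {x, y} (Finset.insert_subset hx (Finset.singleton_subset_iff.mpr hy))
  have e2 := hd S hSB
  rw [h0, Finset.card_pair hxy] at e1
  rw [hS, hev.neg_one_pow] at e2
  have hlt : setCount k (n - B.card) i < setCount k (n - B.card) 2 := by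
    rw [setCount, setCount, if_pos h1]
    split_ifs with hik
    · exact choose_lt_choose_of_add_lt (by omega) (hsum hik)
    · exact Nat.choose_pos (by omega)
  have hG : (0 : ℤ) < (Nat.card G : ℤ) := by exact_mod_cast Nat.card_pos
  have hnn : (0 : ℤ) ≤ (hitCount G Γ S (B \ S) * n.choose k : ℤ) := by positivity
  have hlt' : (setCount k (n - B.card) i : ℤ) < setCount k (n - B.card) 2 := by exact_mod_cast hlt
  simp only [Nat.cast_zero, zero_mul, neg_one_sq, one_mul] at e1
  nlinarith [e1, e2, hnn, mul_lt_mul_of_pos_left hlt' hG]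

open scoped Pointwise

omit [Finite G] [Finite Ω] in
theorem ncard_pre (g : G) (Γ : Set Ω) : ((g • ·) ⁻¹' Γ : Set Ω).ncard = Γ.ncard :=
  Set.ncard_preimage_of_injective_subset_range (MulAction.injective g)
    (by rw [(MulAction.surjective g).range_eq]; exact Set.subset_univ Γ)

omit [Finite G] in
theorem ncard_rest (T : Finset Ω) :
    Nat.card (SubMulAction.ofFixingSubgroup G (T : Set Ω)) + T.card = Nat.card Ω := by
  have h := Set.ncard_add_ncard_compl (T : Set Ω)
  rw [Set.ncard_coe_finset] at h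
  change ((T : Set Ω)ᶜ : Set Ω).ncard + T.card = _
  omega

/-- The pointwise stabiliser of `j` points is primitive on the remaining points. -/
theorem isPreprimitive_fixing {Γ : Set Ω} (hJ : JordanSet G Γ) (h2k : 2 ≤ Γ.ncard)
    (hprim : IsPreprimitive G Ω) (T : Finset Ω) (hT : 1 ≤ T.card)
    (htr : IsMultiplyPretransitive G Ω (T.card + 1))
    (hjk : Γ.ncard + T.card + 1 ≤ Nat.card Ω)
    (h2 : 2 * Γ.ncard < Nat.card Ω ∨ (2 * Γ.ncard ≤ Nat.card Ω ∧ T.card = 1))
    (hmax : T.card = 1 → ∀ U : Set Ω, JordanSet G U → 2 * U.ncard < Nat.card Ω →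
      U.ncard ≤ Γ.ncard) :
    IsPreprimitive (fixingSubgroup G (T : Set Ω)) (SubMulAction.ofFixingSubgroup G (T : Set Ω)) := by
  classical
  set P := fixingSubgroup G (T : Set Ω) with hPdef
  have hrest := ncard_rest (G := G) T
  haveI hPtr : IsPretransitive P (SubMulAction.ofFixingSubgroup G (T : Set Ω)) := by
    rw [← is_one_pretransitive_iff]
    exact SubMulAction.ofFixingSubgroup.isMultiplyPretransitive G (T : Set Ω) (n := T.card + 1)
      (by rw [Set.ncard_coe_finset])
  refine ⟨fun {D} hD => ?_⟩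
  by_contra htriv
  rw [IsTrivialBlock, not_or] at htriv
  obtain ⟨hsub, huniv⟩ := htriv
  obtain ⟨x, hxD, y, hyD, hxy⟩ := Set.not_subsingleton_iff.mp hsub
  obtain ⟨z, hzD⟩ := (Set.ne_univ_iff_exists_notMem D).mp huniv
  set D' : Set Ω := Subtype.val '' D with hD'
  have hxyΩ : (x : Ω) ≠ y := fun e => hxy (Subtype.ext e)
  have hxzΩ : (x : Ω) ≠ z := fun e => hzD (Subtype.ext e ▸ hxD)
  have hxT : (x : Ω) ∉ T := x.2
  have hyT : (y : Ω) ∉ T := y.2
  have hzT : (z : Ω) ∉ T := z.2
  have hhalf : 2 * D'.ncard + 1 ≤ Nat.card Ω := by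
    obtain ⟨g, hg⟩ := exists_smul_eq P x z
    have hne : g • D ≠ D := fun e => hzD (hg ▸ e ▸ Set.smul_mem_smul_set hxD)
    have hdis : Disjoint (g • D) D := hD.disjoint_smul_of_ne hne
    have h3 := Set.ncard_union_eq hdis
    have h4 : (g • D ∪ D).ncard ≤ Nat.card (SubMulAction.ofFixingSubgroup G (T : Set Ω)) := by
      rw [← Set.ncard_univ]; exact Set.ncard_le_ncard (Set.subset_univ _)
    rw [h3, Set.ncard_smul_set] at h4
    rw [hD', Set.ncard_image_of_injective _ Subtype.val_injective]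
    omega
  -- a Jordan set avoiding `T` which meets the block, and not all of it, lies inside it
  have hcore : ∀ U : Set Ω, JordanSet G U → (∀ t ∈ T, t ∉ U) → ∀ a ∈ D', a ∈ U →
      ∀ b ∈ D', b ∉ U → U ⊆ D' := by
    rintro U hU hTU _ ⟨a, ha, rfl⟩ haU _ ⟨b, hb, rfl⟩ hbU w hw
    obtain ⟨h, hh, hhw⟩ := hU _ haU w hw
    have hhP : h ∈ P := (mem_fixingSubgroup_iff G).mpr fun t ht => hh t (hTU t ht)
    have e : (⟨h, hhP⟩ : P) • D = D := hD.smul_eq_of_mem hb (by
      rw [show (⟨h, hhP⟩ : P) • b = b from Subtype.ext (hh _ hbU)]; exact hb)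
    exact ⟨(⟨h, hhP⟩ : P) • a, e.le (Set.smul_mem_smul_set ha), hhw⟩
  have hxD' : (x : Ω) ∈ D' := ⟨x, hxD, rfl⟩
  have hyD' : (y : Ω) ∈ D' := ⟨y, hyD, rfl⟩
  have hzD' : (z : Ω) ∉ D' := by rintro ⟨w, hw, e⟩; exact hzD (Subtype.ext e ▸ hw)
  rcases le_or_gt D'.ncard Γ.ncard with hr | hr
  · -- every translate is a union of blocks
    have hcard : (insert (x : Ω) (insert (y : Ω) T)).card = T.card + 2 := by
      rw [Finset.card_insert_of_notMem (by simp [hxyΩ, hxT]), Finset.card_insert_of_notMem hyT]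
    refine hitCount_single_ne_zero (G := G) Γ (insert (x : Ω) (insert (y : Ω) T))
      (Finset.mem_insert_self _ _) (by rw [hcard]; exact htr) (by omega) (by omega) (by omega) ?_ ?_
    · rcases h2 with h2 | ⟨h2, h2'⟩
      · exact Or.inl h2
      · exact Or.inr ⟨h2, 1, by omega⟩
    · rw [hitCount, Set.ncard_eq_zero]
      refine Set.eq_empty_iff_forall_notMem.mpr fun g ⟨hgI, hgO⟩ => ?_
      have hgT : ∀ t ∈ T, g • t ∉ Γ := fun t ht => hgO t (by
        simp only [Finset.mem_sdiff, Finset.mem_insert, Finset.mem_singleton]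
        exact ⟨Or.inr (Or.inr ht), fun e => hxT (e ▸ ht)⟩)
      have hgx : g • (x : Ω) ∈ Γ := hgI _ (Finset.mem_singleton_self _)
      have hgy : g • (y : Ω) ∉ Γ := hgO _ (by simp [hxyΩ.symm])
      have hsubU := hcore ((g • ·) ⁻¹' Γ) (hJ.pre g) hgT _ hxD' hgx _ hyD' hgy
      have heq := Set.eq_of_subset_of_ncard_le hsubU (by rw [ncard_pre]; exact hr)
      rw [← heq] at hyD'
      exact hgy hyD'
  · -- every translate lies inside a block
    have hbad : ∀ U : Set Ω, JordanSet G U → U.ncard ≤ Γ.ncard → (∀ t ∈ T, t ∉ U) →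
        ∀ a ∈ D', a ∈ U → U ⊆ D' := by
      intro U hU hUk hTU a ha haU
      obtain ⟨b, hb, hbU⟩ := Set.exists_mem_notMem_of_ncard_lt_ncard (hUk.trans_lt hr)
      exact hcore U hU hTU a ha haU b hb hbU
    rcases Nat.lt_or_ge T.card 2 with hj | hj
    · -- `T` is a single point: use maximality
      have hT1 : T.card = 1 := by omega
      obtain ⟨t, rfl⟩ := Finset.card_eq_one.mp hT1
      have hnb : ¬ IsBlock G Γ := by
        intro hb
        rcases hprim.isTrivialBlock_of_isBlock hb with h | h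
        · have := Set.ncard_le_one_iff_subsingleton.mpr h
          omega
        · rw [h, Set.ncard_univ] at hjk
          omega
      rw [isBlock_iff_smul_eq_of_nonempty] at hnb
      push Not at hnb
      obtain ⟨u, ⟨c, hc2, hc1⟩, hne⟩ := hnb
      have hU2 : JordanSet G (u • Γ) := by
        have := hJ.pre u⁻¹
        rwa [show ((u⁻¹ • ·) ⁻¹' Γ : Set Ω) = u • Γ from Set.ext fun w => Set.mem_smul_set_iff_inv_smul_mem.symm] at this
      have hcu : (u • Γ).ncard = Γ.ncard := Set.ncard_smul_set u Γ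
      have hU := hJ.union hU2 ⟨c, hc1, hc2⟩
      have hlt : (Γ ∪ u • Γ).ncard < Nat.card Ω := by
        have := Set.ncard_union_add_ncard_inter Γ (u • Γ)
        have : 0 < (Γ ∩ u • Γ).ncard := (Set.ncard_pos).mpr ⟨c, hc1, hc2⟩
        omega
      have hgt : Γ.ncard < (Γ ∪ u • Γ).ncard := by
        refine Set.ncard_lt_ncard ⟨Set.subset_union_left, fun hs => hne ?_⟩
        exact Set.eq_of_subset_of_ncard_le (Set.subset_union_right.trans hs) hcu.ge
      obtain ⟨a', ha'⟩ := (Set.ne_univ_iff_exists_notMem (Γ ∪ u • Γ)).mp fun e => by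
        rw [e, Set.ncard_univ] at hlt
        omega
      have htr2 : IsMultiplyPretransitive G Ω 2 := by
        rw [show (2 : ℕ) = ({t} : Finset Ω).card + 1 by omega]; exact htr
      rw [is_two_pretransitive_iff] at htr2
      obtain ⟨h, hhx, hht⟩ := htr2 (show (x : Ω) ≠ t from fun e => hxT (by simp [e]))
        (show c ≠ a' from fun e => ha' (e ▸ Or.inl hc1))
      have hW : ((h • ·) ⁻¹' (Γ ∪ u • Γ) : Set Ω) ⊆ D' := by
        rw [Set.preimage_union]
        refine Set.union_subset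
          (hbad _ (hJ.pre h) (ncard_pre h Γ).le ?_ _ hxD' (show h • (x : Ω) ∈ Γ from hhx ▸ hc1))
          (hbad _ (hU2.pre h) ((ncard_pre h _).trans hcu).le ?_ _ hxD'
            (show h • (x : Ω) ∈ u • Γ from hhx ▸ hc2))
        · intro s hs hsU
          rw [Finset.mem_singleton] at hs
          exact ha' (Or.inl (hht ▸ (hs ▸ hsU : h • t ∈ Γ)))
        · intro s hs hsU
          rw [Finset.mem_singleton] at hs
          exact ha' (Or.inr (hht ▸ (hs ▸ hsU : h • t ∈ u • Γ)))
      have h5 := Set.ncard_le_ncard hW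
      rw [ncard_pre] at h5
      have := hmax hT1 _ hU (by omega)
      omega
    · have hcard : (insert (x : Ω) (insert (z : Ω) T)).card = T.card + 2 := by
        rw [Finset.card_insert_of_notMem (by simp [hxzΩ, hxT]), Finset.card_insert_of_notMem hzT]
      refine hitCount_pair_ne_zero (G := G) Γ (insert (x : Ω) (insert (z : Ω) T))
        (Finset.mem_insert_self _ _) (Finset.mem_insert_of_mem (Finset.mem_insert_self _ _)) hxzΩ
        (by rw [hcard]; exact htr) (by omega) h2k (by omega) (by omega) (by omega) ?_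
      rw [hitCount, Set.ncard_eq_zero]
      refine Set.eq_empty_iff_forall_notMem.mpr fun g ⟨hgI, hgO⟩ => ?_
      have hgT : ∀ t ∈ T, g • t ∉ Γ := fun t ht => hgO t (by
        simp only [Finset.mem_sdiff, Finset.mem_insert, Finset.mem_singleton, not_or]
        exact ⟨Or.inr (Or.inr ht), fun e => hxT (e ▸ ht), fun e => hzT (e ▸ ht)⟩)
      exact hzD' (hbad _ (hJ.pre g) (ncard_pre g Γ).le hgT _ hxD'
        (show g • (x : Ω) ∈ Γ from hgI _ (by simp)) (show g • (z : Ω) ∈ Γ from hgI _ (by simp)))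

/-- One further degree of transitivity. -/
theorem pretransitive_step {Γ : Set Ω} (hJ : JordanSet G Γ) (h2k : 2 ≤ Γ.ncard)
    (hprim : IsPreprimitive G Ω) {j : ℕ} (hj : 1 ≤ j)
    (htr : IsMultiplyPretransitive G Ω (j + 1))
    (hjk : Γ.ncard + j + 1 ≤ Nat.card Ω)
    (h2 : 2 * Γ.ncard < Nat.card Ω ∨ (2 * Γ.ncard ≤ Nat.card Ω ∧ j = 1))
    (hmax : j = 1 → ∀ U : Set Ω, JordanSet G U → 2 * U.ncard < Nat.card Ω → U.ncard ≤ Γ.ncard) :
    IsMultiplyPretransitive G Ω (j + 2) := by
  classical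
  haveI := Fintype.ofFinite Ω
  have hc := Set.ncard_compl Γ
  obtain ⟨T, hTΓ, hT⟩ := Finset.exists_subset_card_eq (s := (Γᶜ).toFinset) (n := j)
    (by rw [← Set.ncard_eq_toFinset_card']; omega)
  have hTΓ' : ∀ t ∈ T, t ∉ Γ := fun t ht => Set.mem_toFinset.mp (hTΓ ht)
  have hp := isPreprimitive_fixing hJ h2k hprim T (by omega) (by rw [hT]; exact htr) (by omega)
    (by rw [hT]; exact h2) (by rw [hT]; exact hmax)
  refine H58.pretransitive_add_two (T : Set Ω) (by rw [Set.ncard_coe_finset, hT])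
    (isMultiplyPretransitive_of_le (n := j + 1) (by omega) (by omega)) ?_
  set Γ' : Set (SubMulAction.ofFixingSubgroup G (T : Set Ω)) := Subtype.val ⁻¹' Γ with hΓ'
  have hcardΓ' : Γ'.ncard = Γ.ncard :=
    Set.ncard_preimage_of_injective_subset_range Subtype.val_injective
      (fun w hw => ⟨⟨w, fun hwT => hTΓ' w hwT hw⟩, rfl⟩)
  have hJ' : JordanSet (fixingSubgroup G (T : Set Ω)) Γ' := by
    intro a ha b hb
    obtain ⟨g, hg, hgab⟩ := hJ _ ha _ hb
    exact ⟨⟨g, (mem_fixingSubgroup_iff G).mpr fun t ht => hg t (hTΓ' t ht)⟩,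
      fun w hw => Subtype.ext (hg _ hw), Subtype.ext hgab⟩
  have hrest := ncard_rest (G := G) T
  exact hJ'.two_pretransitive hp (by omega) (by omega)

/-- A primitive group with a Jordan set of at most half the points is triply transitive. -/
theorem three_pretransitive {Γ : Set Ω} (hprim : IsPreprimitive G Ω) (hJ : JordanSet G Γ)
    (h1 : 1 < Γ.ncard) (h2 : 2 * Γ.ncard ≤ Nat.card Ω) :
    IsMultiplyPretransitive G Ω 3 := by
  obtain ⟨M, ⟨hMJ, hM1, hM2⟩, hMmax⟩ := Set.exists_max_image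
    {U : Set Ω | JordanSet G U ∧ 1 < U.ncard ∧ 2 * U.ncard ≤ Nat.card Ω} Set.ncard (Set.toFinite _)
    ⟨Γ, hJ, h1, h2⟩
  by_cases hsmall : M.ncard + 2 ≤ Nat.card Ω
  · refine pretransitive_step (j := 1) hMJ hM1 hprim le_rfl
      (hMJ.two_pretransitive hprim hM1 (by omega)) (by omega) (Or.inr ⟨hM2, rfl⟩) fun _ U hU hU2 => ?_
    rcases Nat.lt_or_ge 1 U.ncard with hU1 | hU1
    · exact hMmax U ⟨hU, hU1, by omega⟩
    · omega
  · omega

/-- High transitivity from a small Jordan set. -/
theorem pretransitive_of_small {Γ : Set Ω} (hprim : IsPreprimitive G Ω) (hJ : JordanSet G Γ)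
    (h1 : 1 < Γ.ncard) (h2 : 2 * Γ.ncard < Nat.card Ω)
    (hmax : ∀ U : Set Ω, JordanSet G U → 2 * U.ncard < Nat.card Ω → U.ncard ≤ Γ.ncard) :
    IsMultiplyPretransitive G Ω Γ.ncard := by
  suffices h : ∀ j, 1 ≤ j → j < Γ.ncard → IsMultiplyPretransitive G Ω (j + 1) by
    have := h (Γ.ncard - 1) (by omega) (by omega)
    rwa [show Γ.ncard - 1 + 1 = Γ.ncard by omega] at this
  intro j hj
  induction j, hj using Nat.le_induction with
  | base => exact fun _ => hJ.two_pretransitive hprim h1 (by omega)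
  | succ j hj ih =>
    exact fun hjk => pretransitive_step hJ h1 hprim hj (ih (by omega)) (by omega) (Or.inl h2)
      fun _ => hmax

/-- Two Jordan sets meeting in one point give a three-cycle. -/
theorem commutator_isThreeCycle [DecidableEq Ω] [Fintype Ω] {A B : Set Ω} {x : Ω} {h h' : G}
    (hI : A ∩ B = {x}) (hh : ∀ z ∉ A, h • z = z) (hh' : ∀ z ∉ B, h' • z = z)
    (hmove : h • x ≠ x) (hmove' : h' • x ≠ x) :
    (toPerm (h * h' * h⁻¹ * h'⁻¹) : Equiv.Perm Ω).IsThreeCycle := by
  obtain ⟨hxA, hxB⟩ : x ∈ A ∧ x ∈ B := hI.symm.subset rfl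
  obtain ⟨y, hhxy⟩ : ∃ y, h • x = y := ⟨_, rfl⟩
  obtain ⟨y', hhxy'⟩ : ∃ y', h' • x = y' := ⟨_, rfl⟩
  have hyx : y ≠ x := hhxy ▸ hmove
  have hy'x : y' ≠ x := hhxy' ▸ hmove'
  have hyA : y ∈ A := by
    by_contra hc
    exact hyx (MulAction.injective h ((hh y hc).trans hhxy.symm))
  have hy'B : y' ∈ B := by
    by_contra hc
    exact hy'x (MulAction.injective h' ((hh' y' hc).trans hhxy'.symm))
  have hmeet : ∀ {w}, w ∈ A → w ∈ B → w = x := fun {w} ha hb => hI.subset ⟨ha, hb⟩
  have hyB : y ∉ B := fun hb => hyx (hmeet hyA hb)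
  have hy'A : y' ∉ A := fun ha => hy'x (hmeet ha hy'B)
  have hAinv : ∀ z ∉ A, h⁻¹ • z = z := fun z hz => by rw [inv_smul_eq_iff, hh z hz]
  have hBinv : ∀ z ∉ B, h'⁻¹ • z = z := fun z hz => by rw [inv_smul_eq_iff, hh' z hz]
  have hAmem : ∀ z ∈ A, h⁻¹ • z ∈ A := fun z hz => by
    by_contra hc
    have := hh _ hc
    rw [smul_inv_smul] at this
    exact hc (this ▸ hz)
  have hBmem : ∀ z ∈ B, h'⁻¹ • z ∈ B := fun z hz => by
    by_contra hc
    have := hh' _ hc
    rw [smul_inv_smul] at this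
    exact hc (this ▸ hz)
  have hiy : h⁻¹ • y = x := by rw [inv_smul_eq_iff, hhxy]
  have hiy' : h'⁻¹ • y' = x := by rw [inv_smul_eq_iff, hhxy']
  have hyy' : y ≠ y' := fun e => hy'A (e ▸ hyA)
  suffices e : (toPerm (h * h' * h⁻¹ * h'⁻¹) : Equiv.Perm Ω) = Equiv.swap y x * Equiv.swap y y' by
    rw [e]
    exact Equiv.Perm.isThreeCycle_swap_mul_swap_same hyx hyy' hy'x.symm
  refine Equiv.ext fun w => ?_
  rw [toPerm_apply, mul_smul, mul_smul, mul_smul, Equiv.Perm.mul_apply]
  by_cases hwx : w = x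
  · subst hwx
    rw [Equiv.swap_apply_of_ne_of_ne hyx.symm hy'x.symm, Equiv.swap_apply_right]
    have h1 : h'⁻¹ • w ∉ A := by
      intro ha
      have := hmeet ha (hBmem _ hxB)
      rw [inv_smul_eq_iff] at this
      exact hy'x (hhxy'.symm.trans this.symm)
    rw [hAinv _ h1, smul_inv_smul, hhxy]
  by_cases hwy : w = y
  · subst hwy
    rw [Equiv.swap_apply_left, Equiv.swap_apply_of_ne_of_ne hyy'.symm hy'x,
      hBinv w hyB, hiy, hhxy', hh _ hy'A]
  by_cases hwy' : w = y'
  · subst hwy'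
    rw [Equiv.swap_apply_right, Equiv.swap_apply_left, hiy']
    have h1 : h⁻¹ • x ∉ B := by
      intro hb
      have := hmeet (hAmem _ hxA) hb
      rw [inv_smul_eq_iff] at this
      exact hyx (hhxy.symm.trans this.symm)
    rw [hh' _ h1, smul_inv_smul]
  rw [Equiv.swap_apply_of_ne_of_ne hwy hwy', Equiv.swap_apply_of_ne_of_ne hwy hwx]
  have hu : h'⁻¹ • w ≠ x := fun e => hwy' (by rw [inv_smul_eq_iff] at e; rw [e, hhxy'])
  by_cases huA : h'⁻¹ • w ∈ A
  · have huB : h'⁻¹ • w ∉ B := fun hb => hu (hmeet huA hb)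
    have huw : h'⁻¹ • w = w := by
      have := hh' _ huB
      rwa [smul_inv_smul, eq_comm] at this
    rw [huw] at huA ⊢
    have hv : h⁻¹ • w ∉ B := fun hb => hwy (by
      have := hmeet (hAmem _ huA) hb
      rw [inv_smul_eq_iff, hhxy] at this
      exact this)
    rw [hh' _ hv, smul_inv_smul]
  · rw [hAinv _ huA, smul_inv_smul]
    refine hh w fun hwA => huA ?_
    have hwB : w ∉ B := fun hb => hwx (hmeet hwA hb)
    rw [hBinv w hwB]
    exact hwA

/-- Marggraff: a small Jordan set yields a three-cycle. -/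
theorem exists_threeCycle_of_small [DecidableEq Ω] [Fintype Ω] {Γ : Set Ω}
    (hprim : IsPreprimitive G Ω) (hJ : JordanSet G Γ)
    (h1 : 1 < Γ.ncard) (h2 : 2 * Γ.ncard < Nat.card Ω) :
    ∃ c : G, (toPerm c : Equiv.Perm Ω).IsThreeCycle := by
  classical
  obtain ⟨M, ⟨hMJ, hM1, hM2⟩, hMmax⟩ := Set.exists_max_image
    {U : Set Ω | JordanSet G U ∧ 1 < U.ncard ∧ 2 * U.ncard < Nat.card Ω} Set.ncard (Set.toFinite _)
    ⟨Γ, hJ, h1, h2⟩
  have htr := pretransitive_of_small hprim hMJ hM1 hM2 fun U hU hU2 => by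
    rcases Nat.lt_or_ge 1 U.ncard with hU1 | hU1
    · exact hMmax U ⟨hU, hU1, hU2⟩
    · omega
  obtain ⟨x, hx⟩ := Set.nonempty_of_ncard_ne_zero (s := M) (by omega)
  have hc := Set.ncard_compl M
  obtain ⟨R, hR, hRc⟩ := Finset.exists_subset_card_eq (s := (Mᶜ).toFinset) (n := M.ncard - 1)
    (by rw [← Set.ncard_eq_toFinset_card']; omega)
  have hxR : x ∉ R := fun h => Set.mem_toFinset.mp (hR h) hx
  obtain ⟨g, hg⟩ := exists_smul_image_eq htr (S := insert x R) (S' := M.toFinset)
    (by rw [Finset.card_insert_of_notMem hxR]; omega) (by rw [← Set.ncard_eq_toFinset_card'])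
  have hpre : ((g • ·) ⁻¹' M : Set Ω) = ↑(insert x R) := by
    refine Set.ext fun w => ⟨fun hw => ?_, fun hw => ?_⟩
    · have : g • w ∈ (insert x R).image (g • ·) := hg ▸ Set.mem_toFinset.mpr hw
      obtain ⟨w', hw', e⟩ := Finset.mem_image.mp this
      exact MulAction.injective g e ▸ hw'
    · have h3 := Finset.mem_image_of_mem (g • ·) (Finset.mem_coe.mp hw)
      rw [hg, Set.mem_toFinset] at h3
      exact h3
  have hI : M ∩ ((g • ·) ⁻¹' M : Set Ω) = {x} := (by
    rw [hpre]
    refine Set.ext fun w => ⟨fun ⟨hwM, hwS⟩ => ?_, fun e => ?_⟩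
    · rcases Finset.mem_insert.mp hwS with e | hwR
      · exact e
      · exact absurd hwM (Set.mem_toFinset.mp (hR hwR))
    · rw [Set.mem_singleton_iff] at e
      subst e
      exact ⟨hx, Finset.mem_insert_self _ _⟩)
  obtain ⟨y, hy, hyx⟩ := Set.exists_ne_of_one_lt_ncard (s := M) hM1 x
  obtain ⟨y', hy', hy'x⟩ := Set.exists_ne_of_one_lt_ncard (s := ((g • ·) ⁻¹' M : Set Ω))
    (by rw [ncard_pre]; exact hM1) x
  have hxB : x ∈ ((g • ·) ⁻¹' M : Set Ω) := (hI.symm.subset rfl).2
  obtain ⟨h, hh, hhx⟩ := hMJ x hx y hy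
  obtain ⟨h', hh', hhx'⟩ := hMJ.pre g x hxB y' hy'
  exact ⟨_, commutator_isThreeCycle hI hh hh' (hhx.trans_ne hyx) (hhx'.trans_ne hy'x)⟩

theorem alternatingGroup_le_range [DecidableEq Ω] [Fintype Ω] {Γ : Set Ω}
    (hprim : IsPreprimitive G Ω) (hJ : JordanSet G Γ)
    (h1 : 1 < Γ.ncard) (h2 : 2 * Γ.ncard < Nat.card Ω) :
    alternatingGroup Ω ≤ (toPermHom G Ω).range := by
  obtain ⟨c, hc⟩ := exists_threeCycle_of_small hprim hJ h1 h2
  have hp : IsPreprimitive (toPermHom G Ω).range Ω :=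
    IsPreprimitive.of_surjective (f := { toFun := id, map_smul' := fun _ _ => rfl : Ω →ₑ[(toPermHom G Ω).rangeRestrict] Ω })
      Function.surjective_id
  exact Equiv.Perm.alternatingGroup_le_of_isPreprimitive_of_isThreeCycle_mem hp hc ⟨c, rfl⟩

end H61
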