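import Mathlib
import Cfsg.Agent.CompLayer
import Cfsg.Agent.H75.Basic

/-!
Components of subgroups of an ambient group.
-/

set_option autoImplicit false

namespace H61

open Subgroup Cfsg

variable {G : Type*} [Group G]

/-- `L` is a component of the subgroup `K`. -/
def CompIn (K L : Subgroup G) : Prop := L ≤ K ∧ Cfsg.IsComponent (L.subgroupOf K)

theorem compIn_map_subtype {K : Subgroup G} {L : Subgroup K} (h : Cfsg.IsComponent L) :
    CompIn K (L.map K.subtype) := by
  refine ⟨map_subtype_le L, ?_⟩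
  rwa [subgroupOf, comap_map_eq_self_of_injective K.subtype_injective]

theorem layer_eq_bot_of_compIn {K : Subgroup G} (h : ∀ L, ¬ CompIn K L) : Cfsg.layer K = ⊥ :=
  le_bot_iff.mp (Comp.layer_le_iff.mpr fun _ hL => absurd (compIn_map_subtype hL) (h _))

theorem subgroupOf_isSubnormal_of_normal {H K : Subgroup G} (hn : K ≤ normalizer (H : Set G)) :
    (H.subgroupOf K).IsSubnormal :=
  (normal_subgroupOf_of_le_normalizer hn).isSubnormal

/-- A component of a normal subgroup is a component. -/
theorem CompIn.lift {H K L : Subgroup G} (hHK : H ≤ K) (hn : K ≤ normalizer (H : Set G))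
    (h : CompIn H L) : CompIn K L := by
  refine ⟨h.1.trans hHK, ?_⟩
  have h1 := Comp.isComponent_map_equiv (subgroupOfEquivOfLe hHK).symm h.2
  have h2 := Comp.isComponent_map_subtype (subgroupOf_isSubnormal_of_normal hn) h1
  have e : ((L.subgroupOf H).map (subgroupOfEquivOfLe hHK).symm.toMonoidHom).map (H.subgroupOf K).subtype =
      L.subgroupOf K := by
    ext x
    constructor
    · rintro ⟨_, ⟨y, hy, rfl⟩, rfl⟩
      exact hy
    · intro hx
      exact ⟨_, ⟨⟨x, h.1 hx⟩, hx, rfl⟩, rfl⟩
  rwa [e] at h2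

/-- A component contained in a subgroup is a component of it. -/
theorem CompIn.restrict {H K L : Subgroup G} (hLH : L ≤ H) (hHK : H ≤ K)
    (h : CompIn K L) : CompIn H L := by
  refine ⟨hLH, ?_⟩
  have h1 := Comp.isComponent_subgroupOf h.2 (H := H.subgroupOf K) fun x hx => hLH hx
  have h2 := Comp.isComponent_map_equiv (subgroupOfEquivOfLe hHK) h1
  have e : ((L.subgroupOf K).subgroupOf (H.subgroupOf K)).map (subgroupOfEquivOfLe hHK).toMonoidHom =
      L.subgroupOf H := by
    ext x
    constructor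
    · rintro ⟨y, hy, rfl⟩
      exact hy
    · intro hx
      exact ⟨⟨⟨x, hHK x.2⟩, x.2⟩, hx, rfl⟩
  rwa [e] at h2

/-- A component lies in, or commutes with, a subnormal subgroup. -/
theorem CompIn.le_or_commute [Finite G] {K L S : Subgroup G} (h : CompIn K L) (hSK : S ≤ K)
    (hS : (S.subgroupOf K).IsSubnormal) : L ≤ S ∨ L ≤ centralizer (S : Set G) := by
  rcases Comp.component_le_or_commute h.2 hS with h1 | h1
  · exact Or.inl fun x hx => h1 (show (⟨x, h.1 hx⟩ : K) ∈ L.subgroupOf K from hx)
  · refine Or.inr fun x hx => mem_centralizer_iff.mpr fun y hy => ?_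
    exact (congrArg Subtype.val (Comp.commute_of_commutator_eq_bot h1 (x := (⟨x, h.1 hx⟩ : K))
      (y := ⟨y, hSK hy⟩) hx hy)).symm

theorem CompIn.commute_of_isPGroup [Finite G] {K L S : Subgroup G} (h : CompIn K L) {p : ℕ}
    [Fact p.Prime] (hS : IsPGroup p S) (hn : K ≤ normalizer (S : Set G)) (hSK : S ≤ K) :
    L ≤ centralizer (S : Set G) := by
  have := normal_subgroupOf_of_le_normalizer hn
  have hp : IsPGroup p (S.subgroupOf K) := hS.comap_subtype
  have := hp.isNilpotent
  have h1 := Comp.component_commute_solvable_normal h.2 (H := S.subgroupOf K) inferInstance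
  intro x hx
  refine mem_centralizer_iff.mpr fun y hy => ?_
  exact (congrArg Subtype.val (Comp.commute_of_commutator_eq_bot h1 (x := (⟨x, h.1 hx⟩ : K))
    (y := ⟨y, hSK hy⟩) hx hy)).symm

theorem CompIn.not_le_centralizer [Finite G] {K L : Subgroup G} (h : CompIn K L) :
    ¬ L ≤ centralizer (L : Set G) := by
  intro hc
  refine Comp.isComponent_not_le_centralizer h.2 fun x hx => mem_centralizer_iff.mpr fun y hy => ?_
  exact Subtype.ext (mem_centralizer_iff.mp (hc hx) _ hy)

theorem CompIn.perfect {K L : Subgroup G} (h : CompIn K L) : ⁅L, L⁆ = L := by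
  have := congrArg (Subgroup.map K.subtype) (Comp.isComponent_perfect h.2)
  rwa [map_commutator, map_subgroupOf_eq_of_le h.1] at this

theorem mem_pCoreOf {p : ℕ} {K : Subgroup G} {x : K} :
    x ∈ Cfsg.pCore p K ↔ (x : G) ∈ Cfsg.pCoreOf p K := by
  refine ⟨fun h => ⟨x, h, rfl⟩, ?_⟩
  rintro ⟨y, hy, hxy⟩
  rwa [← K.subtype_injective hxy]

/-- A group whose Fitting subgroup is a `p`-core and whose layer is trivial. -/
theorem generalizedFitting_eq_pCore {X : Type*} [Group X] [Finite X] {p : ℕ} [Fact p.Prime]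
    (hl : Cfsg.layer X = ⊥) (h : ∀ s : ℕ, s.Prime → s ≠ p → Cfsg.pCore s X = ⊥) :
    Cfsg.generalizedFittingSubgroup X = Cfsg.pCore p X := by
  rw [Cfsg.generalizedFittingSubgroup, hl, bot_sup_eq, Comp.fitting_eq_iSup_pCore]
  refine le_antisymm (iSup_le fun s => ?_)
    (le_iSup (fun s : {s : ℕ // s.Prime} => Cfsg.pCore (s : ℕ) X) ⟨p, Fact.out⟩)
  by_cases hs : (s : ℕ) = p
  · rw [hs]
  · rw [h s s.2 hs]; exact bot_le

/-- A non-trivial finite group has a component or a non-trivial `p`-core. -/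
theorem exists_pCore_ne_bot_or_layer_ne_bot {X : Type*} [Group X] [Finite X] [Nontrivial X] :
    Cfsg.layer X ≠ ⊥ ∨ ∃ p : ℕ, p.Prime ∧ Cfsg.pCore p X ≠ ⊥ := by
  by_contra h
  push Not at h
  have hF : Cfsg.generalizedFittingSubgroup X = ⊥ := by
    rw [Cfsg.generalizedFittingSubgroup, h.1, bot_sup_eq, Comp.fitting_eq_iSup_pCore]
    exact le_bot_iff.mp (iSup_le fun s => (h.2 s s.2).le)
  have := Comp.centralizer_fStar_le (G := X)
  rw [hF] at this
  obtain ⟨x, hx⟩ := exists_ne (1 : X)
  exact hx (mem_bot.mp (this (mem_centralizer_iff.mpr fun y hy => by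
    rw [SetLike.mem_coe, mem_bot] at hy
    rw [hy, one_mul, mul_one])))

end H61
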