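import Mathlib
import Cfsg.Agent.CompLayer
import Cfsg.Agent.H61.CompIn
import Cfsg.Agent.H75.Basic
import Cfsg.Agent.S2820

/-!
The Thompson–Wielandt theorem for two distinct maximal core-free subgroups.
-/

set_option autoImplicit false

namespace H61

open Subgroup Cfsg
open scoped commutatorElement
open H70 (cj)

variable {G : Type*} [Group G]

/-- The core of `Y` in `M`, as a subgroup of the ambient group. -/
def coreIn (M Y : Subgroup G) : Subgroup G := (Y.subgroupOf M).normalCore.map M.subtype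

theorem mem_coreIn {M Y : Subgroup G} {x : G} :
    x ∈ coreIn M Y ↔ x ∈ M ∧ ∀ k ∈ M, k * x * k⁻¹ ∈ Y := by
  constructor
  · rintro ⟨y, hy, rfl⟩
    exact ⟨y.2, fun k hk => hy ⟨k, hk⟩⟩
  · rintro ⟨hx, h⟩
    exact ⟨⟨x, hx⟩, fun k => h k k.2, rfl⟩

theorem coreIn_le_left (M Y : Subgroup G) : coreIn M Y ≤ M := fun _ hx => (mem_coreIn.mp hx).1

theorem coreIn_le_right (M Y : Subgroup G) : coreIn M Y ≤ Y := fun x hx => by
  simpa using (mem_coreIn.mp hx).2 1 (one_mem _)

theorem le_normalizer_coreIn (M Y : Subgroup G) : M ≤ normalizer (coreIn M Y : Set G) := by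
  refine H75.le_normalizer_of_conj fun k hk x hx => mem_coreIn.mpr ?_
  obtain ⟨h1, h2⟩ := mem_coreIn.mp hx
  refine ⟨mul_mem (mul_mem hk h1) (inv_mem hk), fun l hl => ?_⟩
  simpa [mul_assoc] using h2 (l * k) (mul_mem hl hk)

theorem le_coreIn {M X Y : Subgroup G} (hXY : X ≤ Y) (hXM : X ≤ M)
    (hn : M ≤ normalizer (X : Set G)) : X ≤ coreIn M Y := fun _ hx =>
  mem_coreIn.mpr ⟨hXM hx, fun _ hk => hXY (H75.conj_mem_of_mem_normalizer (hn hk) hx)⟩

/-- The first core. -/
def core1 (M N : Subgroup G) : Subgroup G := coreIn M (M ⊓ N)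

/-- The second core. -/
def core2 (M N : Subgroup G) : Subgroup G := coreIn M (core1 M N ⊓ core1 N M)

theorem core1_le_inf (M N : Subgroup G) : core1 M N ≤ M ⊓ N := coreIn_le_right _ _

theorem core1_le_left (M N : Subgroup G) : core1 M N ≤ M := coreIn_le_left _ _

theorem core1_le_right (M N : Subgroup G) : core1 M N ≤ N := (core1_le_inf M N).trans inf_le_right

theorem le_normalizer_core1 (M N : Subgroup G) : M ≤ normalizer (core1 M N : Set G) :=
  le_normalizer_coreIn _ _

theorem le_core1 {M N X : Subgroup G} (hM : X ≤ M) (hN : X ≤ N) (hn : M ≤ normalizer (X : Set G)) :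
    X ≤ core1 M N := le_coreIn (le_inf hM hN) hM hn

theorem core2_le_core1 (M N : Subgroup G) : core2 M N ≤ core1 M N :=
  (coreIn_le_right _ _).trans inf_le_left

theorem core2_le_core1' (M N : Subgroup G) : core2 M N ≤ core1 N M :=
  (coreIn_le_right _ _).trans inf_le_right

theorem core2_le_left (M N : Subgroup G) : core2 M N ≤ M := coreIn_le_left _ _

theorem le_normalizer_core2 (M N : Subgroup G) : M ≤ normalizer (core2 M N : Set G) :=
  le_normalizer_coreIn _ _

theorem cj_pCoreOf_le (s : ℕ) (g : G) (M : Subgroup G) :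
    cj g (pCoreOf s M) ≤ pCoreOf s (cj g M) := by
  refine H75.le_pCoreOf (H70.cj_mono g (H75.pCoreOf_le M)) ?_ ((H75.isPGroup_pCoreOf M).map _)
  refine H75.le_normalizer_of_conj ?_
  rintro _ ⟨k, hk, rfl⟩ _ ⟨a, ha, rfl⟩
  refine ⟨k * a * k⁻¹, H75.conj_mem_of_mem_normalizer (H75.le_normalizer_pCoreOf M hk) ha, ?_⟩
  simp [mul_assoc]

theorem card_pCoreOf_cj [Finite G] (s : ℕ) (g : G) (M : Subgroup G) :
    Nat.card (pCoreOf s (cj g M)) = Nat.card (pCoreOf s M) := by
  refine le_antisymm ?_ ?_
  · have := Subgroup.card_le_of_le (cj_pCoreOf_le s g⁻¹ (cj g M))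
    rwa [H70.card_cj, H70.cj_cj, inv_mul_cancel, H70.cj_one] at this
  · have := Subgroup.card_le_of_le (cj_pCoreOf_le s g M)
    rwa [H70.card_cj] at this

/-- The hypotheses of the Thompson–Wielandt theorem. -/
structure TWPair (M N : Subgroup G) : Prop where
  coatomLeft : IsCoatom M
  coatomRight : IsCoatom N
  coreLeft : M.normalCore = ⊥
  coreRight : N.normalCore = ⊥
  ne : M ≠ N
  card_eq : ∀ s : ℕ, Nat.card (pCoreOf s M) = Nat.card (pCoreOf s N)

theorem TWPair.symm {M N : Subgroup G} (h : TWPair M N) : TWPair N M :=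
  ⟨h.coatomRight, h.coatomLeft, h.coreRight, h.coreLeft, h.ne.symm, fun s => (h.card_eq s).symm⟩

theorem twPair_of_conj [Finite G] {M N : Subgroup G} (hmax : IsCoatom M) (g : G)
    (hconj : N = cj g M) (hne : M ≠ N) (hcore : M.normalCore = ⊥) : TWPair M N where
  coatomLeft := hmax
  coatomRight := by
    rw [hconj]
    exact (OrderIso.isCoatom_iff (MulAut.conj g).mapSubgroup M).mpr hmax
  coreLeft := hcore
  coreRight := by
    refine le_bot_iff.mp ?_
    have h1 : N.normalCore ≤ M := by
      intro x hx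
      have h2 : g * x * g⁻¹ ∈ cj g M := hconj ▸ N.normalCore_le (N.normalCore_normal.conj_mem x hx g)
      simpa [H70.mem_cj, mul_assoc] using h2
    rw [← hcore]
    exact normal_le_normalCore.mpr h1
  ne := hne
  card_eq := fun s => by rw [hconj, card_pCoreOf_cj]

theorem normalizer_eq_of_coatom {M X : Subgroup G} (hM : IsCoatom M) (hcore : M.normalCore = ⊥)
    (hX : X ≠ ⊥) (hXM : X ≤ M) (hn : M ≤ normalizer (X : Set G)) :
    normalizer (X : Set G) = M := by
  rcases eq_or_lt_of_le hn with h | h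
  · exact h.symm
  · exfalso
    have := H75.normal_of_top_le (A := X) (hM.2 _ h).ge
    exact hX (le_bot_iff.mp (hcore ▸ normal_le_normalCore.mpr hXM))

theorem TWPair.false_of_normalized [Finite G] {M N X : Subgroup G} (h : TWPair M N) (hX : X ≠ ⊥)
    (hXM : X ≤ M) (hXN : X ≤ N) (hM : M ≤ normalizer (X : Set G))
    (hN : N ≤ normalizer (X : Set G)) : False :=
  h.ne ((normalizer_eq_of_coatom h.coatomLeft h.coreLeft hX hXM hM).symm.trans
    (normalizer_eq_of_coatom h.coatomRight h.coreRight hX hXN hN))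

variable [Finite G]

/-- If the second core is not an `s`-group then both maximal subgroups have trivial `O_s`. -/
theorem TWPair.pCoreOf_eq_bot {M N : Subgroup G} (h : TWPair M N) {s : ℕ} (hs : s.Prime)
    (hA : ¬ IsPGroup s (core2 M N)) : pCoreOf s M = ⊥ ∧ pCoreOf s N = ⊥ := by
  haveI := Fact.mk hs
  set A2 := core2 M N with hA2
  set B1 := core1 N M with hB1
  set T := H75.resOf s A2 with hT
  have hTB1 : T ≤ B1 := (H75.resOf_le _).trans (core2_le_core1' M N)
  have hTM : T ≤ M := (H75.resOf_le _).trans (core2_le_left M N)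
  have hTn : M ≤ normalizer (T : Set G) :=
    (le_normalizer_core2 M N).trans (H75.normalizer_le_normalizer_resOf _)
  have hTne : T ≠ ⊥ := by
    intro hb
    refine hA (H75.isPGroup_of_no_coprime fun x hx ho => ?_)
    have : x ∈ T := subset_closure ⟨hx, ho⟩
    rwa [hb, mem_bot] at this
  have hTnorm : normalizer (T : Set G) = M :=
    normalizer_eq_of_coatom h.coatomLeft h.coreLeft hTne hTM hTn
  set W := pCoreOf s N with hW
  have hB1N : B1 ≤ N := core1_le_left N M
  have hB1M : B1 ≤ M := core1_le_right N M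
  have hWN : W ≤ N := H75.pCoreOf_le _
  have hNW : N ≤ normalizer (W : Set G) := H75.le_normalizer_pCoreOf _
  -- `W` normalises `T`
  have hWT : W ≤ normalizer (T : Set G) := by
    have hTN : T ≤ N := hTB1.trans hB1N
    have h1 : (T.subgroupOf N).IsSubnormal := by
      refine IsSubnormal.step _ (B1.subgroupOf N) (fun x hx => hTB1 hx)
        (subgroupOf_isSubnormal_of_normal (le_normalizer_core1 N M)) ?_
      refine normal_subgroupOf_of_le_normalizer fun x hx => ?_
      exact H75.le_normalizer_of_conj (K := B1.subgroupOf N)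
        (fun k hk a ha => H75.conj_mem_of_mem_normalizer (A := T) (g := (k : G)) (a := (a : G))
          (hTn (hB1M hk)) ha) hx
    have h2 : H75.resOf s (T.subgroupOf N) = T.subgroupOf N := by
      refine le_antisymm (H75.resOf_le _) fun x hx => ?_
      have hx' : (x : G) ∈ (H75.resOf s (T.subgroupOf N)).map N.subtype := by
        have : T ≤ (H75.resOf s (T.subgroupOf N)).map N.subtype := by
          refine (H75.resOf_resOf A2).ge.trans ((closure_le _).mpr ?_)
          rintro z ⟨hz, ho⟩
          refine ⟨⟨z, hTN hz⟩, subset_closure ⟨hz, ?_⟩, rfl⟩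
          rwa [orderOf_mk]
        exact this hx
      obtain ⟨y, hy, hyx⟩ := hx'
      rwa [← N.subtype_injective hyx]
    have h3 := (Cfsg.Agent.S2820.result (p := s) (Cfsg.pCore s N) (T.subgroupOf N)
      (H1.pCore_normal' s N).isSubnormal h1 (H1.isPGroup_pCore s N)
      (by rw [H75.map_pResidual_eq_resOf]; exact h2)).1
    rintro _ ⟨w, hw, rfl⟩
    refine H75.le_normalizer_of_conj (K := (Cfsg.pCore s N).map N.subtype) ?_ (mem_map_of_mem _ hw)
    rintro _ ⟨k, hk, rfl⟩ a ha
    exact H75.conj_mem_of_mem_normalizer (A := T.subgroupOf N) (h3 hk)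
      (show (⟨a, hTN ha⟩ : N) ∈ T.subgroupOf N from ha)
  have hWM : W ≤ M := hWT.trans hTnorm.le
  have hWB1 : W ≤ B1 := le_core1 hWN hWM hNW
  set X := pCoreOf s M with hX
  have hXM : X ≤ M := H75.pCoreOf_le _
  have hMX : M ≤ normalizer (X : Set G) := H75.le_normalizer_pCoreOf _
  have hXB1 : X ⊓ B1 ≤ W := by
    refine (H75.pCoreOf_inf_le hB1M).trans ?_
    exact H75.le_pCoreOf ((H75.pCoreOf_le _).trans hB1N)
      ((le_normalizer_core1 N M).trans (H75.normalizer_le_normalizer_pCoreOf _))
      (H75.isPGroup_pCoreOf _)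
  -- `X ⊓ N ≤ W`
  have hXN : X ⊓ N ≤ W := by
    intro x hx
    obtain ⟨hxX, hxN⟩ := mem_inf.mp hx
    refine hXB1 (mem_inf.mpr ⟨hxX, mem_coreIn.mpr ⟨hxN, fun k hk => ?_⟩⟩)
    refine mem_inf.mpr ⟨mul_mem (mul_mem hk hxN) (inv_mem hk), hTnorm ▸ ?_⟩
    -- `x` normalises `T' = k⁻¹ T k`
    set T' := cj k⁻¹ T with hT'
    have hT'B1 : T' ≤ B1 := (H70.cj_mono _ hTB1).trans
      (H70.cj_eq_self_iff.mpr (le_normalizer_core1 N M (inv_mem hk))).le
    have hWT' : W ≤ normalizer (T' : Set G) := by
      refine H75.le_normalizer_of_conj fun w hw a ha => ?_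
      rw [hT', H70.mem_cj] at ha ⊢
      have := H75.conj_mem_of_mem_normalizer (hWT (H75.conj_mem_of_mem_normalizer (hNW hk) hw)) ha
      simpa [mul_assoc] using this
    have hgen : ∀ y ∈ T', (orderOf y).Coprime s → x * y * x⁻¹ ∈ T' := by
      intro y hy ho
      have hc : ⁅x, y⁆ ∈ X ⊓ B1 := by
        refine mem_inf.mpr ⟨?_, ?_⟩
        · rw [commutatorElement_def, mul_assoc, mul_assoc]
          refine mul_mem hxX ?_
          rw [← mul_assoc]
          exact H75.conj_mem_of_mem_normalizer (hMX (hB1M (hT'B1 hy))) (inv_mem hxX)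
        · rw [commutatorElement_def]
          exact mul_mem (H75.conj_mem_of_mem_normalizer (le_normalizer_core1 N M hxN) (hT'B1 hy))
            (inv_mem (hT'B1 hy))
      have hmem : x * y * x⁻¹ ∈ T' ⊔ W := by
        have : x * y * x⁻¹ = ⁅x, y⁆ * y := by rw [commutatorElement_def]; group
        rw [this]
        exact mul_mem (mem_sup_right (hXB1 hc)) (mem_sup_left hy)
      have ho' : (orderOf (x * y * x⁻¹)).Coprime s := by
        rw [show x * y * x⁻¹ = MulAut.conj x y from rfl]
        exact Nat.Coprime.coprime_dvd_left (orderOf_map_dvd (MulAut.conj x).toMonoidHom y) ho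
      exact H75.resOf_le_of_sup (sup_le le_normalizer hWT') (H75.isPGroup_pCoreOf N) rfl
        (subset_closure ⟨hmem, ho'⟩)
    have hxT' : x ∈ normalizer (T' : Set G) := by
      refine H70.cj_eq_self_iff.mp (H70.eq_of_cj_le ?_)
      have hg : T' = closure {y | y ∈ T' ∧ (orderOf y).Coprime s} := by
        refine le_antisymm ?_ (H75.resOf_le _)
        have : T = H75.resOf s T := (H75.resOf_resOf A2).symm
        rw [hT', cj]
        conv_lhs => rw [this, H75.resOf, MonoidHom.map_closure]
        refine closure_mono ?_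
        rintro _ ⟨z, ⟨hz, ho⟩, rfl⟩
        exact ⟨mem_map_of_mem _ hz, Nat.Coprime.coprime_dvd_left (orderOf_map_dvd _ z) ho⟩
      conv_lhs => rw [hg, cj, MonoidHom.map_closure]
      rw [closure_le]
      rintro _ ⟨y, ⟨hy, ho⟩, rfl⟩
      exact hgen y hy ho
    refine H70.cj_eq_self_iff.mp ?_
    have e := congrArg (cj k) (H70.cj_eq_self_iff.mpr hxT')
    rw [hT', H70.cj_cj, H70.cj_cj, H70.cj_cj, mul_inv_cancel, H70.cj_one] at e
    simpa [mul_assoc] using e
  -- conclusion
  have hWbot : W = ⊥ := by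
    by_contra hWne
    have hWnorm : normalizer (W : Set G) = N :=
      normalizer_eq_of_coatom h.coatomRight h.coreRight hWne hWN hNW
    have hR : IsPGroup s (W ⊔ X : Subgroup G) :=
      (H75.isPGroup_pCoreOf N).to_sup_of_normal_right' (H75.isPGroup_pCoreOf M) (hWM.trans hMX)
    have hRN : (W ⊔ X) ⊓ N ≤ W := by
      intro z hz
      obtain ⟨hzR, hzN⟩ := mem_inf.mp hz
      have hz' : z ∈ ((W ⊔ X : Subgroup G) : Set G) := hzR
      rw [coe_mul_of_left_le_normalizer_right W X (hWM.trans hMX)] at hz'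
      obtain ⟨w, hw, x, hx, rfl⟩ := Set.mem_mul.mp hz'
      refine mul_mem hw (hXN (mem_inf.mpr ⟨hx, ?_⟩))
      simpa using mul_mem (inv_mem (hWN hw)) hzN
    have hXW : X ≤ W := by
      by_contra hXW
      have hlt : W < W ⊔ X := lt_of_le_of_ne le_sup_left fun e => hXW (le_sup_right.trans e.ge)
      have := H75.lt_inf_normalizer hR hlt
      rw [hWnorm] at this
      exact this.not_ge hRN
    have hXeq : X = W := Subgroup.eq_of_le_of_card_ge hXW (h.card_eq s).ge
    exact h.false_of_normalized hWne hWM hWN (hXeq ▸ hMX) hNW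
  refine ⟨?_, hWbot⟩
  refine Subgroup.card_eq_one.mp ?_
  rw [h.card_eq s, ← hW, hWbot, Subgroup.card_bot]

theorem CompIn.conj {M L : Subgroup G} (h : CompIn M L) {k : G} (hk : k ∈ M) :
    CompIn M (cj k L) := by
  have h1 := Comp.isComponent_map_equiv (MulAut.conj (⟨k, hk⟩ : M)) h.2
  refine ⟨(H70.cj_mono k h.1).trans (H70.cj_of_mem hk).le, ?_⟩
  have e : (L.subgroupOf M).map (MulAut.conj (⟨k, hk⟩ : M)).toMonoidHom = (cj k L).subgroupOf M := by
    ext x
    constructor
    · rintro ⟨y, hy, rfl⟩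
      exact ⟨(y : G), hy, rfl⟩
    · intro hx
      have hx' : k⁻¹ * (x : G) * k ∈ L := H70.mem_cj.mp hx
      refine ⟨(⟨k, hk⟩ : M)⁻¹ * x * ⟨k, hk⟩, hx', ?_⟩
      simp [mul_assoc]
  rwa [e] at h1

/-- Components of `M` lie in the first core. -/
theorem TWPair.comp_le_core1 {M N : Subgroup G} (h : TWPair M N) (hB2 : core2 N M ≠ ⊥)
    {L : Subgroup G} (hL : CompIn M L) : L ≤ core1 M N := by
  set B2 := core2 N M with hB2def
  have hB2M : B2 ≤ M := (core2_le_core1' N M).trans (core1_le_left M N)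
  have hsub : (B2.subgroupOf M).IsSubnormal := by
    refine IsSubnormal.step _ ((core1 M N).subgroupOf M) (fun x hx => core2_le_core1' N M hx)
      (subgroupOf_isSubnormal_of_normal (le_normalizer_core1 M N)) ?_
    refine normal_subgroupOf_of_le_normalizer fun x hx => ?_
    exact H75.le_normalizer_of_conj (K := (core1 M N).subgroupOf M)
      (fun k hk a ha => H75.conj_mem_of_mem_normalizer (A := B2) (g := (k : G)) (a := (a : G))
        (le_normalizer_core2 N M (core1_le_right M N hk)) ha) hx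
  have key : ∀ {L : Subgroup G}, CompIn M L → L ≤ N := by
    intro L hL
    rw [← normalizer_eq_of_coatom h.coatomRight h.coreRight hB2 (core2_le_left N M)
      (le_normalizer_core2 N M)]
    rcases hL.le_or_commute hB2M hsub with h1 | h1
    · exact h1.trans le_normalizer
    · exact h1.trans (centralizer_le_normalizer _)
  intro x hx
  exact mem_coreIn.mpr ⟨hL.1 hx, fun k hk => mem_inf.mpr
    ⟨mul_mem (mul_mem hk (hL.1 hx)) (inv_mem hk),
      key (hL.conj hk) (H70.mem_cj.mpr (by simpa [mul_assoc] using hx))⟩⟩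

theorem TWPair.compIn_of_compIn {M N : Subgroup G} (h : TWPair M N) (hA2 : core2 M N ≠ ⊥)
    (hB2 : core2 N M ≠ ⊥) {L : Subgroup G} (hL : CompIn M L) : CompIn N L := by
  have hLA1 := h.comp_le_core1 hB2 hL
  have hD : CompIn (M ⊓ N) L := (hL.restrict hLA1 (core1_le_left M N)).lift (core1_le_inf M N)
    (inf_le_left.trans (le_normalizer_core1 M N))
  have hB1D : core1 N M ≤ M ⊓ N := (core1_le_inf N M).trans (inf_comm N M).le
  have hDB1 : M ⊓ N ≤ normalizer (core1 N M : Set G) :=
    inf_le_right.trans (le_normalizer_core1 N M)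
  rcases hD.le_or_commute hB1D (subgroupOf_isSubnormal_of_normal hDB1) with h1 | h1
  · exact (hD.restrict h1 hB1D).lift (core1_le_left N M) (le_normalizer_core1 N M)
  exfalso
  have hLN : L ≤ N := hLA1.trans (core1_le_right M N)
  -- `L` centralises `E(N)`
  have hcE : ∀ L' : Subgroup G, CompIn N L' → L ≤ centralizer (L' : Set G) := fun L' hL' =>
    h1.trans (centralizer_le (h.symm.comp_le_core1 hA2 hL'))
  -- `L` centralises every `O_q(N)`
  have hcP : ∀ q : ℕ, q.Prime → L ≤ centralizer (pCoreOf q N : Set G) := by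
    intro q hq
    haveI := Fact.mk hq
    by_cases hA : IsPGroup q (core2 M N)
    swap
    · rw [(h.pCoreOf_eq_bot hq hA).2]
      intro x _
      rw [mem_centralizer_iff]
      intro y hy
      rw [SetLike.mem_coe, mem_bot] at hy
      rw [hy, one_mul, mul_one]
    set W := pCoreOf q N with hW
    have hWN : W ≤ N := H75.pCoreOf_le _
    have hNW : N ≤ normalizer (W : Set G) := H75.le_normalizer_pCoreOf _
    have hW0 : L ≤ centralizer ((M ⊓ W : Subgroup G) : Set G) :=
      hD.commute_of_isPGroup ((H75.isPGroup_pCoreOf N).to_inf_right)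
        ((le_inf (inf_le_left.trans le_normalizer) (inf_le_right.trans hNW)).trans
          (H75.normalizer_inf_le_normalizer_inf _ _))
        (inf_le_inf_left M hWN)
    have hA2W : core2 M N ≤ W := by
      refine (H75.le_pCoreOf (core2_le_core1' M N)
        ((core1_le_right N M).trans (le_normalizer_core2 M N)) hA).trans ?_
      exact H75.le_pCoreOf ((H75.pCoreOf_le _).trans (core1_le_left N M))
        ((le_normalizer_core1 N M).trans (H75.normalizer_le_normalizer_pCoreOf _))
        (H75.isPGroup_pCoreOf _)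
    have hC : ∀ w ∈ W, w ∈ centralizer ((M ⊓ W : Subgroup G) : Set G) → w ∈ M ⊓ W := by
      intro w hw hwc
      refine mem_inf.mpr ⟨?_, hw⟩
      rw [← normalizer_eq_of_coatom h.coatomLeft h.coreLeft hA2 (core2_le_left M N)
        (le_normalizer_core2 M N)]
      exact centralizer_le_normalizer _
        (centralizer_le (le_inf (core2_le_left M N) hA2W) hwc)
    have hgen : ∀ y ∈ L, ¬ q ∣ orderOf y → y ∈ centralizer (W : Set G) := by
      intro y hy hqy
      refine mem_centralizer_iff.mpr fun w hw => ?_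
      refine (Comp.pxq_lemma (P := M ⊓ W) (H75.isPGroup_pCoreOf N).to_inf_right hqy ?_ W
        (H75.isPGroup_pCoreOf N) (inf_le_right.trans le_normalizer) (hNW (hLN hy)) ?_ w hw).symm
      · exact fun x hx => (mem_centralizer_iff.mp (hW0 hy) x hx).symm
      · exact fun v hv hvc => (mem_centralizer_iff.mp (hW0 hy) v (hC v hv hvc)).symm
    refine (Comp.perfect_le_closure_not_dvd q hD.perfect).trans ((closure_le _).mpr ?_)
    rintro y ⟨hy, hqy⟩
    exact hgen y hy hqy
  -- so `L` centralises `F*(N)`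
  have hcF : L.subgroupOf N ≤ centralizer (Cfsg.generalizedFittingSubgroup N : Set N) := by
    rw [le_centralizer_iff, Cfsg.generalizedFittingSubgroup, sup_le_iff]
    refine ⟨Comp.layer_le_iff.mpr fun L' hL' => ?_, ?_⟩
    · rw [le_centralizer_iff]
      intro x hx
      refine mem_centralizer_iff.mpr fun y hy => Subtype.ext ?_
      exact mem_centralizer_iff.mp (hcE _ (compIn_map_subtype hL') hx) _ (mem_map_of_mem _ hy)
    · rw [Comp.fitting_eq_iSup_pCore]
      refine iSup_le fun q => ?_
      rw [le_centralizer_iff]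
      intro x hx
      refine mem_centralizer_iff.mpr fun y hy => Subtype.ext ?_
      exact mem_centralizer_iff.mp (hcP q q.2 hx) _ (mem_map_of_mem _ hy)
  have hLF : L.subgroupOf N ≤ Cfsg.generalizedFittingSubgroup N :=
    hcF.trans Comp.centralizer_fStar_le
  refine hD.not_le_centralizer fun x hx => mem_centralizer_iff.mpr fun y hy => ?_
  exact congrArg Subtype.val (mem_centralizer_iff.mp
    (hcF (show (⟨x, hLN hx⟩ : N) ∈ L.subgroupOf N from hx)) _
    (hLF (show (⟨y, hLN hy⟩ : N) ∈ L.subgroupOf N from hy)))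

theorem TWPair.not_compIn {M N : Subgroup G} (h : TWPair M N) (hA2 : core2 M N ≠ ⊥)
    (hB2 : core2 N M ≠ ⊥) (L : Subgroup G) : ¬ CompIn M L := by
  intro hL
  set E := (Cfsg.layer M).map M.subtype with hE
  have key : ∀ {M N : Subgroup G}, TWPair M N → core2 M N ≠ ⊥ → core2 N M ≠ ⊥ →
      (Cfsg.layer M).map M.subtype ≤ (Cfsg.layer N).map N.subtype := by
    intro M N h hA hB
    rw [map_le_iff_le_comap, Comp.layer_le_iff]
    intro L' hL'
    have h1 := h.compIn_of_compIn hA hB (compIn_map_subtype hL')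
    rw [← map_le_iff_le_comap, ← map_subgroupOf_eq_of_le h1.1]
    exact Subgroup.map_mono (Comp.le_layer h1.2)
  have hEN : E = (Cfsg.layer N).map N.subtype :=
    le_antisymm (key h hA2 hB2) (key h.symm hB2 hA2)
  have hle : L ≤ E := by
    rw [hE, ← map_subgroupOf_eq_of_le hL.1]
    exact Subgroup.map_mono (Comp.le_layer hL.2)
  have hne : E ≠ ⊥ := fun hb => Comp.isComponent_ne_bot hL.2 (by
    rw [hb, le_bot_iff] at hle
    rw [hle, bot_subgroupOf])
  refine h.false_of_normalized hne (map_subtype_le _) (hEN ▸ map_subtype_le _)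
    (le_normalizer.trans (H75.normalizer_le_normalizer_map_characteristic M _)) ?_
  rw [hEN]
  exact le_normalizer.trans (H75.normalizer_le_normalizer_map_characteristic N _)

/-- The Thompson–Wielandt theorem. -/
theorem TWPair.exists_prime {M N : Subgroup G} (h : TWPair M N) (hA2 : core2 M N ≠ ⊥)
    (hB2 : core2 N M ≠ ⊥) :
    ∃ p : ℕ, p.Prime ∧ IsPGroup p (core2 M N) ∧ IsPGroup p (core2 N M) ∧
      Cfsg.generalizedFittingSubgroup M = Cfsg.pCore p M ∧
      Cfsg.generalizedFittingSubgroup (core1 M N) = Cfsg.pCore p (core1 M N) ∧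
      Cfsg.generalizedFittingSubgroup N = Cfsg.pCore p N ∧
      Cfsg.generalizedFittingSubgroup (core1 N M) = Cfsg.pCore p (core1 N M) := by
  have hMlayer : Cfsg.layer M = ⊥ := layer_eq_bot_of_compIn (h.not_compIn hA2 hB2)
  have hNlayer : Cfsg.layer N = ⊥ := layer_eq_bot_of_compIn (h.symm.not_compIn hB2 hA2)
  haveI : Nontrivial M := by
    rw [nontrivial_iff_ne_bot]
    exact fun hb => hA2 (le_bot_iff.mp (hb ▸ core2_le_left M N))
  obtain hl | ⟨p, hp, hpM⟩ := exists_pCore_ne_bot_or_layer_ne_bot (X := M)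
  · exact absurd hMlayer hl
  haveI := Fact.mk hp
  rw [Ne, ← H75.pCore_eq_bot_iff] at hpM
  have hA : IsPGroup p (core2 M N) := by
    by_contra hA
    exact hpM (h.pCoreOf_eq_bot hp hA).1
  have hB : IsPGroup p (core2 N M) := by
    by_contra hB
    exact hpM (h.symm.pCoreOf_eq_bot hp hB).2
  have hbot : ∀ s : ℕ, s.Prime → s ≠ p → pCoreOf s M = ⊥ ∧ pCoreOf s N = ⊥ := by
    intro s hs hsp
    refine h.pCoreOf_eq_bot hs fun hAs => hA2 ?_
    haveI := Fact.mk hs
    exact disjoint_self.mp (IsPGroup.disjoint_of_ne s p hsp _ _ hAs hA)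
  have sub : ∀ {M N : Subgroup G}, Cfsg.layer M = ⊥ → (∀ s : ℕ, s.Prime → s ≠ p → pCoreOf s M = ⊥) →
      Cfsg.generalizedFittingSubgroup (core1 M N) = Cfsg.pCore p (core1 M N) := by
    intro M N hl hs
    refine generalizedFitting_eq_pCore (layer_eq_bot_of_compIn fun L hL => ?_) fun s hs1 hs2 => ?_
    · have h1 := (hL.lift (core1_le_left M N) (le_normalizer_core1 M N)).2
      have h2 := Comp.le_layer h1
      rw [hl, le_bot_iff] at h2
      exact Comp.isComponent_ne_bot h1 h2
    · haveI := Fact.mk hs1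
      rw [← H75.pCore_eq_bot_iff, ← le_bot_iff, ← hs s hs1 hs2]
      exact H75.le_pCoreOf ((H75.pCoreOf_le _).trans (core1_le_left M N))
        ((le_normalizer_core1 M N).trans (H75.normalizer_le_normalizer_pCoreOf _))
        (H75.isPGroup_pCoreOf _)
  refine ⟨p, hp, hA, hB, generalizedFitting_eq_pCore hMlayer fun s h1 h2 => ?_,
    sub hMlayer fun s h1 h2 => (hbot s h1 h2).1,
    generalizedFitting_eq_pCore hNlayer fun s h1 h2 => ?_,
    sub hNlayer fun s h1 h2 => (hbot s h1 h2).2⟩
  · exact H75.pCore_eq_bot_iff.mp (hbot s h1 h2).1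
  · exact H75.pCore_eq_bot_iff.mp (hbot s h1 h2).2

end H61
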