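import Mathlib
import Cfsg.Agent.H61.ThompsonWielandt

/-!
Wielandt's index bound for the second core, and the two-point stabiliser setting.
-/

set_option autoImplicit false

namespace H61

open Subgroup Cfsg MulAction
open scoped Nat
open H70 (cj)

theorem index_normalCore_dvd_factorial {X : Type*} [Group X] [Finite X] (H : Subgroup X) :
    H.normalCore.index ∣ (H.index)! := by
  rw [normalCore_eq_ker, index_ker, index_eq_card, ← Nat.card_perm]
  exact card_subgroup_dvd_card _

theorem relIndex_normalCore_dvd {X : Type*} [Group X] [Finite X] (H A : Subgroup X) (hA : A ≤ H) :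
    H.normalCore.relIndex A ∣ (H.index - 1)! := by
  rw [normalCore_eq_ker, relIndex_ker]
  set q₀ : X ⧸ H := ((1 : X) : X ⧸ H) with hq₀
  have hle : A.map (toPermHom X (X ⧸ H)) ≤ stabilizer (Equiv.Perm (X ⧸ H)) q₀ := by
    rintro _ ⟨a, ha, rfl⟩
    rw [mem_stabilizer_iff]
    show a • q₀ = q₀
    rw [hq₀, Quotient.smul_mk, QuotientGroup.eq]
    simpa using hA ha
  refine (Subgroup.card_dvd_of_le hle).trans (dvd_of_eq ?_)
  haveI : IsPretransitive (Equiv.Perm (X ⧸ H)) (X ⧸ H) :=
    ⟨fun x y => by classical exact ⟨Equiv.swap x y, Equiv.swap_apply_left x y⟩⟩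
  have h1 := (stabilizer (Equiv.Perm (X ⧸ H)) q₀).card_mul_index
  rw [index_stabilizer_of_transitive, Nat.card_perm, ← index_eq_card] at h1
  have hpos : 0 < H.index := Nat.pos_of_ne_zero index_ne_zero_of_finite
  rw [← Nat.mul_factorial_pred hpos.ne', mul_comm H.index] at h1
  exact Nat.eq_of_mul_eq_mul_right hpos h1

theorem index_iInf_dvd {X : Type*} [Group X] {ι : Type*} [Fintype ι] (S : ι → Subgroup X)
    [∀ i, (S i).Normal] : (⨅ i, S i).index ∣ ∏ i, (S i).index := by
  set f : X →* ∀ i, X ⧸ S i := MonoidHom.pi fun i => QuotientGroup.mk' (S i) with hf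
  have hk : f.ker = ⨅ i, S i := by
    ext x
    simp [hf, mem_iInf, funext_iff]
  rw [← hk, index_ker]
  refine (card_subgroup_dvd_card f.range).trans (dvd_of_eq ?_)
  rw [Nat.card_pi]
  exact Finset.prod_congr rfl fun i _ => ((S i).index_eq_card).symm

variable {G : Type*} [Group G] [Finite G]

theorem coreIn_subgroupOf (M Y : Subgroup G) :
    (coreIn M Y).subgroupOf M = (Y.subgroupOf M).normalCore := by
  rw [coreIn, subgroupOf, comap_map_eq_self_of_injective M.subtype_injective]

theorem core1_subgroupOf (M N : Subgroup G) :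
    (core1 M N).subgroupOf M = (N.subgroupOf M).normalCore := by
  rw [core1, coreIn_subgroupOf]
  congr 1
  ext x
  simp [mem_subgroupOf]

theorem relIndex_core1_dvd (M N : Subgroup G) : (core1 M N).relIndex M ∣ (N.relIndex M)! := by
  rw [relIndex, core1_subgroupOf]
  exact index_normalCore_dvd_factorial _

theorem relIndex_core1_inf_dvd (M N : Subgroup G) :
    (core1 M N ⊓ core1 N M).relIndex (core1 M N) ∣ (M.relIndex N - 1)! := by
  rw [inf_comm, inf_relIndex_right, ← relIndex_subgroupOf (core1_le_right M N), core1_subgroupOf]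
  exact relIndex_normalCore_dvd _ _ fun x hx => core1_le_left M N hx

theorem relIndex_core2_dvd (M N : Subgroup G) :
    (core2 M N).relIndex M ∣ (N.relIndex M)! * ((M.relIndex N - 1)!) ^ (N.relIndex M) := by
  rw [← relIndex_mul_relIndex _ _ _ (core2_le_core1 M N) (core1_le_left M N), mul_comm]
  refine mul_dvd_mul (relIndex_core1_dvd M N) ?_
  set A1 := core1 M N with hA1
  set B1 := core1 N M with hB1
  haveI : Fintype (M ⧸ N.subgroupOf M) := Fintype.ofFinite _
  let S : (M ⧸ N.subgroupOf M) → Subgroup G := fun q => cj (q.out : G) (A1 ⊓ B1)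
  have hAB : A1 ≤ normalizer ((A1 ⊓ B1 : Subgroup G) : Set G) :=
    (le_inf le_normalizer ((core1_le_right M N).trans (le_normalizer_core1 N M))).trans
      (H75.normalizer_inf_le_normalizer_inf _ _)
  have hA1cj : ∀ q : M ⧸ N.subgroupOf M, cj (q.out : G) A1 = A1 := fun q =>
    H70.cj_eq_self_iff.mpr (le_normalizer_core1 M N q.out.2)
  have hS : ∀ q, A1 ≤ normalizer (S q : Set G) := by
    intro q
    refine H75.le_normalizer_of_conj fun k hk x hx => ?_
    rw [← hA1cj q, H70.mem_cj] at hk
    rw [H70.mem_cj] at hx ⊢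
    have := H75.conj_mem_of_mem_normalizer (hAB hk) hx
    simpa [mul_assoc] using this
  have key : (core2 M N).subgroupOf A1 = ⨅ q, (S q).subgroupOf A1 := by
    ext ⟨x, hx⟩
    simp only [mem_subgroupOf, mem_iInf, core2, mem_coreIn]
    constructor
    · rintro ⟨-, h⟩ q
      rw [H70.mem_cj]
      simpa using h (q.out : G)⁻¹ (inv_mem q.out.2)
    · intro h
      refine ⟨core1_le_left M N hx, fun k hk => ?_⟩
      let q : M ⧸ N.subgroupOf M := ((⟨k, hk⟩ : M)⁻¹ : M)
      obtain ⟨n, hn⟩ := QuotientGroup.mk_out_eq_mul (N.subgroupOf M) (⟨k, hk⟩ : M)⁻¹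
      have h1 := H70.mem_cj.mp (h q)
      have e : (q.out : G) = k⁻¹ * ((n : M) : G) := congrArg Subtype.val hn
      rw [e] at h1
      have hnn : ((n : M) : G) ∈ normalizer ((A1 ⊓ B1 : Subgroup G) : Set G) :=
        H75.normalizer_inf_le_normalizer_inf _ _
          (mem_inf.mpr ⟨le_normalizer_core1 M N (n : M).2,
            le_normalizer_core1 N M (mem_subgroupOf.mp n.2)⟩)
      simpa [mul_assoc] using H75.conj_mem_of_mem_normalizer hnn h1
  rw [relIndex, key]
  haveI : ∀ q, ((S q).subgroupOf A1).Normal := fun q => normal_subgroupOf_of_le_normalizer (hS q)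
  refine (index_iInf_dvd _).trans ?_
  have hq : ∀ q, ((S q).subgroupOf A1).index ∣ (M.relIndex N - 1)! := by
    intro q
    show (S q).relIndex A1 ∣ _
    rw [← hA1cj q]
    show ((A1 ⊓ B1).map _).relIndex (A1.map _) ∣ _
    rw [relIndex_map_map_of_injective _ _ (MulAut.conj (q.out : G)).injective]
    exact relIndex_core1_inf_dvd M N
  refine (Finset.prod_dvd_prod_of_dvd _ _ fun q _ => hq q).trans (dvd_of_eq ?_)
  rw [Finset.prod_const, Finset.card_univ, ← Nat.card_eq_fintype_card]
  rfl

theorem TWPair.exists_bound {M N : Subgroup G} (h : TWPair M N) (hc : Nat.card M = Nat.card N) :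
    (Nat.card M ∣ (N.relIndex M)! * ((N.relIndex M - 1)!) ^ (N.relIndex M)) ∨
      (core2 M N ≠ ⊥ ∧ core2 N M ≠ ⊥) := by
  have hd : M.relIndex N = N.relIndex M := by
    have h1 := ((M ⊓ N).subgroupOf M).card_mul_index
    have h2 := ((M ⊓ N).subgroupOf N).card_mul_index
    rw [Comp.card_subgroupOf inf_le_left, show ((M ⊓ N).subgroupOf M).index = N.relIndex M by
      rw [inf_comm]; exact inf_relIndex_right _ _] at h1
    rw [Comp.card_subgroupOf inf_le_right, show ((M ⊓ N).subgroupOf N).index = M.relIndex N from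
      inf_relIndex_right _ _] at h2
    rw [← hc, ← h1] at h2
    exact Nat.eq_of_mul_eq_mul_left Nat.card_pos h2
  by_cases hA : core2 M N = ⊥
  · left
    have := relIndex_core2_dvd M N
    rwa [hA, relIndex_bot_left, hd] at this
  by_cases hB : core2 N M = ⊥
  · left
    have := relIndex_core2_dvd N M
    rwa [hB, relIndex_bot_left, hd, ← hc] at this
  exact Or.inr ⟨hA, hB⟩

/-- If `O_p(M ⊓ N)` lies in the first core then it is trivial. -/
theorem TWPair.pCoreOf_inf_eq_bot {M N : Subgroup G} (h : TWPair M N) {p : ℕ} (hp : p.Prime)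
    (hP : pCoreOf p (M ⊓ N) ≤ core1 M N) : pCoreOf p (M ⊓ N) = ⊥ := by
  haveI := Fact.mk hp
  set P := pCoreOf p (M ⊓ N) with hPdef
  have hPD : P ≤ M ⊓ N := H75.pCoreOf_le _
  have hDP : M ⊓ N ≤ normalizer (P : Set G) := H75.le_normalizer_pCoreOf _
  have hPeq : P = pCoreOf p (core1 M N) := by
    refine le_antisymm (H75.le_pCoreOf hP ((core1_le_inf M N).trans hDP) (H75.isPGroup_pCoreOf _)) ?_
    exact H75.le_pCoreOf ((H75.pCoreOf_le _).trans (core1_le_inf M N))
      (inf_le_left.trans ((le_normalizer_core1 M N).trans (H75.normalizer_le_normalizer_pCoreOf _)))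
      (H75.isPGroup_pCoreOf _)
  have hMP : M ≤ normalizer (P : Set G) := by
    rw [hPeq]
    exact (le_normalizer_core1 M N).trans (H75.normalizer_le_normalizer_pCoreOf _)
  by_contra hne
  have hPM : P ≤ M := hPD.trans inf_le_left
  have hPN : P ≤ N := hPD.trans inf_le_right
  have hnP : normalizer (P : Set G) = M :=
    normalizer_eq_of_coatom h.coatomLeft h.coreLeft hne hPM hMP
  set Q := pCoreOf p N with hQ
  have hNQ : N ≤ normalizer (Q : Set G) := H75.le_normalizer_pCoreOf _
  have hQM : Q ⊓ M ≤ P := by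
    refine H75.le_pCoreOf (le_inf inf_le_right (inf_le_left.trans (H75.pCoreOf_le _))) ?_
      (H75.isPGroup_pCoreOf _).to_inf_left
    exact (le_inf (inf_le_right.trans hNQ) (inf_le_left.trans le_normalizer)).trans
      (H75.normalizer_inf_le_normalizer_inf _ _)
  have hR : IsPGroup p (P ⊔ Q : Subgroup G) :=
    (H75.isPGroup_pCoreOf (M ⊓ N)).to_sup_of_normal_right' (H75.isPGroup_pCoreOf N) (hPN.trans hNQ)
  have hRM : (P ⊔ Q) ⊓ M ≤ P := by
    intro z hz
    obtain ⟨hzR, hzM⟩ := mem_inf.mp hz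
    have hz' : z ∈ ((P ⊔ Q : Subgroup G) : Set G) := hzR
    rw [coe_mul_of_left_le_normalizer_right P Q (hPN.trans hNQ)] at hz'
    obtain ⟨a, ha, b, hb, rfl⟩ := Set.mem_mul.mp hz'
    refine mul_mem ha (hQM (mem_inf.mpr ⟨hb, ?_⟩))
    simpa using mul_mem (inv_mem (hPM ha)) hzM
  have hQP : Q ≤ P := by
    by_contra hQP
    have hlt : P < P ⊔ Q := lt_of_le_of_ne le_sup_left fun e => hQP (le_sup_right.trans e.ge)
    have := H75.lt_inf_normalizer hR hlt
    rw [hnP] at this
    exact this.not_ge hRM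
  have hPQ : Q = P := Subgroup.eq_of_le_of_card_ge hQP (by
    rw [hQ, ← h.card_eq p]
    exact Subgroup.card_le_of_le (H75.le_pCoreOf hPM hMP (H75.isPGroup_pCoreOf _)))
  exact h.false_of_normalized hne hPM hPN hMP (hPQ ▸ hNQ)

theorem TWPair.card_dvd_of_fitting_trivial {M N : Subgroup G} (h : TWPair M N)
    (hc : Nat.card M = Nat.card N) (hF : ∀ p : ℕ, p.Prime → pCoreOf p (M ⊓ N) = ⊥) :
    Nat.card M ∣ (N.relIndex M)! * ((N.relIndex M - 1)!) ^ (N.relIndex M) := by
  refine (h.exists_bound hc).resolve_right fun hAB => ?_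
  obtain ⟨p, hp, hA, -⟩ := h.exists_prime hAB.1 hAB.2
  refine hAB.1 (le_bot_iff.mp (hF p hp ▸ ?_))
  exact H75.le_pCoreOf (le_inf (core2_le_left M N) ((core2_le_core1 M N).trans (core1_le_right M N)))
    (inf_le_left.trans (le_normalizer_core2 M N)) hA

/-! ### the action -/

variable {Ω : Type*} [MulAction G Ω] [Finite Ω] [FaithfulSMul G Ω]

theorem relIndex_stabilizer (a b : Ω) :
    (stabilizer G b).relIndex (stabilizer G a) = Nat.card (orbit (stabilizer G a) b) := by
  have e : (stabilizer G b).subgroupOf (stabilizer G a) = stabilizer (stabilizer G a) b :=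
    Subgroup.ext fun _ => Iff.rfl
  rw [Subgroup.relIndex, e, index_stabilizer, Nat.card_coe_set_eq]

theorem exists_twPair_of_orbit (hprim : IsPreprimitive G Ω) {a b : Ω}
    (h2 : 2 ≤ Nat.card (orbit (stabilizer G a) b)) :
    TWPair (stabilizer G a) (stabilizer G b) ∧
      Nat.card (stabilizer G a) = Nat.card (stabilizer G b) := by
  have := hprim
  haveI : Nontrivial Ω := by
    by_contra hc
    rw [not_nontrivial_iff_subsingleton] at hc
    have := Finite.card_le_one_iff_subsingleton.mpr (inferInstance : Subsingleton (orbit (stabilizer G a) b))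
    omega
  obtain ⟨g, hg⟩ := exists_smul_eq G a b
  have hconj : stabilizer G b = cj g (stabilizer G a) := by
    rw [← hg, stabilizer_smul_eq_stabilizer_map_conj]
  refine ⟨twPair_of_conj (IsPreprimitive.isCoatom_stabilizer_of_isPreprimitive G a) g hconj
    (fun e => ?_) ?_, by rw [hconj, H70.card_cj]⟩
  · have h1 : (stabilizer G b).relIndex (stabilizer G a) = 1 := by rw [← e, relIndex_self]
    rw [relIndex_stabilizer] at h1
    omega
  · refine le_bot_iff.mp fun x hx => mem_bot.mpr (eq_of_smul_eq_smul (α := Ω) fun c => ?_)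
    obtain ⟨k, rfl⟩ := exists_smul_eq G a c
    have h1 : (k⁻¹ * x * k⁻¹⁻¹) • a = a :=
      (stabilizer G a).normalCore_le ((stabilizer G a).normalCore_normal.conj_mem x hx k⁻¹)
    rw [inv_inv, ← smul_smul, ← smul_smul, inv_smul_eq_iff] at h1
    rw [h1, one_smul]

end H61
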