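import Mathlib

set_option autoImplicit false

namespace H61

variable (F K : Type*) [Field F] [Field K] [Algebra F K]

/-- The multiplications by non-zero elements of `K`. -/
noncomputable abbrev singerHom : Kˣ →* (Module.End F K)ˣ :=
  Units.map ((Algebra.lmul F K : K →ₐ[F] Module.End F K) : K →* Module.End F K)

variable {F K}

theorem singerHom_apply (u : Kˣ) (x : K) : (singerHom F K u : Module.End F K) x = (u : K) * x := rfl

theorem singerHom_injective : Function.Injective (singerHom F K) := by
  intro u v h
  apply Units.ext
  have := congrArg (fun f : (Module.End F K)ˣ => (f : Module.End F K) 1) h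
  simpa [singerHom_apply] using this

theorem card_singer [Fintype K] : Nat.card (singerHom F K).range = Fintype.card K - 1 := by
  classical
  rw [Nat.card_congr (MonoidHom.ofInjective singerHom_injective).toEquiv.symm,
    Nat.card_eq_fintype_card, Fintype.card_units]

theorem mul_apply' (f g : (Module.End F K)ˣ) (x : K) :
    ((f * g : (Module.End F K)ˣ) : Module.End F K) x = (f : Module.End F K) ((g : Module.End F K) x) := rfl

theorem units_injective (f : (Module.End F K)ˣ) : Function.Injective (f : Module.End F K) := by
  intro x y h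
  have := congrArg ((↑f⁻¹ : Module.End F K)) h
  rwa [← mul_apply', ← mul_apply', inv_mul_cancel] at this

/-- An element commuting with multiplication by a set of algebra generators of `K` lies in the
Singer group. -/
theorem mem_singer_of_commute_set (g : (Module.End F K)ˣ) (s : Set K)
    (hs : Algebra.adjoin F s = ⊤) (h : ∀ a ∈ s, ∀ x, (g : Module.End F K) (a * x) = a * (g : Module.End F K) x) :
    g ∈ (singerHom F K).range := by
  let S : Subalgebra F K :=
    { carrier := {a | ∀ x, (g : Module.End F K) (a * x) = a * (g : Module.End F K) x}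
      mul_mem' := fun {a b} ha hb x => by rw [mul_assoc, ha, hb, mul_assoc]
      add_mem' := fun {a b} ha hb x => by rw [add_mul, map_add, ha, hb, add_mul]
      algebraMap_mem' := fun r x => by rw [← Algebra.smul_def, map_smul, ← Algebra.smul_def] }
  have hS : S = ⊤ := top_le_iff.mp (hs ▸ Algebra.adjoin_le h)
  have hall : ∀ a x, (g : Module.End F K) (a * x) = a * (g : Module.End F K) x := fun a => (hS ▸ Algebra.mem_top : a ∈ S)
  have hc : (g : Module.End F K) 1 ≠ 0 := by
    intro h0
    exact one_ne_zero (units_injective g (h0.trans (map_zero _).symm))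
  refine ⟨Units.mk0 _ hc, Units.ext (LinearMap.ext fun x => ?_)⟩
  rw [singerHom_apply, Units.val_mk0, mul_comm, ← hall x 1, mul_one]

/-- The Singer group is its own centraliser. -/
theorem centralizer_singer :
    Subgroup.centralizer ((singerHom F K).range : Set (Module.End F K)ˣ) = (singerHom F K).range := by
  apply le_antisymm
  · intro g hg
    refine mem_singer_of_commute_set g Set.univ (by simp [Algebra.adjoin_univ]) fun a _ x => ?_
    by_cases ha : a = 0
    · simp [ha]
    have := Subgroup.mem_centralizer_iff.mp hg (singerHom F K (Units.mk0 a ha)) ⟨_, rfl⟩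
    have := congrArg (fun f : (Module.End F K)ˣ => (f : Module.End F K) x) this
    exact this.symm
  · rintro _ ⟨u, rfl⟩
    rw [SetLike.mem_coe.symm]
    exact Subgroup.mem_centralizer_iff.mpr fun _ ⟨v, hv⟩ => hv ▸ by rw [← map_mul, ← map_mul, mul_comm]

/-- An `F`-algebra automorphism of `K` as a unit of the endomorphism ring. -/
noncomputable def autHom : (K ≃ₐ[F] K) →* (Module.End F K)ˣ where
  toFun σ := LinearMap.GeneralLinearGroup.ofLinearEquiv σ.toLinearEquiv
  map_one' := Units.ext (LinearMap.ext fun _ => rfl)
  map_mul' _ _ := Units.ext (LinearMap.ext fun _ => rfl)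

theorem autHom_apply (σ : K ≃ₐ[F] K) (x : K) : (autHom σ : Module.End F K) x = σ x := rfl

theorem autHom_conj_singer (σ : K ≃ₐ[F] K) (u : Kˣ) :
    autHom σ * singerHom F K u * (autHom σ)⁻¹ = singerHom F K (Units.map (σ : K →* K) u) := by
  rw [mul_inv_eq_iff_eq_mul]
  refine Units.ext (LinearMap.ext fun x => ?_)
  simp [mul_apply', singerHom_apply, autHom_apply]

theorem card_normalizer_singer [Fintype F] [Fintype K] :
    Nat.card (Subgroup.normalizer ((singerHom F K).range : Set (Module.End F K)ˣ)) =
      Module.finrank F K * (Fintype.card K - 1) := by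
  classical
  set N := Subgroup.normalizer ((singerHom F K).range : Set (Module.End F K)ˣ) with hN
  have hmem : ∀ (u : Kˣ) (σ : K ≃ₐ[F] K), singerHom F K u * autHom σ ∈ N := by
    intro u σ
    refine N.mul_mem (Subgroup.le_normalizer ⟨u, rfl⟩) ?_
    refine Subgroup.mem_normalizer_iff.mpr fun h => ⟨?_, ?_⟩
    · rintro ⟨v, rfl⟩
      exact ⟨_, (autHom_conj_singer σ v).symm⟩
    · rintro ⟨v, hv⟩
      refine ⟨Units.map (σ.symm : K →* K) v, ?_⟩
      rw [← autHom_conj_singer σ.symm, hv]
      have : autHom σ.symm = (autHom σ)⁻¹ := by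
        rw [eq_inv_iff_mul_eq_one, ← map_mul]
        convert map_one (autHom (F := F) (K := K))
        ext x; simp
      rw [this]; group
  let f : Kˣ × (K ≃ₐ[F] K) → N := fun p => ⟨singerHom F K p.1 * autHom p.2, hmem p.1 p.2⟩
  have hf : Function.Bijective f := by
    constructor
    · rintro ⟨u, σ⟩ ⟨v, τ⟩ h
      have h' : ∀ x, (u : K) * σ x = (v : K) * τ x := fun x =>
        congrArg (fun g : N => ((g : (Module.End F K)ˣ) : Module.End F K) x) h
      have h1 := h' 1
      simp only [map_one, mul_one] at h1
      refine Prod.ext (Units.ext h1) (AlgEquiv.ext fun x => ?_)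
      have h2 := h' x
      rw [h1] at h2
      exact mul_left_cancel₀ v.ne_zero h2
    · rintro ⟨g, hg⟩
      have hc : (g : Module.End F K) 1 ≠ 0 := fun h0 =>
        one_ne_zero (units_injective g (h0.trans (map_zero _).symm))
      set c := (g : Module.End F K) 1 with hcdef
      let φ : K →ₗ[F] K := (Algebra.lmul F K c⁻¹ : Module.End F K) * (g : Module.End F K)
      have hφ : ∀ x, φ x = c⁻¹ * (g : Module.End F K) x := fun x => rfl
      have hmul : ∀ x y, φ (x * y) = φ x * φ y := by
        intro x y
        by_cases hx : x = 0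
        · simp [hx]
        obtain ⟨v, hv⟩ := (Subgroup.mem_normalizer_iff.mp hg _).mp ⟨Units.mk0 x hx, rfl⟩
        have hv' : singerHom F K v * g = g * singerHom F K (Units.mk0 x hx) := by
          rw [hv]; group
        have hvz : ∀ z, (v : K) * (g : Module.End F K) z = (g : Module.End F K) (x * z) := fun z =>
          congrArg (fun f : (Module.End F K)ˣ => (f : Module.End F K) z) hv'
        have h1 := hvz 1
        rw [mul_one, ← hcdef] at h1
        rw [hφ, hφ, hφ, ← hvz y, ← h1]
        field_simp
      let ψ : K →ₐ[F] K := AlgHom.ofLinearMap φ (by rw [hφ, ← hcdef, inv_mul_cancel₀ hc]) hmul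
      have hbij : Function.Bijective ψ := Finite.injective_iff_bijective.mp ψ.toRingHom.injective
      refine ⟨(Units.mk0 c hc, AlgEquiv.ofBijective ψ hbij), Subtype.ext (Units.ext (LinearMap.ext fun x => ?_))⟩
      change c * (c⁻¹ * (g : Module.End F K) x) = _
      field_simp
  rw [← Nat.card_eq_of_bijective f hf, Nat.card_prod, Nat.card_eq_fintype_card, Fintype.card_units,
    IsGalois.card_aut_eq_finrank, mul_comm]

end H61
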