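import Mathlib

set_option autoImplicit false

namespace H61

universe u

/-- `Fin (m+1) → K` splits off a factor. -/
def piFinSuccMulEquiv (K : Type*) [Group K] (m : ℕ) : K × (Fin m → K) ≃* (Fin (m + 1) → K) :=
  { Fin.consEquiv (fun _ => K) with
    map_mul' := fun a b => by
      funext i
      refine Fin.cases ?_ (fun j => ?_) i <;> simp }

/-- Product of two powers. -/
def piFinAddMulEquiv (K : Type*) [Group K] (m n : ℕ) : (Fin m → K) × (Fin n → K) ≃* (Fin (m + n) → K) :=
  { (Equiv.sumArrowEquivProdArrow (Fin m) (Fin n) K).symm.trans (finSumFinEquiv.arrowCongr (Equiv.refl K)) with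
    map_mul' := fun a b => by
      funext i
      obtain ⟨j, rfl⟩ := finSumFinEquiv.surjective i
      rcases j with j | j <;> simp [Equiv.sumArrowEquivProdArrow, Equiv.arrowCongr] }

/-- A copy in `Type` of a finite group. -/
theorem exists_small_model (K : Type*) [Group K] [Finite K] :
    ∃ (S : Type) (_ : Group S), Nonempty (K ≃* S) :=
  ⟨Shrink.{0} K, inferInstance, ⟨Shrink.mulEquiv.symm⟩⟩

/-- Two normalising disjoint subgroups give a direct product. -/
theorem nonempty_mulEquiv_prod_sup {G : Type*} [Group G] (P Q : Subgroup G)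
    (hP : P.Normal) (hQ : Q.Normal) (hd : Disjoint P Q) : Nonempty (↥P × ↥Q ≃* ↥(P ⊔ Q)) := by
  have hcomm : ∀ (x : P) (y : Q), Commute (P.subtype x) (Q.subtype y) :=
    fun x y => Subgroup.commute_of_normal_of_disjoint P Q hP hQ hd _ _ x.2 y.2
  let φ := MonoidHom.noncommCoprod P.subtype Q.subtype hcomm
  have hinj : Function.Injective φ := by
    rw [injective_iff_map_eq_one]
    rintro ⟨x, y⟩ h
    have h' : (x : G) * y = 1 := h
    have hx : (x : G) ∈ P ⊓ Q := ⟨x.2, by rw [mul_eq_one_iff_eq_inv.mp h']; exact Q.inv_mem y.2⟩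
    rw [hd.eq_bot, Subgroup.mem_bot] at hx
    rw [hx, one_mul] at h'
    exact Prod.ext (Subtype.ext hx) (Subtype.ext h')
  have hr : φ.range = P ⊔ Q := by
    apply le_antisymm
    · rintro _ ⟨⟨x, y⟩, rfl⟩
      exact Subgroup.mul_mem _ (Subgroup.mem_sup_left x.2) (Subgroup.mem_sup_right y.2)
    · refine sup_le (fun x hx => ⟨(⟨x, hx⟩, 1), ?_⟩) (fun y hy => ⟨(1, ⟨y, hy⟩), ?_⟩)
      · simp [φ]
      · simp [φ]
  exact ⟨(MonoidHom.ofInjective hinj).trans (MulEquiv.subgroupCongr hr)⟩

/-- A finite characteristically simple group is a power of a simple group. -/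
theorem exists_mulEquiv_pi_of_charSimple {G : Type u} [Group G] [Finite G] [Nontrivial G]
    (h : ∀ H : Subgroup G, H.Characteristic → H = ⊥ ∨ H = ⊤) :
    ∃ (S : Type) (_ : Group S) (_ : IsSimpleGroup S) (m : ℕ), 1 ≤ m ∧ Nonempty (G ≃* (Fin m → S)) := by
  classical
  haveI : Finite (Subgroup G) := inferInstance
  obtain ⟨K, ⟨hKn, hKne⟩, hKmin⟩ := (Set.toFinite {K : Subgroup G | K.Normal ∧ K ≠ ⊥}).exists_minimal
    ⟨⊤, inferInstance, top_ne_bot⟩
  have hKmin' : ∀ L : Subgroup G, L.Normal → L ≤ K → L = ⊥ ∨ L = K := by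
    intro L hL hle
    by_cases hb : L = ⊥
    · exact Or.inl hb
    · exact Or.inr (le_antisymm hle (hKmin ⟨hL, hb⟩ hle))
  -- translates
  let T : MulAut G → Subgroup G := fun φ => K.map φ.toMonoidHom
  have hTn : ∀ φ, (T φ).Normal := fun φ => hKn.map _ φ.surjective
  have hgen : (⨆ φ, T φ) = ⊤ := by
    have hchar : (⨆ φ, T φ).Characteristic := by
      rw [Subgroup.characteristic_iff_map_le]
      intro ψ
      rw [Subgroup.map_iSup]
      refine iSup_le fun φ => le_iSup_of_le (φ.trans ψ) ?_
      rw [Subgroup.map_map]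
      exact le_of_eq rfl
    refine (h _ hchar).resolve_left fun hbot => hKne ?_
    have h1 : T (MulEquiv.refl G) ≤ ⊥ := hbot ▸ le_iSup T _
    have h2 : T (MulEquiv.refl G) = K := Subgroup.map_id K
    exact le_bot_iff.mp (h2 ▸ h1)
  let good : Set (Subgroup G) := {P | P.Normal ∧ ∃ m : ℕ, Nonempty (P ≃* (Fin m → K))}
  obtain ⟨P, ⟨hPn, m, ⟨eP⟩⟩, hPmax⟩ := (Set.toFinite good).exists_maximal
    ⟨⊥, inferInstance, 0, ⟨⟨Equiv.ofUnique _ _, fun _ _ => Subsingleton.elim _ _⟩⟩⟩
  have hP : P = ⊤ := by
    by_contra hne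
    obtain ⟨φ, hφ⟩ : ∃ φ, ¬ T φ ≤ P := by
      by_contra hall
      push Not at hall
      exact hne (top_le_iff.mp (hgen ▸ iSup_le hall))
    have := hTn φ
    have hd : Disjoint P (T φ) := by
      rw [disjoint_iff]
      let L := (P ⊓ T φ).comap φ.toMonoidHom
      have hL : L ≤ K := fun x hx => by
        obtain ⟨y, hy, hxy⟩ := (show φ.toMonoidHom x ∈ T φ from hx.2)
        rwa [φ.injective hxy] at hy
      have hLn : L.Normal := (Subgroup.normal_inf_normal P (T φ)).comap _
      have hmap : L.map φ.toMonoidHom = P ⊓ T φ := Subgroup.map_comap_eq_self_of_surjective φ.surjective _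
      rcases hKmin' L hLn hL with hb | hb
      · rw [← hmap, hb, Subgroup.map_bot]
      · exact absurd ((congrArg (Subgroup.map φ.toMonoidHom) hb).symm.le.trans (hmap.le.trans inf_le_left)) hφ
    obtain ⟨e⟩ := nonempty_mulEquiv_prod_sup P (T φ) hPn (hTn φ) hd
    have hmem : P ⊔ T φ ∈ good :=
      ⟨inferInstance, m + 1, ⟨e.symm.trans ((MulEquiv.prodCongr eP (K.equivMapOfInjective _ φ.injective).symm).trans
        (MulEquiv.prodComm.trans (piFinSuccMulEquiv K m)))⟩⟩
    exact hφ (le_sup_right.trans (hPmax hmem le_sup_left))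
  subst hP
  -- simplicity of `K`
  have hsimple : IsSimpleGroup K := by
    haveI : Nontrivial K := (Subgroup.nontrivial_iff_ne_bot K).mpr hKne
    refine ⟨fun L hL => ?_⟩
    let L' : Subgroup G := L.map K.subtype
    have hL'K : L' ≤ K := Subgroup.map_subtype_le L
    have hn : L'.Normal := by
      apply Subgroup.normalizer_eq_top_iff.mp
      rw [← top_le_iff, ← hgen]
      refine iSup_le fun φ => ?_
      have := hTn φ
      rcases hKmin' (K ⊓ T φ) (Subgroup.normal_inf_normal K (T φ)) inf_le_left with hb | hb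
      · refine le_trans ?_ (Subgroup.centralizer_le_normalizer _)
        intro x hx
        rw [Subgroup.mem_centralizer_iff]
        intro y hy
        exact (Subgroup.commute_of_normal_of_disjoint K (T φ) hKn (hTn φ) (disjoint_iff.mpr hb) y x (hL'K hy) hx).eq
      · have hKT : K = T φ := Subgroup.eq_of_le_of_card_ge (hb ▸ inf_le_right)
          (by rw [Subgroup.card_map_of_injective φ.injective])
        rw [← hKT]
        apply (Subgroup.normal_subgroupOf_iff_le_normalizer hL'K).mp
        have : L'.subgroupOf K = L := Subgroup.comap_map_eq_self_of_injective K.subtype_injective L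
        rw [this]
        exact hL
    rcases hKmin' L' hn hL'K with hb | hb
    · left
      exact (Subgroup.map_eq_bot_iff_of_injective _ K.subtype_injective).mp hb
    · right
      rw [← Subgroup.comap_map_eq_self_of_injective K.subtype_injective L]
      show (L').subgroupOf K = ⊤
      rw [hb]
      exact Subgroup.subgroupOf_self K
  obtain ⟨S, gS, ⟨eS⟩⟩ := exists_small_model K
  have hS : IsSimpleGroup S := eS.symm.isSimpleGroup
  refine ⟨S, gS, hS, m, ?_, ⟨Subgroup.topEquiv.symm.trans (eP.trans (MulEquiv.piCongrRight fun _ => eS))⟩⟩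
  rcases Nat.eq_zero_or_pos m with rfl | hm
  · exfalso
    obtain ⟨x, hx⟩ := exists_ne (1 : G)
    exact hx (Subgroup.topEquiv.symm.injective (eP.injective (Subsingleton.elim _ _)))
  · exact hm

end H61

namespace H61

/-- A power of a simple group is characteristically simple. -/
theorem charSimple_pi {S : Type*} [Group S] [IsSimpleGroup S] {n : ℕ}
    (H : Subgroup (Fin n → S)) (hH : H.Characteristic) : H = ⊥ ∨ H = ⊤ := by
  classical
  by_cases hb : H = ⊥
  · exact Or.inl hb
  right
  obtain ⟨h, hh, hne⟩ := (Subgroup.bot_or_exists_ne_one H).resolve_left hb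
  obtain ⟨i, hi⟩ : ∃ i, h i ≠ 1 := Function.ne_iff.mp hne
  have hHn : H.Normal := Subgroup.normal_of_characteristic H
  -- permuting coordinates
  have hperm : ∀ (σ : Equiv.Perm (Fin n)) (x : Fin n → S), x ∈ H → (fun k => x (σ k)) ∈ H := by
    intro σ x hx
    let e : (Fin n → S) ≃* (Fin n → S) :=
      { toFun := fun y k => y (σ k), invFun := fun y k => y (σ.symm k)
        left_inv := fun y => by simp, right_inv := fun y => by simp, map_mul' := fun _ _ => rfl }
    exact Subgroup.characteristic_iff_map_le.mp hH e ⟨x, hx, rfl⟩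
  -- it suffices to get one coordinate factor element
  suffices hj : ∃ j : Fin n, ∃ s : S, s ≠ 1 ∧ Pi.mulSingle j s ∈ H by
    obtain ⟨j, s, hs, hsH⟩ := hj
    let P : Subgroup S := H.comap (MonoidHom.mulSingle (fun _ => S) j)
    have hP : P.Normal := hHn.comap _
    have hPtop : P = ⊤ := hP.eq_bot_or_eq_top.resolve_left fun h0 => hs (Subgroup.mem_bot.mp (h0 ▸ (hsH : s ∈ P)))
    rw [eq_top_iff]
    intro x _
    apply Subgroup.pi_mem_of_mulSingle_mem
    intro k
    have h1 : Pi.mulSingle j (x k) ∈ H := (hPtop ▸ Subgroup.mem_top _ : x k ∈ P)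
    have h2 := hperm (Equiv.swap j k) _ h1
    convert h2 using 1
    funext l
    by_cases hl : l = k
    · subst hl; simp
    · by_cases hlj : l = j
      · subst hlj; simp [hl, Ne.symm hl]
      · simp [hl, Equiv.swap_apply_of_ne_of_ne hlj hl, hlj]
  by_cases hcomm : ∀ z : S, z * h i = h i * z
  · -- abelian: use a transvection
    have hcen : h i ∈ Subgroup.center S := Subgroup.mem_center_iff.mpr hcomm
    have hab : ∀ a b : S, a * b = b * a := by
      have : Subgroup.center S = ⊤ := (inferInstance : (Subgroup.center S).Normal).eq_bot_or_eq_top.resolve_left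
        fun h0 => hi (Subgroup.mem_bot.mp (h0 ▸ hcen))
      exact fun a b => Subgroup.mem_center_iff.mp (this ▸ Subgroup.mem_top b) a
    by_cases hj : ∃ j, j ≠ i
    · obtain ⟨j, hji⟩ := hj
      let f : (Fin n → S) →* (Fin n → S) :=
        { toFun := fun y => y * Pi.mulSingle j (y i)
          map_one' := by simp
          map_mul' := fun a b => by
            funext k
            by_cases hk : k = j
            · subst hk; simp [mul_assoc]; rw [← mul_assoc (b k), hab (b k) (a i), mul_assoc]
            · simp [hk] }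
      let g : (Fin n → S) →* (Fin n → S) :=
        { toFun := fun y => y * Pi.mulSingle j (y i)⁻¹
          map_one' := by simp
          map_mul' := fun a b => by
            funext k
            by_cases hk : k = j
            · subst hk; simp [mul_assoc]; rw [hab (b i)⁻¹ (a i)⁻¹, ← mul_assoc (b k), hab (b k) (a i)⁻¹, mul_assoc]
            · simp [hk] }
      let e : (Fin n → S) ≃* (Fin n → S) := MonoidHom.toMulEquiv f g
        (by refine MonoidHom.ext fun y => funext fun k => ?_
            by_cases hk : k = j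
            · subst hk; simp [f, g, Ne.symm hji]
            · simp [f, g, hk])
        (by refine MonoidHom.ext fun y => funext fun k => ?_
            by_cases hk : k = j
            · subst hk; simp [f, g, Ne.symm hji]
            · simp [f, g, hk])
      have h1 : e h ∈ H := Subgroup.characteristic_iff_map_le.mp hH e ⟨h, hh, rfl⟩
      have h2 := H.mul_mem (H.inv_mem hh) h1
      refine ⟨j, h i, hi, ?_⟩
      convert h2 using 1
      change Pi.mulSingle j (h i) = h⁻¹ * (h * Pi.mulSingle j (h i))
      rw [inv_mul_cancel_left]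
    · push Not at hj
      refine ⟨i, h i, hi, ?_⟩
      convert hh
      funext k
      rw [hj k]; simp
  · push Not at hcomm
    obtain ⟨z, hz⟩ := hcomm
    refine ⟨i, z * h i * z⁻¹ * (h i)⁻¹, ?_, ?_⟩
    · rw [Ne, mul_inv_eq_one, mul_inv_eq_iff_eq_mul]; exact hz
    · have h1 := H.mul_mem (hHn.conj_mem h hh (Pi.mulSingle i z)) (H.inv_mem hh)
      convert h1 using 1
      funext k
      by_cases hk : k = i
      · subst hk; simp
      · simp [hk]

/-- A minimal normal subgroup is a power of a simple group. -/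
theorem exists_mulEquiv_pi_of_minimal_normal {G : Type*} [Group G] [Finite G] (N : Subgroup G) (hN : N.Normal)
    (hne : N ≠ ⊥) (hmin : ∀ M : Subgroup G, M.Normal → M ≤ N → M = ⊥ ∨ M = N) :
    ∃ (S : Type) (_ : Group S) (_ : IsSimpleGroup S) (m : ℕ), 1 ≤ m ∧ Nonempty (N ≃* (Fin m → S)) := by
  haveI : Nontrivial N := (Subgroup.nontrivial_iff_ne_bot N).mpr hne
  refine exists_mulEquiv_pi_of_charSimple fun H hH => ?_
  rcases hmin (H.map N.subtype) inferInstance (Subgroup.map_subtype_le H) with h | h
  · exact Or.inl ((Subgroup.map_eq_bot_iff_of_injective _ N.subtype_injective).mp h)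
  · right
    rw [← Subgroup.comap_map_eq_self_of_injective N.subtype_injective H, h]
    exact Subgroup.subgroupOf_self N

end H61
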