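import Cfsg.Agent.H61.MonomialFix

/-!
Overgroups of block monomial groups with blocks of size at least two.
-/

set_option autoImplicit false

namespace H61.Block

open Matrix H61.Monomial

variable {F : Type*} [Field F] {n t m : ℕ} (e : Fin n ≃ (_ : Fin t) × Fin m)

/-- Every column block has all its weight in one row block. -/
def IsBlock (g : GL (Fin n) F) : Prop :=
  ∃ σ : Fin t → Fin t, ∀ r c, (e r).1 ≠ σ (e c).1 → g.val r c = 0

variable (X : Subgroup (GL (Fin n) F))

/-- `X` contains all block monomial elements of determinant one. -/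
def HasBlock : Prop := ∀ g, IsBlock e g → g.val.det = 1 → g ∈ X

/-- The transvection with centre `u` and axis `ψ` is in `X`. -/
def PairIn (u ψ : Fin n → F) : Prop := ∃ h : ψ ⬝ᵥ u = 0, H49.tr u ψ h ∈ X

variable {e} {X}

theorem isBlock_monGL (σ : Equiv.Perm (Fin n)) (d : Fin n → Fˣ) (τ : Fin t → Fin t)
    (h : ∀ c, (e (σ c)).1 = τ (e c).1) : IsBlock e (monGL σ d) :=
  ⟨τ, fun r c hrc => by rw [monGL_val, if_neg (fun h' => hrc (by rw [h', h]))]⟩

theorem tr_val_apply (u ψ : Fin n → F) (h : ψ ⬝ᵥ u = 0) (r c : Fin n) :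
    (H49.tr u ψ h).val r c = (if r = c then 1 else 0) + u r * ψ c := by
  simp [H49.tr_val, H49.trM, Matrix.vecMulVec_apply, Matrix.one_apply]

theorem tr_det (u ψ : Fin n → F) (h : ψ ⬝ᵥ u = 0) : (H49.tr u ψ h).val.det = 1 := by
  rw [H49.tr_val, H49.det_trM, h, add_zero]

theorem tr_mem_of_block (hB : HasBlock e X) {u ψ : Fin n → F} (h : ψ ⬝ᵥ u = 0) {a : Fin t}
    (hu : ∀ r, (e r).1 ≠ a → u r = 0) (hψ : ∀ c, (e c).1 ≠ a → ψ c = 0) : H49.tr u ψ h ∈ X := by
  refine hB _ ⟨id, fun r c hrc => ?_⟩ (tr_det u ψ h)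
  rw [tr_val_apply, if_neg (fun h' => hrc (by rw [h']; rfl)), zero_add]
  by_cases hr : (e r).1 = a
  · rw [hψ c (fun h' => hrc (hr.trans h'.symm)), mul_zero]
  · rw [hu r hr, zero_mul]

theorem pair_of_conj {M : GL (Fin n) F} (hM : M ∈ X) {u ψ u' ψ' : Fin n → F} (h : PairIn X u ψ)
    (hu : M.val *ᵥ u = u') (hψ : ψ' ᵥ* M.val = ψ) : PairIn X u' ψ' := by
  obtain ⟨h0, hm⟩ := h
  have h' : ψ' ⬝ᵥ u' = 0 := by rw [← hu, Matrix.dotProduct_mulVec, hψ, h0]
  refine ⟨h', ?_⟩
  have : H49.tr u' ψ' h' = M * H49.tr u ψ h0 * M⁻¹ := by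
    rw [eq_mul_inv_iff_mul_eq]
    refine H49.gl_ext_mulVec fun z => ?_
    rw [Units.val_mul, ← Matrix.mulVec_mulVec, H49.tr_mulVec, Units.val_mul, ← Matrix.mulVec_mulVec,
      H49.tr_mulVec, Matrix.mulVec_add, Matrix.mulVec_smul, hu, Matrix.dotProduct_mulVec, hψ]
  rw [this]
  exact mul_mem (mul_mem hM hm) (inv_mem hM)

theorem PairIn.add_right {u ψ ψ' : Fin n → F} (h : PairIn X u ψ) (h' : PairIn X u ψ') :
    PairIn X u (ψ + ψ') := by
  obtain ⟨a, ha⟩ := h
  obtain ⟨b, hb⟩ := h'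
  exact ⟨by simp [add_dotProduct, a, b], H49.tr_mul u ψ ψ' a b ▸ mul_mem ha hb⟩

theorem PairIn.neg_right {u ψ : Fin n → F} (h : PairIn X u ψ) : PairIn X u (-ψ) := by
  obtain ⟨a, ha⟩ := h
  refine ⟨by simp [a], ?_⟩
  have : H49.tr u (-ψ) (by simp [a]) = (H49.tr u ψ a)⁻¹ := Units.ext rfl
  rw [this]; exact inv_mem ha

theorem PairIn.add_left {u v ψ : Fin n → F} (h : PairIn X u ψ) (h' : PairIn X v ψ) :
    PairIn X (u + v) ψ := by
  obtain ⟨a, ha⟩ := h
  obtain ⟨b, hb⟩ := h'
  have hab : ψ ⬝ᵥ (u + v) = 0 := by simp [dotProduct_add, a, b]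
  refine ⟨hab, ?_⟩
  have : H49.tr (u + v) ψ hab = H49.tr u ψ a * H49.tr v ψ b := H49.gl_ext_mulVec fun z => by
    rw [Units.val_mul, ← Matrix.mulVec_mulVec, H49.tr_mulVec, H49.tr_mulVec, H49.tr_mulVec,
      dotProduct_add, dotProduct_smul, b, smul_zero, add_zero, smul_add]
    abel
  rw [this]; exact mul_mem ha hb

theorem PairIn.neg_left {u ψ : Fin n → F} (h : PairIn X u ψ) : PairIn X (-u) ψ := by
  obtain ⟨a, ha⟩ := h
  have hab : ψ ⬝ᵥ (-u) = 0 := by simp [a]
  refine ⟨hab, ?_⟩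
  have : H49.tr (-u) ψ hab = H49.tr u (-ψ) (by simp [a]) := H49.gl_ext_mulVec fun z => by
    rw [H49.tr_mulVec, H49.tr_mulVec, neg_dotProduct, smul_neg, neg_smul]
  rw [this]
  exact (PairIn.neg_right ⟨a, ha⟩).2

/-- Conjugation by a transvection. -/
theorem pair_conj_tr {v φ : Fin n → F} (hv : φ ⬝ᵥ v = 0) (hT : H49.tr v φ hv ∈ X) {u ψ : Fin n → F}
    (h : PairIn X u ψ) : PairIn X (u + (φ ⬝ᵥ u) • v) (ψ - (ψ ⬝ᵥ v) • φ) := by
  refine pair_of_conj hT h (H49.tr_mulVec v φ hv u) ?_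
  ext c
  simp only [Matrix.vecMul, H49.tr_val, H49.trM, dotProduct, Matrix.add_apply, Matrix.one_apply,
    Matrix.vecMulVec_apply, mul_add, Finset.sum_add_distrib, mul_ite, mul_one, mul_zero,
    Finset.sum_ite_eq', Finset.mem_univ, if_true, Pi.sub_apply, Pi.smul_apply, smul_eq_mul]
  have e2 : ∑ x, (ψ x - (∑ i, ψ i * v i) * φ x) * (v x * φ c) =
      ((∑ x, ψ x * v x) - (∑ i, ψ i * v i) * ∑ x, φ x * v x) * φ c := by
    rw [Finset.mul_sum, ← Finset.sum_sub_distrib, Finset.sum_mul]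
    exact Finset.sum_congr rfl fun x _ => by ring
  rw [e2, show ∑ x, φ x * v x = 0 from hv]
  ring

theorem exists_other (hm : 2 ≤ m) (x : Fin n) : ∃ y, y ≠ x ∧ (e y).1 = (e x).1 := by
  haveI : Nontrivial (Fin m) := Fin.nontrivial_iff_two_le.mpr hm
  obtain ⟨k, hk⟩ := exists_ne (e x).2
  exact ⟨e.symm ⟨(e x).1, k⟩, fun h => hk (by rw [← h, Equiv.apply_symm_apply]),
    by rw [Equiv.apply_symm_apply]⟩

theorem single_supp (x : Fin n) (c : F) (r : Fin n) (h : (e r).1 ≠ (e x).1) :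
    (Pi.single x c : Fin n → F) r = 0 := Pi.single_eq_of_ne (M := fun _ : Fin n => F) (show r ≠ x from fun h' => h (by rw [h'])) c

/-- A cross elementary transvection gives all. -/
theorem full_of_cross (hm : 2 ≤ m) (hn : 5 ≤ n) (hB : HasBlock e X) {x w : Fin n}
    (hxw : (e x).1 ≠ (e w).1) {c0 : F} (hc0 : c0 ≠ 0)
    (h : PairIn X (Pi.single x 1) (Pi.single w c0)) : Full X := by
  classical
  intro p q hpq c
  by_cases hb : (e p).1 = (e q).1
  · exact tr_mem_of_block hB _ (a := (e p).1) (single_supp p 1) (fun r hr => single_supp q c r (hb ▸ hr))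
  by_cases hc : c = 0
  · subst hc
    convert X.one_mem using 1
    refine H49.gl_ext_mulVec fun v => funext fun z => ?_
    rw [H49.elem_mulVec]
    simp
  obtain ⟨τ, hτx, hτw⟩ : ∃ τ : Equiv.Perm (Fin t), τ (e x).1 = (e p).1 ∧ τ (e w).1 = (e q).1 := by
    refine ⟨Equiv.swap (Equiv.swap (e x).1 (e p).1 (e w).1) (e q).1 * Equiv.swap (e x).1 (e p).1, ?_, ?_⟩
    · rw [Equiv.Perm.mul_apply, Equiv.swap_apply_left, Equiv.swap_apply_of_ne_of_ne _ hb]
      intro h'
      have := congrArg (Equiv.swap (e x).1 (e p).1) h'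
      rw [Equiv.swap_apply_self, Equiv.swap_apply_right] at this
      exact hxw this
    · rw [Equiv.Perm.mul_apply, Equiv.swap_apply_left]
  let ρ : Fin t → Equiv.Perm (Fin m) := fun i =>
    if i = (e x).1 then Equiv.swap (e x).2 (e p).2 else if i = (e w).1 then Equiv.swap (e w).2 (e q).2 else 1
  let σ : Equiv.Perm (Fin n) := e.trans ((Equiv.sigmaCongr τ ρ).trans e.symm)
  have hσ : ∀ z, e (σ z) = ⟨τ (e z).1, ρ (e z).1 (e z).2⟩ := fun z => by
    simp only [σ, Equiv.trans_apply, Equiv.apply_symm_apply]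
    rfl
  have hσx : σ x = p := e.injective (by
    rw [hσ, hτx]
    simp [ρ])
  have hσw : σ w = q := e.injective (by
    rw [hσ, hτw]
    simp [ρ, hxw.symm])
  obtain ⟨z, hzx, hzw, -, -⟩ := exists_ne₄ hn x w x w
  obtain ⟨d, hd, hdet⟩ := exists_monGL_det_one σ
    (fun r => if r = x then Units.mk0 (c / c0) (div_ne_zero hc hc0) else 1) z
  have hM : monGL σ d ∈ X := hB _ (isBlock_monGL σ d τ fun r => by rw [hσ]) hdet
  obtain ⟨h0, hm'⟩ := h
  show H49.tr (Pi.single p 1) (Pi.single q c) _ ∈ X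
  convert mul_mem (mul_mem hM hm') (inv_mem hM) using 1
  refine Units.ext (Matrix.ext fun r s => ?_)
  obtain ⟨r', rfl⟩ := σ.surjective r
  obtain ⟨s', rfl⟩ := σ.surjective s
  rw [monGL_conj_val, tr_val_apply, tr_val_apply, ← hσx, ← hσw]
  simp only [Pi.single_apply, σ.injective.eq_iff]
  have hxw' : x ≠ w := fun h' => hxw (by rw [h'])
  by_cases hr : r' = x
  · subst hr
    by_cases hs : s' = w
    · subst hs
      rw [hd r' hzx.symm, hd s' hzw.symm]
      simp [hxw', hxw'.symm, hc0]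
    · by_cases hs' : r' = s'
      · subst hs'; simp [hxw']
      · simp [hs, hs']
  · by_cases hs' : r' = s'
    · subst hs'; simp [hr]
    · simp [hr, hs']

/-- A transvection with axis in one block and centre outside it gives all. -/
theorem full_of_axis (hm : 2 ≤ m) (hn : 5 ≤ n) (hB : HasBlock e X) {u φ : Fin n → F} {a : Fin t}
    (h : PairIn X u φ) (hφ : ∀ c, (e c).1 ≠ a → φ c = 0) (hφ0 : φ ≠ 0) {y : Fin n} (hy : u y ≠ 0)
    (hya : (e y).1 ≠ a) : Full X := by
  classical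
  obtain ⟨x, hxy, hxb⟩ := exists_other hm y (e := e)
  have hxa : (e x).1 ≠ a := hxb ▸ hya
  -- isolate the centre
  have h1 : (Pi.single y (u y)⁻¹ : Fin n → F) ⬝ᵥ (Pi.single x 1 : Fin n → F) = 0 := by simp [hxy.symm]
  have hT := tr_mem_of_block hB h1 (a := (e y).1) (fun r hr => single_supp x 1 r (hxb ▸ hr))
    (single_supp y _)
  have h2 := (pair_conj_tr h1 hT h)
  have e1 : φ ⬝ᵥ (Pi.single x 1 : Fin n → F) = 0 := by simp [hφ x hxa]
  rw [e1, zero_smul, sub_zero, single_dotProduct, inv_mul_cancel₀ hy, one_smul] at h2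
  have h3 : PairIn X (Pi.single x 1) φ := by
    have := h2.add_left h.neg_left
    rwa [add_neg_cancel_comm] at this
  -- isolate the axis
  obtain ⟨z, hz⟩ := Function.ne_iff.mp hφ0
  have hza : (e z).1 = a := by_contra fun h' => hz (hφ z h')
  obtain ⟨w, hwz, hwb⟩ := exists_other hm z (e := e)
  have h4 : (Pi.single w 1 : Fin n → F) ⬝ᵥ (Pi.single z 1 : Fin n → F) = 0 := by simp [hwz]
  have hT' := tr_mem_of_block hB h4 (a := (e z).1) (single_supp z 1) (fun r hr => single_supp w 1 r (hwb ▸ hr))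
  have h5 := pair_conj_tr h4 hT' h3
  have hwx : w ≠ x := fun h' => hxa (by rw [← h', hwb, hza])
  rw [show (Pi.single w 1 : Fin n → F) ⬝ᵥ (Pi.single x 1 : Fin n → F) = 0 from by simp [hwx],
    zero_smul, add_zero, dotProduct_single, mul_one] at h5
  have h6 : PairIn X (Pi.single x 1) (Pi.single w (-φ z)) := by
    have := h5.add_right h3.neg_right
    convert this using 1
    ext r
    by_cases hr : r = w
    · subst hr; simp; ring
    · simp [hr]
  refine full_of_cross hm hn hB ?_ (neg_ne_zero.mpr hz) h6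
  rw [hwb, hza]; exact hxa

/-- Centre parts in one block can be made single. -/
theorem normalize (hB : HasBlock e X) {u ψ : Fin n → F} (a : Fin t) (h : PairIn X u ψ) :
    ∃ u' ψ', PairIn X u' ψ' ∧ (∀ r, (e r).1 ≠ a → u' r = u r ∧ ψ' r = ψ r) ∧
      ((∃ r, (e r).1 = a ∧ ψ r ≠ 0) → ∃ r, (e r).1 = a ∧ ψ' r ≠ 0) ∧
      ∀ r r', (e r).1 = a → (e r').1 = a → u' r ≠ 0 → u' r' ≠ 0 → r = r' := by
  classical
  by_cases hu : ∀ r, (e r).1 = a → u r = 0
  · exact ⟨u, ψ, h, fun r _ => ⟨rfl, rfl⟩, id, fun r r' hr _ h0 _ => absurd (hu r hr) h0⟩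
  push Not at hu
  obtain ⟨w, hwa, hw⟩ := hu
  let v : Fin n → F := fun r => if (e r).1 = a ∧ r ≠ w then -u r else 0
  have hv : (Pi.single w (u w)⁻¹ : Fin n → F) ⬝ᵥ v = 0 := by simp [v]
  have hT := tr_mem_of_block hB hv (a := a) (fun r hr => by simp [v, hr])
    (fun r hr => single_supp w _ r (hwa ▸ hr))
  have h2 := pair_conj_tr hv hT h
  rw [single_dotProduct, inv_mul_cancel₀ hw, one_smul] at h2
  refine ⟨_, _, h2, fun r hr => ⟨by simp [v, hr], ?_⟩, ?_, fun r r' hr hr' h0 h0' => ?_⟩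
  · have hrw : r ≠ w := fun h' => hr (h' ▸ hwa)
    simp [hrw]
  · rintro ⟨r, hr, h0⟩
    by_cases hex : ∃ r', (e r').1 = a ∧ r' ≠ w ∧ ψ r' ≠ 0
    · obtain ⟨r', h1, h2, h3⟩ := hex
      exact ⟨r', h1, by simp [h2, h3]⟩
    push Not at hex
    have hψv : ψ ⬝ᵥ v = 0 := Finset.sum_eq_zero fun x _ => by
      by_cases hx : (e x).1 = a ∧ x ≠ w
      · simp [v, hx, hex x hx.1 hx.2]
      · simp only [v, if_neg hx, mul_zero]
    exact ⟨r, hr, by simp [hψv, h0]⟩
  · have key : ∀ r, (e r).1 = a → (u + v) r ≠ 0 → r = w := fun r hr h0 => by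
      by_contra hrw
      simp [v, hr, hrw] at h0
    exact (key r hr h0).trans (key r' hr' h0').symm

theorem exists_pair_of_not_block (hm : 2 ≤ m) (hB : HasBlock e X) {g : GL (Fin n) F} (hg : g ∈ X)
    (hblock : ¬ IsBlock e g) : ∃ u ψ, PairIn X u ψ ∧
      ∃ (a : Fin t) (z y : Fin n), (e z).1 = a ∧ ψ z ≠ 0 ∧ u y ≠ 0 ∧ (e y).1 ≠ a := by
  classical
  by_contra hc
  have hall : ∀ x y, x ≠ y → (e x).1 = (e y).1 → ∀ z r, g⁻¹.val y z ≠ 0 → g.val r x ≠ 0 →
      (e r).1 = (e z).1 := by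
    intro x y hxy hb z r hz hr
    by_contra hrz
    refine hc ⟨fun r => g.val r x, fun s => g⁻¹.val y s, ?_, (e z).1, z, r, rfl, hz, hr, hrz⟩
    have h1 : (Pi.single y 1 : Fin n → F) ⬝ᵥ (Pi.single x 1 : Fin n → F) = 0 := by simp [hxy.symm]
    refine pair_of_conj hg ⟨h1, tr_mem_of_block hB h1 (a := (e x).1) (single_supp x 1)
      (fun r hr => single_supp y 1 r (hb ▸ hr))⟩ (by ext r; simp) ?_
    ext c
    rw [Matrix.vecMul, dotProduct, inv_mul_val g y c]
    by_cases hyc : y = c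
    · subst hyc; simp
    · simp [hyc, Ne.symm hyc]
  have hdiag : ∀ x, ∃ s, g⁻¹.val x s * g.val s x ≠ 0 := fun x => by
    have := inv_mul_val g x x
    rw [if_pos rfl] at this
    obtain ⟨s, -, hs⟩ := Finset.exists_ne_zero_of_sum_ne_zero (this.trans_ne one_ne_zero)
    exact ⟨s, hs⟩
  choose s hs using hdiag
  have hloc : ∀ x r, g.val r x ≠ 0 → (e r).1 = (e (s x)).1 := by
    intro x r hr
    obtain ⟨y, hyx, hyb⟩ := exists_other hm x (e := e)
    have a1 := hall x y hyx.symm hyb.symm (s y) r (left_ne_zero_of_mul (hs y)) hr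
    have a2 := hall x y hyx.symm hyb.symm (s y) (s x) (left_ne_zero_of_mul (hs y))
      (right_ne_zero_of_mul (hs x))
    exact a1.trans a2.symm
  have hconst : ∀ x y, (e x).1 = (e y).1 → (e (s x)).1 = (e (s y)).1 := by
    intro x y hxy
    by_cases h : x = y
    · rw [h]
    exact hall x y h hxy (s y) (s x) (left_ne_zero_of_mul (hs y)) (right_ne_zero_of_mul (hs x))
  let k0 : Fin m := ⟨0, by omega⟩
  refine hblock ⟨fun i => (e (s (e.symm ⟨i, k0⟩))).1, fun r c hrc => ?_⟩
  by_contra h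
  exact hrc ((hloc c r h).trans (hconst _ _ (by rw [Equiv.apply_symm_apply])))

/-- A subgroup containing the block monomial group and one further element is full. -/
theorem full_of_not_block [Fintype F] (hn : 10 ≤ n) (hm : 2 ≤ m) (h22 : m = 2 → 3 ≤ Fintype.card F)
    (hB : HasBlock e X) {g : GL (Fin n) F} (hg : g ∈ X) (hblock : ¬ IsBlock e g) : Full X := by
  classical
  obtain ⟨u0, ψ0, h0, a, z0, y, hz0a, hψ0, hy, hya⟩ := exists_pair_of_not_block hm hB hg hblock
  obtain ⟨u, ψ, h, hout, hkeep, huniq⟩ := normalize hB a h0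
  have hy1 : u y ≠ 0 := by rw [(hout y hya).1]; exact hy
  obtain ⟨z, hza, hz⟩ := hkeep ⟨z0, hz0a, hψ0⟩
  -- isolate an axis in block `a`
  have step : ∀ (u ψ : Fin n → F), PairIn X u ψ → u y ≠ 0 → ∀ z w, (e z).1 = a → (e w).1 = a →
      z ≠ w → ψ z ≠ 0 → u w = 0 → Full X := by
    intro u ψ h hy z w hz hw hzw hψ huw
    have h4 : (Pi.single w 1 : Fin n → F) ⬝ᵥ (Pi.single z 1 : Fin n → F) = 0 := by simp [hzw.symm]
    have hT' := tr_mem_of_block hB h4 (a := a) (fun r hr => single_supp z 1 r (hz ▸ hr))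
      (fun r hr => single_supp w 1 r (hw ▸ hr))
    have h5 := pair_conj_tr h4 hT' h
    rw [single_dotProduct, huw, mul_zero, zero_smul, add_zero, dotProduct_single, mul_one] at h5
    have h6 : PairIn X u (Pi.single w (-ψ z)) := by
      have := h5.add_right h.neg_right
      convert this using 1
      ext r
      by_cases hr : r = w
      · subst hr; simp; ring
      · simp [hr]
    exact full_of_axis hm (by omega) hB h6 (fun c hc => single_supp w _ c (hw ▸ hc))
      (fun h' => hψ (by simpa using congrFun h' w)) hy hya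
  by_cases hex : ∃ w, (e w).1 = a ∧ w ≠ z ∧ u w = 0
  · obtain ⟨w, hw, hwz, huw⟩ := hex
    exact step u ψ h hy1 z w hza hw hwz.symm hz huw
  push Not at hex
  obtain ⟨w, hwz, hwa'⟩ := exists_other hm z (e := e)
  have hwa : (e w).1 = a := hwa'.trans hza
  have huw := hex w hwa hwz
  have huz : u z = 0 := by
    by_contra h'
    exact hwz (huniq w z hwa hza huw h')
  have hm2 : ∀ r, (e r).1 = a → r = z ∨ r = w := fun r hr => by
    by_cases h' : r = z
    · exact Or.inl h'
    · exact Or.inr (huniq r w hr hwa (hex r hr h') huw)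
  by_cases hψw : ψ w = 0
  swap
  · exact step u ψ h hy1 w z hwa hza hwz hψw huz
  -- blocks of size two and three coordinates with zero centre
  have hmeq : m = 2 := by
    by_contra hne
    obtain ⟨k, -, hk⟩ := Finset.exists_mem_notMem_of_card_lt_card
      (s := ({(e z).2, (e w).2} : Finset (Fin m))) (t := Finset.univ)
      (lt_of_le_of_lt Finset.card_le_two (by simp; omega))
    simp only [Finset.mem_insert, Finset.mem_singleton, not_or] at hk
    rcases hm2 (e.symm ⟨a, k⟩) (by rw [Equiv.apply_symm_apply]) with h' | h'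
    · exact hk.1 (by rw [← h', Equiv.apply_symm_apply])
    · exact hk.2 (by rw [← h', Equiv.apply_symm_apply])
  obtain ⟨μ, hμ⟩ := exists_unit_not_mem ({1} : Finset F) (by simp; have := h22 hmeq; omega)
  rw [Finset.mem_singleton] at hμ
  have ht : 4 ≤ t := by
    have := Fintype.card_congr e
    simp [hmeq] at this
    omega
  obtain ⟨b, -, hb⟩ := Finset.exists_mem_notMem_of_card_lt_card
    (s := ({a, (e y).1} : Finset (Fin t))) (t := Finset.univ)
    (lt_of_le_of_lt Finset.card_le_two (by simp; omega))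
  obtain ⟨b', -, hb'⟩ := Finset.exists_mem_notMem_of_card_lt_card
    (s := ({a, (e y).1, b} : Finset (Fin t))) (t := Finset.univ)
    (lt_of_le_of_lt Finset.card_le_three (by simp; omega))
  simp only [Finset.mem_insert, Finset.mem_singleton, not_or] at hb hb'
  obtain ⟨u1, ψ1, h1, hout1, -, hu1⟩ := normalize hB b h
  obtain ⟨u2, ψ2, h2, hout2, -, hu2⟩ := normalize hB b' h1
  have zero_in : ∀ (v : Fin n → F) (i : Fin t),
      (∀ r r', (e r).1 = i → (e r').1 = i → v r ≠ 0 → v r' ≠ 0 → r = r') → ∃ c, (e c).1 = i ∧ v c = 0 := by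
    intro v i hv
    by_contra hc
    push Not at hc
    have e1 : (e.symm ⟨i, ⟨0, by omega⟩⟩) = e.symm ⟨i, ⟨1, by omega⟩⟩ :=
      hv _ _ (by simp) (by simp) (hc _ (by simp)) (hc _ (by simp))
    simp at e1
  obtain ⟨c, hc, huc1⟩ := zero_in u1 b hu1
  obtain ⟨c', hc', huc'⟩ := zero_in u2 b' hu2
  have hay : ∀ r, (e r).1 = a ∨ r = y → u2 r = u r ∧ ψ2 r = ψ r := by
    intro r hr
    have r1 : (e r).1 ≠ b := by
      rcases hr with hr | rfl
      · exact fun h' => hb.1 (h'.symm.trans hr)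
      · exact fun h' => hb.2 h'.symm
    have r2 : (e r).1 ≠ b' := by
      rcases hr with hr | rfl
      · exact fun h' => hb'.1 (h'.symm.trans hr)
      · exact fun h' => hb'.2.1 h'.symm
    exact ⟨(hout2 r r2).1.trans (hout1 r r1).1, (hout2 r r2).2.trans (hout1 r r1).2⟩
  have huc : u2 c = 0 := by
    rw [(hout2 c (fun h' => hb'.2.2 (by rw [← h', hc]))).1, huc1]
  have hcz : c ≠ z := fun h' => hb.1 (by rw [← hc, h', hza])
  have hc'z : c' ≠ z := fun h' => hb'.1 (by rw [← hc', h', hza])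
  have hc'c : c' ≠ c := fun h' => hb'.2.2 (by rw [← hc', h', hc])
  have diag : ∀ (v χ : Fin n → F) (c : Fin n), c ≠ z → v z = 0 → v c = 0 → PairIn X v χ →
      PairIn X v (fun r => χ r * (if r = z then ((μ⁻¹ : Fˣ) : F) else if r = c then (μ : F) else 1) - χ r) := by
    intro v χ c hcz hvz hvc hv
    have hM : (pairGL z c μ : GL (Fin n) F) ∈ X :=
      hB _ (isBlock_monGL 1 _ id fun _ => rfl) (pairGL_det hcz.symm μ)
    have h' : PairIn X v (fun r => χ r * (if r = z then ((μ⁻¹ : Fˣ) : F) else if r = c then (μ : F) else 1)) := by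
      refine pair_of_conj hM hv ?_ ?_
      · ext r
        rw [Matrix.mulVec, dotProduct, Finset.sum_eq_single r
          (fun x _ hx => by rw [pairGL_val, if_neg (Ne.symm hx), zero_mul]) (by simp), pairGL_val, if_pos rfl]
        by_cases hr : r = z
        · subst hr; simp [hvz]
        · by_cases hr' : r = c
          · subst hr'; simp [hvc]
          · simp [hr, hr']
      · ext r
        rw [Matrix.vecMul, dotProduct, Finset.sum_eq_single r
          (fun x _ hx => by rw [pairGL_val, if_neg hx, mul_zero]) (by simp), pairGL_val, if_pos rfl]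
        by_cases hr : r = z
        · subst hr; simp
        · by_cases hr' : r = c
          · subst hr'; simp [hr]
          · simp [hr, hr']
    have := h'.add_right hv.neg_right
    convert this using 1
    ext r
    simp [sub_eq_add_neg]
  have hu2z : u2 z = 0 := by rw [(hay z (Or.inl hza)).1, huz]
  have h3 := diag u2 ψ2 c hcz hu2z huc h2
  have h4 := diag u2 _ c' hc'z hu2z huc' h3
  refine full_of_axis hm (by omega) hB h4 (a := a) (fun r hr => ?_) (fun h' => ?_)
    (by rw [(hay y (Or.inr rfl)).1]; exact hy1) hya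
  · have hrz : r ≠ z := fun h' => hr (h' ▸ hza)
    by_cases hrc : r = c
    · subst hrc; simp [hrz, Ne.symm hc'c]
    · by_cases hrc' : r = c'
      · subst hrc'; simp [hrz, hrc]
      · simp [hrz, hrc, hrc']
  · have := congrFun h' z
    simp only [if_true, Pi.zero_apply, (hay z (Or.inl hza)).2] at this
    have hne : ((μ⁻¹ : Fˣ) : F) - 1 ≠ 0 := fun e1 => hμ (by
      have e2 : μ⁻¹ = 1 := Units.ext (sub_eq_zero.mp e1)
      rw [inv_eq_one.mp e2, Units.val_one])
    exact mul_ne_zero hz (pow_ne_zero 2 hne) (by linear_combination this)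

end H61.Block
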