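import Cfsg.Agent.H61.MonomialFix

/-!
Overgroups of the monomial group in `SL n F` (`10 ≤ n`, `5 ≤ #F`).
-/

set_option autoImplicit false

namespace H61.Monomial

open Matrix

variable {F : Type*} [Field F] {n : ℕ}

theorem biRefl_mul (g : GL (Fin n) F) (i j : Fin n) (a b : Fˣ) :
    biRefl g i j a * biRefl g i j b = biRefl g i j (a * b) := by
  rw [biRefl, biRefl, biRefl, pairGL_mul]; group

theorem col_single_ne_zero {g : GL (Fin n) F} {p c : Fin n} (h : ∀ r, r ≠ p → g.val r c = 0) :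
    g.val p c ≠ 0 := by
  intro h0
  have := inv_mul_val g c c
  rw [Finset.sum_eq_zero (fun x _ => ?_), if_pos rfl] at this
  · exact zero_ne_one this
  · by_cases hx : x = p
    · rw [hx, h0, mul_zero]
    · rw [h x hx, mul_zero]

theorem col_single_inj {g : GL (Fin n) F} {p q c d : Fin n} (h : ∀ r, r ≠ p → g.val r c = 0)
    (h' : ∀ r, r ≠ q → g.val r d = 0) (hpq : p = q) : c = d := by
  subst hpq
  by_contra hcd
  have e1 := inv_mul_val g d c
  rw [Finset.sum_eq_single p (fun x _ hx => by rw [h x hx, mul_zero]) (by simp),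
    if_neg (Ne.symm hcd)] at e1
  have e2 := inv_mul_val g d d
  rw [Finset.sum_eq_single p (fun x _ hx => by rw [h' x hx, mul_zero]) (by simp), if_pos rfl] at e2
  rw [(mul_eq_zero.mp e1).resolve_right (col_single_ne_zero h), zero_mul] at e2
  exact zero_ne_one e2

theorem not_mono_inv [Finite F] {g : GL (Fin n) F} (h : ¬ IsMono g) : ¬ IsMono g⁻¹ := fun h' =>
  h (inv_inv g ▸ h'.inv)

theorem exists_unit_orders [Fintype F] (hq : 5 ≤ Fintype.card F) :
    ∃ a : Fˣ, a * a ≠ 1 ∧ a * a * a ≠ 1 := by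
  classical
  obtain ⟨a, ha⟩ := IsCyclic.exists_ofOrder_eq_natCard (α := Fˣ)
  rw [Nat.card_eq_fintype_card, Fintype.card_units] at ha
  refine ⟨a, fun h => ?_, fun h => ?_⟩
  · have := orderOf_dvd_of_pow_eq_one (x := a) (n := 2) (by rw [pow_two, h])
    have := Nat.le_of_dvd (by norm_num) this
    omega
  · have := orderOf_dvd_of_pow_eq_one (x := a) (n := 3) (by rw [pow_succ, pow_two, h])
    have := Nat.le_of_dvd (by norm_num) this
    omega

variable [Fintype F] {X : Subgroup (GL (Fin n) F)}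

section NotFull

variable (hn : 10 ≤ n) (hq : 5 ≤ Fintype.card F) (hN : HasMono X) (hF : ¬ Full X)
include hn hq hN hF

/-- No non-monomial element of `X` maps two coordinate lines to coordinate lines. -/
theorem mono_of_two_lines {G : GL (Fin n) F} (hG : G ∈ X) {k l p q : Fin n} (hkl : k ≠ l)
    (hp : ∀ r, r ≠ p → G.val r k = 0) (hq' : ∀ r, r ≠ q → G.val r l = 0) : IsMono G := by
  by_contra hmono
  have hpq : p ≠ q := fun e => hkl (col_single_inj hp hq' e)
  obtain ⟨z, hzk, hzl, -, -⟩ := exists_ne₄ (show 5 ≤ n by omega) k l k l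
  obtain ⟨σ, hσk, hσl⟩ : ∃ σ : Equiv.Perm (Fin n), σ k = p ∧ σ l = q := by
    refine ⟨Equiv.swap (Equiv.swap k p l) q * Equiv.swap k p, ?_, ?_⟩
    · rw [Equiv.Perm.mul_apply, Equiv.swap_apply_left, Equiv.swap_apply_of_ne_of_ne _ hpq]
      intro e
      have := congrArg (Equiv.swap k p) e
      rw [Equiv.swap_apply_self, Equiv.swap_apply_right] at this
      exact hkl this
    · rw [Equiv.Perm.mul_apply, Equiv.swap_apply_left]
  obtain ⟨d, hd, hdet⟩ := exists_monGL_det_one σ
    (fun c => if c = k then Units.mk0 _ (col_single_ne_zero hp)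
      else if c = l then Units.mk0 _ (col_single_ne_zero hq') else 1) z
  have hM := hN _ (isMono_monGL σ d) hdet
  have fix : ∀ c p', σ c = p' → (∀ r, r ≠ p' → G.val r c = 0) → (d c : F) = G.val p' c →
      Fixes ((monGL σ d)⁻¹ * G) c := by
    intro c p' hc h hdc r
    rw [mul_val_apply, Finset.sum_eq_single p' (fun x _ hx => by rw [h x hx, mul_zero]) (by simp),
      monGL_inv_val, ← hdc]
    by_cases hr : r = c
    · subst hr
      rw [if_pos hc, if_pos rfl, Units.inv_mul]
    · rw [if_neg (fun e => hr (σ.injective (e.trans hc.symm))), zero_mul, if_neg hr]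
  refine hF (full_of_fix_two (by omega) hq hN (mul_mem (inv_mem hM) hG) ?_ hkl
    (fix k p hσk hp (by rw [hd k hzk.symm]; simp))
    (fix l q hσl hq' (by rw [hd l hzl.symm]; simp [hkl.symm])))
  intro h
  exact hmono (by simpa [← mul_assoc] using (isMono_monGL σ d).mul h)

omit hn hq hN hF in
theorem pair_mono_data {G : GL (Fin n) F} {k l : Fin n} (hkl : k ≠ l) {a : Fˣ} (h2 : a * a ≠ 1)
    (h3 : a * a * a ≠ 1) (hy : IsMono (biRefl G k l a)) :
    ∃ R : Set (Fin n), (∀ x, x ≠ k → x ≠ l → ∀ r ∈ R, G.val r x = 0 ∧ G⁻¹.val x r = 0) ∧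
      ∀ r, (G.val r k ≠ 0 ∨ G.val r l ≠ 0) → r ∈ R := by
  obtain ⟨σ, hσ⟩ := hy
  set y := biRefl G k l a with hy
  let v : Fˣ → Fin n → F := fun b x => if x = k then (b : F) else if x = l then ((b⁻¹ : Fˣ) : F) else 1
  have hB : ∀ b r c, (biRefl G k l b).val r c = ∑ x, G.val r x * v b x * G⁻¹.val x c := by
    intro b r c
    rw [biRefl, mul_val_apply]
    refine Finset.sum_congr rfl fun x _ => ?_
    rw [mul_val_apply, Finset.sum_eq_single x (fun z _ hz => by rw [pairGL_val, if_neg hz, mul_zero])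
      (by simp), pairGL_val, if_pos rfl]
  have hs : ∀ r c, (biRefl G k l (a * a * a)).val r c -
      (1 + (a : F) + ((a⁻¹ : Fˣ) : F)) * (biRefl G k l (a * a)).val r c +
      (1 + (a : F) + ((a⁻¹ : Fˣ) : F)) * y.val r c - (if r = c then 1 else 0) = 0 := by
    intro r c
    rw [hy, hB, hB, hB, ← mul_inv_val G r c, Finset.mul_sum, Finset.mul_sum, ← Finset.sum_sub_distrib,
      ← Finset.sum_add_distrib, ← Finset.sum_sub_distrib]
    refine Finset.sum_eq_zero fun x _ => ?_
    have : v (a * a * a) x - (1 + (a : F) + ((a⁻¹ : Fˣ) : F)) * v (a * a) x +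
        (1 + (a : F) + ((a⁻¹ : Fˣ) : F)) * v a x - 1 = 0 := by
      have ha : (a : F) ≠ 0 := a.ne_zero
      simp only [v]
      split_ifs <;> simp only [Units.val_mul, _root_.mul_inv_rev, Units.val_inv_eq_inv_val] <;>
        field_simp <;> ring
    linear_combination G.val r x * G⁻¹.val x c * this
  have hy2 : biRefl G k l (a * a) = y * y := by rw [hy, biRefl_mul]
  have hy3 : biRefl G k l (a * a * a) = y * y * y := by rw [hy, biRefl_mul, biRefl_mul]
  have hinj : ∀ c d, σ c = σ d → c = d := fun c d e =>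
    col_single_inj (fun r hr => hσ r c hr) (fun r hr => hσ r d hr) e
  have hsq : ∀ r c, r ≠ σ (σ c) → (y * y).val r c = 0 := by
    intro r c hr
    rw [mul_val_apply]
    refine Finset.sum_eq_zero fun x _ => ?_
    by_cases hx : x = σ c
    · rw [hσ r x (hx ▸ hr), zero_mul]
    · rw [hσ x c hx, mul_zero]
  have hcube : ∀ r c, r ≠ σ (σ (σ c)) → (y * y * y).val r c = 0 := by
    intro r c hr
    rw [mul_val_apply]
    refine Finset.sum_eq_zero fun x _ => ?_
    by_cases hx : x = σ c
    · rw [hsq r x (hx ▸ hr), zero_mul]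
    · rw [hσ x c hx, mul_zero]
  have hσ2 : ∀ c, σ (σ c) = c := by
    intro c
    by_contra h
    have h1 : σ c ≠ c := fun e => h (by rw [e, e])
    have e1 := hs c c
    rw [hy2, hy3, hsq c c (Ne.symm h), hσ c c (Ne.symm h1), if_pos rfl] at e1
    by_cases h3' : σ (σ (σ c)) = c
    · have e2 := hs (σ c) c
      rw [hy2, hy3, hsq _ c (fun e => h1 (hinj _ _ e.symm)), hcube _ c (by rwa [h3']), if_neg h1] at e2
      have e3 := (mul_eq_zero.mp (by simpa using e2)).resolve_right (col_single_ne_zero fun r hr => hσ r c hr)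
      refine h3 (Units.ext ?_)
      rw [Units.val_mul, Units.val_mul, Units.val_one]
      have ha : (a : F) ≠ 0 := a.ne_zero
      field_simp at e3
      linear_combination ((a : F) - 1) * e3
    · rw [hcube c c (Ne.symm h3')] at e1
      simp at e1
  -- the square is diagonal
  set y2 := biRefl G k l (a * a) with hy2'
  have hdiag : ∀ r c, r ≠ c → y2.val r c = 0 := fun r c hrc => by
    rw [hy2, hsq r c (by rwa [hσ2])]
  have eG : ∀ r x, y2.val r r * G.val r x = G.val r x * v (a * a) x := by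
    intro r x
    have e : y2 * G = G * pairGL k l (a * a) := by rw [hy2', biRefl, inv_mul_cancel_right]
    have := congrArg (fun M : GL (Fin n) F => M.val r x) e
    simp only [mul_val_apply] at this
    rwa [Finset.sum_eq_single r (fun z _ hz => by rw [hdiag r z (Ne.symm hz), zero_mul]) (by simp),
      Finset.sum_eq_single x (fun z _ hz => by rw [pairGL_val, if_neg hz, mul_zero]) (by simp),
      pairGL_val, if_pos rfl] at this
  have eG' : ∀ r x, G⁻¹.val x r * y2.val r r = v (a * a) x * G⁻¹.val x r := by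
    intro r x
    have e : G⁻¹ * y2 = pairGL k l (a * a) * G⁻¹ := by rw [hy2', biRefl, mul_assoc, inv_mul_cancel_left]
    have := congrArg (fun M : GL (Fin n) F => M.val x r) e
    simp only [mul_val_apply] at this
    rwa [Finset.sum_eq_single r (fun z _ hz => by rw [hdiag z r hz, mul_zero]) (by simp),
      Finset.sum_eq_single x (fun z _ hz => by rw [pairGL_val, if_neg (Ne.symm hz), zero_mul]) (by simp),
      pairGL_val, if_pos rfl] at this
  refine ⟨{r | y2.val r r ≠ 1}, fun x hxk hxl r hr => ?_, fun r hr e => ?_⟩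
  · have hv : v (a * a) x = 1 := by simp [v, hxk, hxl]
    refine ⟨?_, ?_⟩
    · by_contra h
      have := eG r x
      rw [hv, mul_one] at this
      exact hr ((mul_eq_right₀ h).mp this)
    · by_contra h
      have := eG' r x
      rw [hv, one_mul] at this
      exact hr ((mul_eq_left₀ h).mp this)
  · rcases hr with h | h
    · have := eG r k
      rw [e, one_mul] at this
      simp only [v, if_true] at this
      exact h2 (Units.ext (by rw [Units.val_one]; exact ((mul_eq_left₀ h).mp this.symm)))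
    · have := eG r l
      rw [e, one_mul] at this
      simp only [v, if_neg hkl.symm, if_true] at this
      exact h2 (inv_eq_one.mp (Units.ext (by rw [Units.val_one]; exact ((mul_eq_left₀ h).mp this.symm))))

/-- Conjugates of good pair elements are not monomial. -/
theorem not_mono_conj {G : GL (Fin n) F} (hG : G ∈ X) (hmono : ¬ IsMono G) {k l : Fin n} (hkl : k ≠ l)
    {a : Fˣ} (h2 : a * a ≠ 1) (h3 : a * a * a ≠ 1) : ¬ IsMono (biRefl G k l a) := by
  intro hy
  obtain ⟨R, hout, hin⟩ := pair_mono_data hkl h2 h3 hy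
  -- two members of `R`
  obtain ⟨r, r', hr, hr', hne⟩ : ∃ r r', r ∈ R ∧ r' ∈ R ∧ r ≠ r' := by
    by_contra hc
    push Not at hc
    obtain ⟨r0, hr0⟩ : ∃ r, G.val r k ≠ 0 := by
      by_contra h
      push Not at h
      exact col_single_ne_zero (g := G) (p := k) (c := k) (fun r _ => h r) (h k)
    have hR := hin r0 (Or.inl hr0)
    refine hkl (col_single_inj (g := G) (p := r0) (q := r0) (fun r hr => ?_) (fun r hr => ?_) rfl)
    · by_contra h; exact hr (hc r r0 (hin r (Or.inl h)) hR)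
    · by_contra h; exact hr (hc r r0 (hin r (Or.inr h)) hR)
  obtain ⟨u, huk, hul, -, -⟩ := exists_ne₄ (show 5 ≤ n by omega) k l k l
  obtain ⟨v, hvk, hvl, hvu, -⟩ := exists_ne₄ (show 5 ≤ n by omega) k l u u
  obtain ⟨w, hwk, hwl, hwu, hwv⟩ := exists_ne₄ (show 5 ≤ n by omega) k l u v
  have hf : ∀ p q, p ≠ k → p ≠ l → q ≠ k → q ≠ l → p ≠ q → IsMono (biRefl G p q a) := by
    intro p q h1 h1' h4 h4' hpq
    by_contra hc
    have fix : ∀ s ∈ R, Fixes (biRefl G p q a) s := fun s hs z => by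
      rw [biRefl_val _ hpq, (hout p h1 h1' s hs).2, (hout q h4 h4' s hs).2]
      ring
    exact hF (full_of_fix_two (by omega) hq hN
      (mul_mem (mul_mem hG (hN _ (isMono_pairGL ..) (pairGL_det hpq a))) (inv_mem hG)) hc hne
      (fix r hr) (fix r' hr'))
  have single : ∀ p q s, p ≠ k → p ≠ l → q ≠ k → q ≠ l → s ≠ k → s ≠ l → p ≠ q → p ≠ s → q ≠ s →
      ∃ t, ∀ z, z ≠ t → G.val z p = 0 := by
    intro p q s p1 p2 q1 q2 s1 s2 hpq hps hqs
    obtain ⟨R1, o1, i1⟩ := pair_mono_data hpq h2 h3 (hf p q p1 p2 q1 q2 hpq)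
    obtain ⟨R2, o2, i2⟩ := pair_mono_data hps h2 h3 (hf p s p1 p2 s1 s2 hps)
    have others : ∀ z, z ∈ R1 → z ∈ R2 → ∀ x, x ≠ p → G.val z x = 0 := by
      intro z hz1 hz2 x hxp
      by_cases hxq : x = q
      · exact hxq ▸ (o2 q hpq.symm hqs z hz2).1
      · exact (o1 x hxp hxq z hz1).1
    have uniq : ∀ z z', z ∈ R1 → z ∈ R2 → z' ∈ R1 → z' ∈ R2 → z = z' := by
      intro z z' a1 a2 b1 b2
      by_contra hzz
      have e1 := mul_inv_val G z z'
      rw [Finset.sum_eq_single p (fun x _ hx => by rw [others z a1 a2 x hx, zero_mul]) (by simp),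
        if_neg hzz] at e1
      have e2 := mul_inv_val G z z
      rw [Finset.sum_eq_single p (fun x _ hx => by rw [others z a1 a2 x hx, zero_mul]) (by simp),
        if_pos rfl] at e2
      have e3 := mul_inv_val G z' z'
      rw [Finset.sum_eq_single p (fun x _ hx => by rw [others z' b1 b2 x hx, zero_mul]) (by simp),
        if_pos rfl] at e3
      rw [(mul_eq_zero.mp e1).resolve_left (left_ne_zero_of_mul_eq_one e2), mul_zero] at e3
      exact zero_ne_one e3
    obtain ⟨t, ht⟩ : ∃ t, G.val t p ≠ 0 := by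
      by_contra h
      push Not at h
      exact col_single_ne_zero (g := G) (p := p) (c := p) (fun r _ => h r) (h p)
    exact ⟨t, fun z hz => by_contra fun h => hz
      (uniq z t (i1 z (Or.inl h)) (i2 z (Or.inl h)) (i1 t (Or.inl ht)) (i2 t (Or.inl ht)))⟩
  obtain ⟨t, ht⟩ := single u v w huk hul hvk hvl hwk hwl hvu.symm hwu.symm hwv.symm
  obtain ⟨t', ht'⟩ := single v u w hvk hvl huk hul hwk hwl hvu hwv.symm hwu.symm
  exact hmono (mono_of_two_lines hn hq hN hF hG hvu.symm ht ht')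

/-- Conjugates of non-trivial pair elements are not monomial. -/
theorem biRefl_not_mono {g : GL (Fin n) F} (hg : g ∈ X) (hmono : ¬ IsMono g) {i j : Fin n}
    (hij : i ≠ j) {a : Fˣ} (ha : (a : F) ≠ 1) : ¬ IsMono (biRefl g i j a) := by
  classical
  intro hf
  obtain ⟨σ, hσ⟩ := hf
  have hinj : Function.Injective σ := fun c d e =>
    col_single_inj (fun r hr => hσ r c hr) (fun r hr => hσ r d hr) e
  let S : Finset (Fin n) := Finset.univ.filter fun x => ¬ Fixes (biRefl g i j a) x
  by_cases hS : S.card ≤ 6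
  · -- at least two fixed points
    have h2 : 1 < Sᶜ.card := by rw [Finset.card_compl, Fintype.card_fin]; omega
    obtain ⟨x, hx, x', hx', hxx⟩ := Finset.one_lt_card.mp h2
    have coord : ∀ x ∈ Sᶜ, g⁻¹.val i x = 0 ∧ g⁻¹.val j x = 0 := by
      intro x hx
      simp only [S, Finset.mem_compl, Finset.mem_filter, Finset.mem_univ, true_and, not_not] at hx
      have e : ∀ z, ((a : F) - 1) * g⁻¹.val i x * g.val z i +
          (((a⁻¹ : Fˣ) : F) - 1) * g⁻¹.val j x * g.val z j = 0 := fun z => by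
        have := (biRefl_val g hij a z x).symm.trans (hx z)
        linear_combination this
      have proj : ∀ w, ((a : F) - 1) * g⁻¹.val i x * (if w = i then 1 else 0) +
          (((a⁻¹ : Fˣ) : F) - 1) * g⁻¹.val j x * (if w = j then 1 else 0) = 0 := by
        intro w
        rw [← inv_mul_val g w i, ← inv_mul_val g w j, Finset.mul_sum, Finset.mul_sum,
          ← Finset.sum_add_distrib]
        refine Finset.sum_eq_zero fun z _ => ?_
        linear_combination g⁻¹.val w z * e z
      constructor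
      · have := proj i
        rw [if_pos rfl, if_neg hij] at this
        simpa [sub_ne_zero.mpr ha] using this
      · have := proj j
        rw [if_pos rfl, if_neg hij.symm] at this
        have ha' : ((a⁻¹ : Fˣ) : F) - 1 ≠ 0 := fun e => ha (by
          have h' : a⁻¹ = 1 := Units.ext (sub_eq_zero.mp e)
          rw [inv_eq_one.mp h', Units.val_one])
        rw [mul_zero, zero_add, mul_one] at this
        exact (mul_eq_zero.mp this).resolve_left ha'
    obtain ⟨b, hb2, hb3⟩ := exists_unit_orders hq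
    have fix : ∀ x ∈ Sᶜ, Fixes (biRefl g i j b) x := fun x hx z => by
      rw [biRefl_val _ hij, (coord x hx).1, (coord x hx).2]; ring
    exact hF (full_of_fix_two (by omega) hq hN
      (mul_mem (mul_mem hg (hN _ (isMono_pairGL ..) (pairGL_det hij b))) (inv_mem hg))
      (not_mono_conj hn hq hN hF hg hmono hij hb2 hb3) hxx (fix x hx) (fix x' hx'))
  · -- three independent moved coordinates
    push Not at hS
    obtain ⟨σi, hσi⟩ := (Finite.injective_iff_surjective.mp hinj).hasRightInverse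
    obtain ⟨x1, hx1⟩ : S.Nonempty := Finset.card_pos.mp (by omega)
    obtain ⟨x2, hx2, hb2⟩ := Finset.exists_mem_notMem_of_card_lt_card
      (s := ({x1, σ x1, σi x1} : Finset (Fin n))) (t := S) (lt_of_le_of_lt Finset.card_le_three (by omega))
    obtain ⟨x3, hx3, hb3⟩ := Finset.exists_mem_notMem_of_card_lt_card
      (s := ({x1, σ x1, σi x1} : Finset (Fin n)) ∪ {x2, σ x2, σi x2}) (t := S)
      (lt_of_le_of_lt ((Finset.card_union_le _ _).trans
        (Nat.add_le_add Finset.card_le_three Finset.card_le_three)) (by omega))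
    simp only [Finset.mem_insert, Finset.mem_singleton, Finset.mem_union, not_or] at hb2 hb3
    have hpre : ∀ x z, σ x = z → x = σi z := fun x z e => hinj (e.trans (hσi z).symm)
    let c : F := (a : F) - 1
    let c' : F := ((a⁻¹ : Fˣ) : F) - 1
    let E : Fin n → Fin n → F := fun r s => c * g.val r i * g⁻¹.val i s + c' * g.val r j * g⁻¹.val j s
    have hE : ∀ r s, E r s = (biRefl g i j a).val r s - if r = s then 1 else 0 := fun r s => by
      rw [biRefl_val _ hij]; ring
    have hoff : ∀ r s, r ≠ s → σ s ≠ r → E r s = 0 := fun r s h1 h2 => by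
      rw [hE, hσ r s (Ne.symm h2), if_neg h1, sub_zero]
    have hdia : ∀ r ∈ S, E r r ≠ 0 := by
      intro r hr h
      simp only [S, Finset.mem_filter, Finset.mem_univ, true_and] at hr
      rw [hE, if_pos rfl] at h
      refine hr fun z => ?_
      by_cases hz : z = r
      · rw [hz, if_pos rfl]; exact sub_eq_zero.mp h
      · rw [if_neg hz]
        refine hσ z r fun e => ?_
        by_cases hσr : σ r = r
        · exact hz (e.trans hσr)
        · rw [hσ r r (Ne.symm hσr)] at h
          simp at h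
    have key : E x1 x1 * E x2 x2 * E x3 x3 + E x1 x2 * E x2 x3 * E x3 x1 + E x1 x3 * E x2 x1 * E x3 x2
        - E x1 x3 * E x2 x2 * E x3 x1 - E x1 x2 * E x2 x1 * E x3 x3 - E x1 x1 * E x2 x3 * E x3 x2 = 0 := by
      simp only [E]; ring
    rw [hoff x1 x2 (Ne.symm hb2.1) (fun e => hb2.2.2 (hpre _ _ e)),
      hoff x2 x1 hb2.1 (fun e => hb2.2.1 e.symm),
      hoff x1 x3 (Ne.symm hb3.1.1) (fun e => hb3.1.2.2 (hpre _ _ e)),
      hoff x2 x3 (Ne.symm hb3.2.1) (fun e => hb3.2.2.2 (hpre _ _ e))] at key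
    refine mul_ne_zero (mul_ne_zero (hdia x1 hx1) (hdia x2 hx2)) (hdia x3 hx3) ?_
    linear_combination key

end NotFull

section Search

variable (X)

/-- An element giving, by conjugation, a non-monomial element fixing one more basis vector. -/
def Out (Z : Finset (Fin n)) : Prop :=
  ∃ G ∈ X, ¬ IsMono G ∧ (∀ z ∈ Z, Fixes G z) ∧
    ∃ k l x, k ≠ l ∧ k ∉ Z ∧ l ∉ Z ∧ x ∉ Z ∧ G.val k x = 0 ∧ G.val l x = 0

variable {X}
variable (hn : 10 ≤ n) (hq : 5 ≤ Fintype.card F) (hN : HasMono X) (hF : ¬ Full X)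
variable {Z : Finset (Fin n)} (hZ : Z.card ≤ 1)
include hn hq hN hF

theorem exists_fix_of_out (h : Out X Z) :
    ∃ y ∈ X, ¬ IsMono y ∧ (∀ z ∈ Z, Fixes y z) ∧ ∃ x ∉ Z, Fixes y x := by
  obtain ⟨G, hG, hmono, hfix, k, l, x, hkl, hk, hl, hx, h1, h2⟩ := h
  obtain ⟨a, ha2, ha3⟩ := exists_unit_orders hq
  exact ⟨biRefl G⁻¹ k l a,
    mul_mem (mul_mem (inv_mem hG) (hN _ (isMono_pairGL ..) (pairGL_det hkl a))) (inv_mem (inv_mem hG)),
    not_mono_conj hn hq hN hF (inv_mem hG) (not_mono_inv hmono) hkl ha2 ha3,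
    fun z hz => fixes_biRefl (i := k) (j := l) (hfix z hz).inv (fun e => hk (e ▸ hz)) (fun e => hl (e ▸ hz)) a,
    x, hx, fixes_biRefl_inv h1 h2 a⟩

variable {g : GL (Fin n) F} (hg : g ∈ X) (hmono : ¬ IsMono g) (hfix : ∀ z ∈ Z, Fixes g z)
variable {i j : Fin n} (hij : i ≠ j) (hi : i ∉ Z) (hj : j ∉ Z)
include hg hmono hfix hij hi hj

theorem refl_mem (a : Fˣ) (ha : (a : F) ≠ 1) :
    biRefl g i j a ∈ X ∧ ¬ IsMono (biRefl g i j a) ∧ ∀ z ∈ Z, Fixes (biRefl g i j a) z :=
  ⟨mul_mem (mul_mem hg (hN _ (isMono_pairGL ..) (pairGL_det hij a))) (inv_mem hg),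
    biRefl_not_mono hn hq hN hF hg hmono hij ha,
    fun z hz => fixes_biRefl (i := i) (j := j) (hfix z hz) (fun e => hi (e ▸ hz)) (fun e => hj (e ▸ hz)) a⟩

include hZ

theorem out_of_zero {y : Fin n} (hy : y ∉ Z) (h1 : g⁻¹.val i y = 0) (h2 : g⁻¹.val j y = 0) :
    Out X Z := by
  classical
  obtain ⟨a, ha⟩ := exists_unit_not_mem ({1} : Finset F) (by simp; omega)
  rw [Finset.mem_singleton] at ha
  obtain ⟨hm, hnm, hfx⟩ := refl_mem hn hq hN hF hg hmono hfix hij hi hj a ha
  have h3 : 1 < (Zᶜ.erase y).card := by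
    have := Finset.pred_card_le_card_erase (s := Zᶜ) (a := y)
    rw [Finset.card_compl, Fintype.card_fin] at this
    omega
  obtain ⟨k, hk, l, hl, hkl⟩ := Finset.one_lt_card.mp h3
  simp only [Finset.mem_erase, Finset.mem_compl] at hk hl
  refine ⟨_, hm, hnm, hfx, k, l, y, hkl, hk.2, hl.2, hy, ?_, ?_⟩
  · rw [biRefl_val _ hij, h1, h2, if_neg hk.1]; ring
  · rw [biRefl_val _ hij, h1, h2, if_neg hl.1]; ring

/-- Three members with parallel inverse rows. -/
theorem out_of_big {S : Finset (Fin n)} (hS : 3 ≤ S.card) (hSZ : ∀ r ∈ S, r ∉ Z)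
    (hpar : ∀ r ∈ S, ∀ s ∈ S, g⁻¹.val i r * g⁻¹.val j s = g⁻¹.val i s * g⁻¹.val j r)
    (hnz : ∀ r ∈ S, g⁻¹.val i r ≠ 0 ∨ g⁻¹.val j r ≠ 0) : Out X Z := by
  classical
  obtain ⟨r0, hr0⟩ : S.Nonempty := Finset.card_pos.mp (by omega)
  obtain ⟨X0, Y0, s, hs⟩ : ∃ (X0 Y0 : F) (s : Fin n → F),
      ∀ r ∈ S, s r ≠ 0 ∧ g⁻¹.val i r = s r * X0 ∧ g⁻¹.val j r = s r * Y0 := by
    refine ⟨g⁻¹.val i r0, g⁻¹.val j r0, fun r => if g⁻¹.val i r0 = 0 then g⁻¹.val j r / g⁻¹.val j r0
      else g⁻¹.val i r / g⁻¹.val i r0, fun r hr => ?_⟩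
    have hp := hpar r hr r0 hr0
    by_cases hX : g⁻¹.val i r0 = 0
    · have hY := (hnz r0 hr0).resolve_left (not_not_intro hX)
      have hir : g⁻¹.val i r = 0 := by
        rw [hX, zero_mul] at hp
        exact (mul_eq_zero.mp hp).resolve_right hY
      have hjr := (hnz r hr).resolve_left (not_not_intro hir)
      simp only [hX, if_true]
      exact ⟨div_ne_zero hjr hY, by rw [hir, mul_zero], by rw [div_mul_cancel₀ _ hY]⟩
    · simp only [hX, if_false]
      refine ⟨div_ne_zero ?_ hX, by rw [div_mul_cancel₀ _ hX], ?_⟩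
      · intro h0
        rw [h0, zero_mul] at hp
        exact ((hnz r hr).resolve_left (not_not_intro h0)) ((mul_eq_zero.mp hp.symm).resolve_left hX)
      · rw [div_mul_eq_mul_div, eq_div_iff hX, hp, mul_comm]
  let L : Fˣ → Fin n → F := fun a r =>
    ((a : F) - 1) * (g.val r i * X0) + (((a⁻¹ : Fˣ) : F) - 1) * (g.val r j * Y0)
  have hf : ∀ (a : Fˣ) r, ∀ l ∈ S, (biRefl g i j a).val r l = (if r = l then 1 else 0) + s l * L a r := by
    intro a r l hl
    rw [biRefl_val _ hij, (hs l hl).2.1, (hs l hl).2.2]; ring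
  -- two zeros
  have hzero : ∀ a : Fˣ, (a : F) ≠ 1 → ∀ r ∈ S, ∀ r' ∈ S, r ≠ r' → L a r = 0 → L a r' = 0 → Out X Z := by
    intro a ha r hr r' hr' hrr h0 h0'
    obtain ⟨x, hx, hx'⟩ := Finset.exists_mem_notMem_of_card_lt_card (s := ({r, r'} : Finset (Fin n)))
      (t := S) (lt_of_le_of_lt Finset.card_le_two (by omega))
    simp only [Finset.mem_insert, Finset.mem_singleton, not_or] at hx'
    obtain ⟨hm, hnm, hfx⟩ := refl_mem hn hq hN hF hg hmono hfix hij hi hj a ha
    refine ⟨_, hm, hnm, hfx, r, r', x, hrr, hSZ r hr, hSZ r' hr', hSZ x hx, ?_, ?_⟩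
    · rw [hf a r x hx, if_neg (Ne.symm hx'.1), h0]; ring
    · rw [hf a r' x hx, if_neg (Ne.symm hx'.2), h0']; ring
  -- the second conjugate
  have hconj : ∀ a : Fˣ, (a : F) ≠ 1 → ∀ r ∈ S, ∀ r' ∈ S, r ≠ r' → ∀ x ∈ S, ∀ ν : Fˣ, (ν : F) ≠ 1 →
      ((ν : F) - 1) * s r * (biRefl g i j a).val r x +
        (((ν⁻¹ : Fˣ) : F) - 1) * s r' * (biRefl g i j a).val r' x = 0 → Out X Z := by
    intro a ha r hr r' hr' hrr x hx ν hν hzero'
    have ha' : ((a⁻¹ : Fˣ) : F) ≠ 1 := fun e => ha (by
      have h' : a⁻¹ = 1 := Units.ext e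
      rw [inv_eq_one.mp h', Units.val_one])
    obtain ⟨hm, hnm, hfx⟩ := refl_mem hn hq hN hF hg hmono hfix hij hi hj a⁻¹ ha'
    obtain ⟨hm2, hnm2, hfx2⟩ :=
      refl_mem hn hq hN hF hm hnm hfx hrr (hSZ r hr) (hSZ r' hr') ν hν
    have h3 : 1 < (Zᶜ \ ({r, r', x} : Finset (Fin n))).card := by
      have := Finset.le_card_sdiff ({r, r', x} : Finset (Fin n)) Zᶜ
      have hc : Zᶜ.card = n - Z.card := by rw [Finset.card_compl, Fintype.card_fin]
      have := Finset.card_le_three (a := r) (b := r') (c := x)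
      omega
    obtain ⟨k, hk, l, hl, hkl⟩ := Finset.one_lt_card.mp h3
    simp only [Finset.mem_sdiff, Finset.mem_compl, Finset.mem_insert, Finset.mem_singleton, not_or] at hk hl
    have val : ∀ k, k ≠ r → k ≠ r' → k ≠ x → (biRefl (biRefl g i j a⁻¹) r r' ν).val k x = 0 := by
      intro k k1 k2 k3
      rw [biRefl_val _ hrr, biRefl_inv g i j a⁻¹, inv_inv, hf a⁻¹ k r hr, hf a⁻¹ k r' hr', if_neg k1,
        if_neg k2, if_neg k3]
      linear_combination L a⁻¹ k * hzero'
    exact ⟨_, hm2, hnm2, hfx2, k, l, x, hkl, hk.1, hl.1, hSZ x hx,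
      val k hk.2.1 hk.2.2.1 hk.2.2.2, val l hl.2.1 hl.2.2.1 hl.2.2.2⟩
  -- equal diagonal weights
  have heq : ∀ a : Fˣ, (a : F) ≠ 1 → ∀ r ∈ S, ∀ r' ∈ S, r ≠ r' → L a r ≠ 0 → L a r' ≠ 0 →
      Out X Z ∨ s r * L a r = s r' * L a r' := by
    intro a ha r hr r' hr' hrr h0 h0'
    rw [or_iff_not_imp_right]
    intro hne
    obtain ⟨x, hx, hx'⟩ := Finset.exists_mem_notMem_of_card_lt_card (s := ({r, r'} : Finset (Fin n)))
      (t := S) (lt_of_le_of_lt Finset.card_le_two (by omega))
    simp only [Finset.mem_insert, Finset.mem_singleton, not_or] at hx'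
    have h1 : s r * L a r ≠ 0 := mul_ne_zero (hs r hr).1 h0
    have h2 : s r' * L a r' ≠ 0 := mul_ne_zero (hs r' hr').1 h0'
    let ν : Fˣ := Units.mk0 (s r' * L a r' / (s r * L a r)) (div_ne_zero h2 h1)
    refine hconj a ha r hr r' hr' hrr x hx ν (fun e => hne ?_) ?_
    · exact ((div_eq_one_iff_eq h1).mp e).symm
    · rw [hf a r x hx, hf a r' x hx, if_neg (Ne.symm hx'.1), if_neg (Ne.symm hx'.2), zero_add, zero_add,
        Units.val_inv_eq_inv_val, Units.val_mk0, inv_div]
      field_simp [(hs r hr).1, (hs r' hr').1, h0, h0']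
      ring
  by_contra hout
  have hone : ∀ a : Fˣ, (a : F) ≠ 1 → (S.filter fun r => L a r = 0).card ≤ 1 := by
    intro a ha
    rw [Finset.card_le_one]
    intro r hr r' hr'
    rw [Finset.mem_filter] at hr hr'
    by_contra hrr
    exact hout (hzero a ha r hr.1 r' hr'.1 hrr hr.2 hr'.2)
  obtain ⟨b1, g1⟩ := exists_unit_not_mem ({1} : Finset F) (by simp; omega)
  obtain ⟨b2, g2⟩ := exists_unit_not_mem ({1, (b1 : F)} : Finset F)
    (le_trans (Nat.add_le_add_right Finset.card_le_two 2) (by omega))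
  obtain ⟨b3, g3⟩ := exists_unit_not_mem ({1, (b1 : F), (b2 : F)} : Finset F)
    (le_trans (Nat.add_le_add_right Finset.card_le_three 2) (by omega))
  simp only [Finset.mem_singleton, Finset.mem_insert, not_or] at g1 g2 g3
  -- two units with at most one zero between them
  obtain ⟨a1, a2, h1, h2, hpair⟩ : ∃ a1 a2 : Fˣ, (a1 : F) ≠ 1 ∧ ((a2 : F) ≠ 1 ∧ (a2 : F) ≠ a1) ∧
      ((S.filter fun r => L a1 r = 0) ∪ S.filter fun r => L a2 r = 0).card ≤ 1 := by
    by_contra hc
    push Not at hc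
    -- a member vanishing at one unit
    have key : ∀ a b : Fˣ, (a : F) ≠ 1 → (b : F) ≠ 1 → (b : F) ≠ a →
        ∃ r ∈ S, L a r = 0 ∧ L b r ≠ 0 := by
      intro a b ha hb hba
      by_contra hne
      push Not at hne
      have hsub : S.filter (fun r => L a r = 0) ⊆ S.filter fun r => L b r = 0 := fun r hr => by
        rw [Finset.mem_filter] at hr ⊢
        exact ⟨hr.1, hne r hr.1 hr.2⟩
      have := hc a b ha ⟨hb, hba⟩
      rw [Finset.union_eq_right.mpr hsub] at this
      have := hone b hb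
      omega
    -- the other weights are one
    have hone' : ∀ a : Fˣ, (a : F) ≠ 1 → ∀ r ∈ S, ∀ r' ∈ S, L a r = 0 → L a r' ≠ 0 → s r' * L a r' = 1 := by
      intro a ha r hr r' hr' h0 h0'
      by_contra hne
      have hK0 : s r' * L a r' ≠ 0 := mul_ne_zero (hs r' hr').1 h0'
      refine hout (hconj a ha r hr r' hr' (fun e => h0' (e ▸ h0)) r hr (Units.mk0 _ hK0) hne ?_)
      rw [hf a r r hr, hf a r' r hr, if_pos rfl, if_neg (show r' ≠ r from fun e => h0' (e.symm ▸ h0)), h0,
        Units.val_inv_eq_inv_val, Units.val_mk0]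
      have hs0 := (hs r' hr').1
      field_simp
      ring
    -- one member gives a relation
    have rel : ∀ a b c : Fˣ, (a : F) ≠ 1 → (b : F) ≠ 1 → (c : F) ≠ 1 → (b : F) ≠ a → (c : F) ≠ a →
        (c : F) ≠ b → (a : F) = b * c := by
      intro a b c ha hb hc' hba hca hcb
      obtain ⟨r, hr, hra, hrb⟩ := key a b ha hb hba
      obtain ⟨rb, hrbS, hb0, hb0a⟩ := key b a hb ha (Ne.symm hba)
      obtain ⟨rc, hrcS, hc0, -⟩ := key c a hc' ha (Ne.symm hca)
      have ha0 : (a : F) ≠ 0 := a.ne_zero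
      have hb0' : (b : F) ≠ 0 := b.ne_zero
      have hc0' : (c : F) ≠ 0 := c.ne_zero
      let U : F := s r * (g.val r i * X0)
      let V : F := s r * (g.val r j * Y0)
      have hUV : U * (a : F) - V = 0 := by
        have : ((a : F) - 1) * (U * (a : F) - V) = 0 := by
          have e : s r * L a r = 0 := by rw [hra, mul_zero]
          simp only [L, Units.val_inv_eq_inv_val] at e
          simp only [U, V]
          field_simp at e
          linear_combination e
        exact (mul_eq_zero.mp this).resolve_left (sub_ne_zero.mpr ha)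
      have hrc : L c r ≠ 0 := by
        intro h0
        have : U * ((c : F) - a) = 0 := by
          have e : ((c : F) - 1) * (U * (c : F) - V) = 0 := by
            have e : s r * L c r = 0 := by rw [h0, mul_zero]
            simp only [L, Units.val_inv_eq_inv_val] at e
            simp only [U, V]
            field_simp at e
            linear_combination e
          linear_combination (mul_eq_zero.mp e).resolve_left (sub_ne_zero.mpr hc') - hUV
        have hU : U = 0 := (mul_eq_zero.mp this).resolve_right (sub_ne_zero.mpr hca)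
        have hV : V = 0 := by linear_combination (a : F) * hU - hUV
        have e : s r * L b r = 0 := by
          simp only [L]
          simp only [U, V] at hU hV
          linear_combination ((b : F) - 1) * hU + ((((b⁻¹ : Fˣ) : F)) - 1) * hV
        exact hrb ((mul_eq_zero.mp e).resolve_left (hs r hr).1)
      have quad : ∀ x : Fˣ, (x : F) ≠ 1 → s r * L x r = 1 →
          U * (x : F) ^ 2 - (U + V + 1) * x + V = 0 := by
        intro x hx e
        have hx0 : (x : F) ≠ 0 := x.ne_zero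
        simp only [L, Units.val_inv_eq_inv_val] at e
        simp only [U, V]
        field_simp at e
        linear_combination e
      have qb := quad b hb (hone' b hb rb hrbS r hr hb0 hrb)
      have qc := quad c hc' (hone' c hc' rc hrcS r hr hc0 hrc)
      have hsum : U * ((b : F) + c) - (U + V + 1) = 0 := by
        have : ((b : F) - c) * (U * ((b : F) + c) - (U + V + 1)) = 0 := by linear_combination qb - qc
        exact (mul_eq_zero.mp this).resolve_left (sub_ne_zero.mpr hcb.symm)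
      have hVbc : V - U * (b * c) = 0 := by linear_combination qb - (b : F) * hsum
      have : U * ((a : F) - b * c) = 0 := by linear_combination hUV + hVbc
      have hU : U ≠ 0 := fun hU => hrb (by
        have hV : V = 0 := by linear_combination (a : F) * hU - hUV
        have e : s r * L b r = 0 := by
          simp only [L]
          simp only [U, V] at hU hV
          linear_combination ((b : F) - 1) * hU + ((((b⁻¹ : Fˣ) : F)) - 1) * hV
        exact (mul_eq_zero.mp e).resolve_left (hs r hr).1)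
      exact sub_eq_zero.mp ((mul_eq_zero.mp this).resolve_left hU)
    have e1 := rel b1 b2 b3 g1 g2.1 g3.1 g2.2 g3.2.1 g3.2.2
    have e2 := rel b2 b1 b3 g2.1 g1 g3.1 (Ne.symm g2.2) g3.2.2 g3.2.1
    have e3 := rel b3 b1 b2 g3.1 g1 g2.1 (Ne.symm g3.2.1) (Ne.symm g3.2.2) g2.2
    have hsq : ∀ x y z : F, x ≠ 0 → x ≠ 1 → x = y * z → y = x * z → z = -1 ∨ z = 1 := by
      intro x y z hx0 _ h h'
      have : x * ((z + 1) * (z - 1)) = 0 := by linear_combination -h - z * h'
      rcases mul_eq_zero.mp ((mul_eq_zero.mp this).resolve_left hx0) with e | e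
      · exact Or.inl (by linear_combination e)
      · exact Or.inr (sub_eq_zero.mp e)
    have z3 := (hsq b1 b2 b3 b1.ne_zero g1 e1 e2).resolve_right g3.1
    have z2 := (hsq b1 b3 b2 b1.ne_zero g1 (by rw [e1, mul_comm]) e3).resolve_right g2.1
    exact g3.2.2 (z3.trans z2.symm)
  obtain ⟨r, hr, r', hr', hrr⟩ := Finset.one_lt_card.mp
    (show 1 < (S \ ((S.filter fun r => L a1 r = 0) ∪ S.filter fun r => L a2 r = 0)).card from by
      have := Finset.le_card_sdiff ((S.filter fun r => L a1 r = 0) ∪ S.filter fun r => L a2 r = 0) S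
      omega)
  simp only [Finset.mem_sdiff, Finset.mem_union, Finset.mem_filter, not_or, not_and] at hr hr'
  have e1 := (heq a1 h1 r hr.1 r' hr'.1 hrr (hr.2.1 hr.1) (hr'.2.1 hr'.1)).resolve_left hout
  have e2 := (heq a2 h2.1 r hr.1 r' hr'.1 hrr (hr.2.2 hr.1) (hr'.2.2 hr'.1)).resolve_left hout
  let U : F := s r * (g.val r i * X0)
  let V : F := s r * (g.val r j * Y0)
  let dU : F := U - s r' * (g.val r' i * X0)
  let dV : F := V - s r' * (g.val r' j * Y0)
  have lin : ∀ a : Fˣ, (a : F) ≠ 1 → s r * L a r = s r' * L a r' → dU * (a : F) - dV = 0 := by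
    intro a ha e
    simp only [L, Units.val_inv_eq_inv_val] at e
    have ha0 : (a : F) ≠ 0 := a.ne_zero
    have : ((a : F) - 1) * (dU * (a : F) - dV) = 0 := by
      simp only [dU, dV, U, V]
      field_simp at e
      linear_combination e
    exact (mul_eq_zero.mp this).resolve_left (sub_ne_zero.mpr ha)
  have hdU : dU = 0 := by
    have : dU * ((a1 : F) - a2) = 0 := by linear_combination lin a1 h1 e1 - lin a2 h2.1 e2
    exact (mul_eq_zero.mp this).resolve_right (sub_ne_zero.mpr (Ne.symm h2.2))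
  have hdV : dV = 0 := by linear_combination (a1 : F) * hdU - lin a1 h1 e1
  have hK : ∀ a : Fˣ, s r' * L a r' = s r * L a r := fun a => by
    simp only [L]
    linear_combination -(((a : F) - 1) * hdU) - ((((a⁻¹ : Fˣ) : F) - 1) * hdV)
  obtain ⟨a, ha, hK1⟩ : ∃ a : Fˣ, (a : F) ≠ 1 ∧ 1 + s r * L a r ≠ 0 := by
    by_contra hc
    push Not at hc
    obtain ⟨a3, h3⟩ := exists_unit_not_mem ({1, (a1 : F), (a2 : F)} : Finset F)
      (le_trans (Nat.add_le_add_right Finset.card_le_three 2) (by omega))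
    simp only [Finset.mem_singleton, Finset.mem_insert, not_or] at h3
    have quad : ∀ a : Fˣ, (a : F) ≠ 1 → U * (a : F) ^ 2 + (1 - U - V) * a + V = 0 := by
      intro a ha
      have := hc a ha
      simp only [L, Units.val_inv_eq_inv_val] at this
      have ha0 : (a : F) ≠ 0 := a.ne_zero
      simp only [U, V]
      field_simp at this
      linear_combination this
    have d12 : U * ((a1 : F) + a2) + (1 - U - V) = 0 := by
      have : ((a2 : F) - a1) * (U * ((a1 : F) + a2) + (1 - U - V)) = 0 := by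
        linear_combination quad a2 h2.1 - quad a1 h1
      exact (mul_eq_zero.mp this).resolve_left (sub_ne_zero.mpr h2.2)
    have d13 : U * ((a1 : F) + a3) + (1 - U - V) = 0 := by
      have : ((a3 : F) - a1) * (U * ((a1 : F) + a3) + (1 - U - V)) = 0 := by
        linear_combination quad a3 h3.1 - quad a1 h1
      exact (mul_eq_zero.mp this).resolve_left (sub_ne_zero.mpr h3.2.1)
    have hU : U = 0 := by
      have : U * ((a3 : F) - a2) = 0 := by linear_combination d13 - d12
      exact (mul_eq_zero.mp this).resolve_right (sub_ne_zero.mpr h3.2.2)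
    have hV : V = 1 := by linear_combination ((a1 : F) + a2 - 1) * hU - d12
    exact one_ne_zero (α := F) (by
      linear_combination quad a1 h1 - ((a1 : F) ^ 2 - a1) * hU - (1 - (a1 : F)) * hV)
  have hK0 : s r * L a r ≠ 0 := by
    intro h
    refine hout (hzero a ha r hr.1 r' hr'.1 hrr ((mul_eq_zero.mp h).resolve_left (hs r hr.1).1)
      ((mul_eq_zero.mp ((hK a).trans h)).resolve_left (hs r' hr'.1).1))
  let ν : Fˣ := Units.mk0 (s r * L a r / (1 + s r * L a r)) (div_ne_zero hK0 hK1)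
  refine hout (hconj a ha r hr.1 r' hr'.1 hrr r hr.1 ν (fun e => ?_) ?_)
  · have := (div_eq_one_iff_eq hK1).mp e
    exact one_ne_zero (α := F) (by linear_combination -this)
  · have hK' := hK a
    rw [hf a r r hr.1, hf a r' r hr.1, if_pos rfl, if_neg hrr.symm,
      Units.val_inv_eq_inv_val, Units.val_mk0, inv_div]
    have : s r' * (0 + s r * L a r') = s r * (s r * L a r) := by linear_combination s r * hK'
    rw [mul_assoc ((1 + s r * L a r) / (s r * L a r) - 1) (s r'), this]
    have hL0 := right_ne_zero_of_mul hK0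
    have hs0 := (hs r hr.1).1
    field_simp
    ring

/-- Two parallel rows. -/
theorem out_of_pair {k l : Fin n} (hk : k ∉ Z) (hl : l ∉ Z) (hkl : k ≠ l)
    (hpar : g.val k i * g.val l j = g.val l i * g.val k j)
    (hsmall : ∀ S : Finset (Fin n), (∀ r ∈ S, r ∉ Z) →
      (∀ r ∈ S, ∀ s ∈ S, g⁻¹.val i r * g⁻¹.val j s = g⁻¹.val i s * g⁻¹.val j r) → S.card ≤ 2) :
    Out X Z := by
  classical
  by_cases hA : g.val k i = 0 ∧ g.val l i = 0
  · exact ⟨g, hg, hmono, hfix, k, l, i, hkl, hk, hl, hi, hA.1, hA.2⟩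
  by_cases hB : g.val k j = 0 ∧ g.val l j = 0
  · exact ⟨g, hg, hmono, hfix, k, l, j, hkl, hk, hl, hj, hB.1, hB.2⟩
  obtain ⟨p, p', t, hp, hp', hpp, ha0, hb0, hta, htb⟩ : ∃ p p' t, p ∉ Z ∧ p' ∉ Z ∧ p ≠ p' ∧
      g.val p i ≠ 0 ∧ g.val p j ≠ 0 ∧ g.val p' i = t * g.val p i ∧ g.val p' j = t * g.val p j := by
    by_cases hka : g.val k i = 0
    · have hla : g.val l i ≠ 0 := fun e => hA ⟨hka, e⟩
      rw [hka, zero_mul] at hpar
      have hkb := (mul_eq_zero.mp hpar.symm).resolve_left hla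
      exact ⟨l, k, 0, hl, hk, hkl.symm, hla, fun e => hB ⟨hkb, e⟩, by rw [hka, zero_mul],
        by rw [hkb, zero_mul]⟩
    · refine ⟨k, l, g.val l i / g.val k i, hk, hl, hkl, hka, fun e => hB ⟨e, ?_⟩,
        (div_mul_cancel₀ _ hka).symm, ?_⟩
      · rw [e, mul_zero] at hpar
        exact (mul_eq_zero.mp hpar).resolve_left hka
      · rw [div_mul_eq_mul_div, eq_div_iff hka, mul_comm, hpar]
  let bad : Finset (Fin n) := (Zᶜ.filter fun x => g⁻¹.val i x = 0) ∪ (Zᶜ.filter fun x => g⁻¹.val j x = 0)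
    ∪ (Zᶜ.filter fun x => g.val p i * g⁻¹.val i x - g.val p j * g⁻¹.val j x = 0) ∪ {p, p'}
  have h1 : (Zᶜ.filter fun x => g⁻¹.val i x = 0).card ≤ 2 := hsmall _
    (fun r hr => Finset.mem_compl.mp (Finset.mem_filter.mp hr).1) fun r hr s hs => by
      rw [(Finset.mem_filter.mp hr).2, (Finset.mem_filter.mp hs).2, zero_mul, zero_mul]
  have h2 : (Zᶜ.filter fun x => g⁻¹.val j x = 0).card ≤ 2 := hsmall _
    (fun r hr => Finset.mem_compl.mp (Finset.mem_filter.mp hr).1) fun r hr s hs => by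
      rw [(Finset.mem_filter.mp hr).2, (Finset.mem_filter.mp hs).2]; ring
  have h3 : (Zᶜ.filter fun x => g.val p i * g⁻¹.val i x - g.val p j * g⁻¹.val j x = 0).card ≤ 2 :=
    hsmall _ (fun r hr => Finset.mem_compl.mp (Finset.mem_filter.mp hr).1) fun r hr s hs => by
      have e := (Finset.mem_filter.mp hr).2
      have e' := (Finset.mem_filter.mp hs).2
      refine mul_left_cancel₀ ha0 ?_
      linear_combination g⁻¹.val j s * e - g⁻¹.val j r * e'
  obtain ⟨x, hxW, hx⟩ := Finset.exists_mem_notMem_of_card_lt_card (s := bad) (t := Zᶜ) (by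
    have hb : bad.card ≤ 8 := by
      refine (Finset.card_union_le _ _).trans (Nat.add_le_add ?_ Finset.card_le_two : _ ≤ 6 + 2)
      refine (Finset.card_union_le _ _).trans (Nat.add_le_add ?_ h3 : _ ≤ 4 + 2)
      exact (Finset.card_union_le _ _).trans (Nat.add_le_add h1 h2)
    rw [Finset.card_compl, Fintype.card_fin]
    omega)
  simp only [bad, Finset.mem_union, Finset.mem_filter, Finset.mem_insert, Finset.mem_singleton, not_or,
    not_and] at hx
  obtain ⟨⟨⟨c1, c2⟩, c3⟩, hxp, hxp'⟩ := hx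
  have c1 := c1 hxW
  have c2 := c2 hxW
  have c3 := c3 hxW
  let a : Fˣ := Units.mk0 (g.val p j * g⁻¹.val j x / (g.val p i * g⁻¹.val i x))
    (div_ne_zero (mul_ne_zero hb0 c2) (mul_ne_zero ha0 c1))
  have ha : (a : F) ≠ 1 := fun e => c3 (sub_eq_zero.mpr
    ((div_eq_one_iff_eq (mul_ne_zero ha0 c1)).mp e).symm)
  obtain ⟨hm, hnm, hfx⟩ := refl_mem hn hq hN hF hg hmono hfix hij hi hj a ha
  have e : ((a : F) - 1) * (g.val p i * g⁻¹.val i x) +
      (((a⁻¹ : Fˣ) : F) - 1) * (g.val p j * g⁻¹.val j x) = 0 := by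
    rw [Units.val_inv_eq_inv_val, Units.val_mk0, inv_div]
    field_simp
    ring
  refine ⟨_, hm, hnm, hfx, p, p', x, hpp, hp, hp', Finset.mem_compl.mp hxW, ?_, ?_⟩
  · rw [biRefl_val _ hij, if_neg (Ne.symm hxp), zero_add, e]
  · rw [biRefl_val _ hij, if_neg (Ne.symm hxp'), hta, htb]
    linear_combination t * e

theorem out_of_parallel {k l : Fin n} (hk : k ∉ Z) (hl : l ∉ Z) (hkl : k ≠ l)
    (hpar : g.val k i * g.val l j = g.val l i * g.val k j) : Out X Z := by
  by_cases hz : ∃ y, y ∉ Z ∧ g⁻¹.val i y = 0 ∧ g⁻¹.val j y = 0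
  · obtain ⟨y, hy, h1, h2⟩ := hz
    exact out_of_zero hn hq hN hF hZ hg hmono hfix hij hi hj hy h1 h2
  by_cases hbig : ∃ S : Finset (Fin n), 3 ≤ S.card ∧ (∀ r ∈ S, r ∉ Z) ∧
      ∀ r ∈ S, ∀ s ∈ S, g⁻¹.val i r * g⁻¹.val j s = g⁻¹.val i s * g⁻¹.val j r
  · obtain ⟨S, h1, h2, h3⟩ := hbig
    refine out_of_big hn hq hN hF hZ hg hmono hfix hij hi hj h1 h2 h3 fun r hr => ?_
    by_contra h
    rw [not_or, not_not, not_not] at h
    exact hz ⟨r, h2 r hr, h⟩
  refine out_of_pair hn hq hN hF hZ hg hmono hfix hij hi hj hk hl hkl hpar fun S hS hp => ?_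
  by_contra h
  exact hbig ⟨S, by omega, hS, hp⟩

theorem out_of_nonmono : Out X Z := by
  classical
  by_cases hpp : ∃ k l, k ∉ Z ∧ l ∉ Z ∧ k ≠ l ∧ g.val k i * g.val l j = g.val l i * g.val k j
  · obtain ⟨k, l, hk, hl, hkl, hpar⟩ := hpp
    exact out_of_parallel hn hq hN hF hZ hg hmono hfix hij hi hj hk hl hkl hpar
  by_cases hz : ∃ y, y ∉ Z ∧ g⁻¹.val i y = 0 ∧ g⁻¹.val j y = 0
  · obtain ⟨y, hy, h1, h2⟩ := hz
    exact out_of_zero hn hq hN hF hZ hg hmono hfix hij hi hj hy h1 h2
  by_cases hbig : ∃ S : Finset (Fin n), 3 ≤ S.card ∧ (∀ r ∈ S, r ∉ Z) ∧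
      ∀ r ∈ S, ∀ s ∈ S, g⁻¹.val i r * g⁻¹.val j s = g⁻¹.val i s * g⁻¹.val j r
  · obtain ⟨S, h1, h2, h3⟩ := hbig
    refine out_of_big hn hq hN hF hZ hg hmono hfix hij hi hj h1 h2 h3 fun r hr => ?_
    by_contra h
    rw [not_or, not_not, not_not] at h
    exact hz ⟨r, h2 r hr, h⟩
  have small : ∀ u v : F, (u ≠ 0 ∨ v ≠ 0) →
      (Zᶜ.filter fun x => u * g⁻¹.val i x + v * g⁻¹.val j x = 0).card ≤ 2 := by
    intro u v huv
    by_contra h
    refine hbig ⟨_, Nat.lt_of_not_le h, fun r hr => Finset.mem_compl.mp (Finset.mem_filter.mp hr).1,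
      fun r hr s hs => ?_⟩
    have e := (Finset.mem_filter.mp hr).2
    have e' := (Finset.mem_filter.mp hs).2
    rcases huv with hu | hv
    · refine mul_left_cancel₀ hu ?_
      linear_combination g⁻¹.val j s * e - g⁻¹.val j r * e'
    · refine mul_left_cancel₀ hv ?_
      linear_combination g⁻¹.val i r * e' - g⁻¹.val i s * e
  obtain ⟨o, hoW, ho⟩ := Finset.exists_mem_notMem_of_card_lt_card
    (s := (Zᶜ.filter fun x => (1 : F) * g⁻¹.val i x + 0 * g⁻¹.val j x = 0) ∪
      (Zᶜ.filter fun x => (0 : F) * g⁻¹.val i x + 1 * g⁻¹.val j x = 0)) (t := Zᶜ) (by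
      refine lt_of_le_of_lt ((Finset.card_union_le _ _).trans
        (Nat.add_le_add (small 1 0 (Or.inl one_ne_zero)) (small 0 1 (Or.inr one_ne_zero)))) ?_
      rw [Finset.card_compl, Fintype.card_fin]
      omega)
  simp only [Finset.mem_union, Finset.mem_filter, not_or, not_and, one_mul, zero_mul, add_zero,
    zero_add] at ho
  have hA0 := ho.1 hoW
  have hB0 := ho.2 hoW
  obtain ⟨k, hkW, hko⟩ := Finset.exists_mem_notMem_of_card_lt_card (s := ({o} : Finset (Fin n))) (t := Zᶜ)
    (by rw [Finset.card_singleton, Finset.card_compl, Fintype.card_fin]; omega)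
  rw [Finset.mem_singleton] at hko
  let Δ : F := g.val k i * g.val o j - g.val o i * g.val k j
  have hΔ : Δ ≠ 0 := fun e =>
    hpp ⟨k, o, Finset.mem_compl.mp hkW, Finset.mem_compl.mp hoW, hko, sub_eq_zero.mp e⟩
  have hpk : g.val k i ≠ 0 ∨ -g.val k j ≠ 0 := by
    by_contra h
    rw [not_or, not_not, not_not, neg_eq_zero] at h
    exact hΔ (by simp only [Δ, h.1, h.2]; ring)
  let A := fun x => (g.val k i - Δ * g⁻¹.val j o) * g⁻¹.val i x + (Δ * g⁻¹.val i o) * g⁻¹.val j x
  let B := fun x => (Δ * g⁻¹.val j o) * g⁻¹.val i x + (-g.val k j - Δ * g⁻¹.val i o) * g⁻¹.val j x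
  obtain ⟨y, hyW, hy⟩ := Finset.exists_mem_notMem_of_card_lt_card
    (s := (Zᶜ.filter fun x => A x = 0) ∪ (Zᶜ.filter fun x => B x = 0) ∪
      (Zᶜ.filter fun x => g.val k i * g⁻¹.val i x + -g.val k j * g⁻¹.val j x = 0) ∪ {o, k})
    (t := Zᶜ) (by
      refine lt_of_le_of_lt ((Finset.card_union_le _ _).trans (Nat.add_le_add
        ((Finset.card_union_le _ _).trans (Nat.add_le_add
          ((Finset.card_union_le _ _).trans (Nat.add_le_add
            (small _ _ (Or.inr (mul_ne_zero hΔ hA0))) (small _ _ (Or.inl (mul_ne_zero hΔ hB0)))))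
          (small _ _ hpk))) Finset.card_le_two)) ?_
      rw [Finset.card_compl, Fintype.card_fin]
      omega)
  simp only [Finset.mem_union, Finset.mem_filter, Finset.mem_insert, Finset.mem_singleton, not_or,
    not_and] at hy
  obtain ⟨⟨⟨c1, c2⟩, c3⟩, hyo, hyk⟩ := hy
  have c1 := c1 hyW
  have c2 := c2 hyW
  have c3 := c3 hyW
  let a : Fˣ := Units.mk0 (-B y / A y) (div_ne_zero (neg_ne_zero.mpr c2) c1)
  have ha : (a : F) ≠ 1 := fun e => c3 (by
    have := (div_eq_one_iff_eq c1).mp e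
    simp only [A, B] at this
    linear_combination -this)
  obtain ⟨hm, hnm, hfx⟩ := refl_mem hn hq hN hF hg hmono hfix hij hi hj a ha
  refine out_of_parallel hn hq hN hF hZ hm hnm hfx (Ne.symm hyo) (Finset.mem_compl.mp hoW)
    (Finset.mem_compl.mp hyW) (Finset.mem_compl.mp hkW) (Finset.mem_compl.mp hoW) hko ?_
  have hlin : (a : F) * A y + B y = 0 := by
    rw [Units.val_mk0]; field_simp; ring
  rw [biRefl_val _ hij, biRefl_val _ hij, biRefl_val _ hij, biRefl_val _ hij, if_neg hko,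
    if_neg (Ne.symm hyo), if_pos rfl, if_neg (Ne.symm hyk), Units.val_inv_eq_inv_val]
  have ha0 : (a : F) ≠ 0 := a.ne_zero
  field_simp
  simp only [A, B, Δ] at hlin
  linear_combination (1 - (a : F)) * (a : F) * hlin

end Search

/-- A subgroup of `GL n F` containing all monomial elements of determinant one and a non-monomial
element contains every elementary transvection. -/
theorem full_of_not_mono (hn : 10 ≤ n) (hq : 5 ≤ Fintype.card F) (hN : HasMono X)
    {g : GL (Fin n) F} (hg : g ∈ X) (hmono : ¬ IsMono g) : Full X := by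
  classical
  by_contra hF
  obtain ⟨i, hi, j, hj, hij⟩ : ∃ i ∈ (Finset.univ : Finset (Fin n)), ∃ j ∈ Finset.univ, i ≠ j :=
    Finset.one_lt_card.mp (by simp; omega)
  have h1 := out_of_nonmono hn hq hN hF (Z := ∅) (by simp) hg hmono (by simp) hij (by simp) (by simp)
  obtain ⟨y, hy, hym, -, x, -, hyx⟩ := exists_fix_of_out hn hq hN hF h1
  obtain ⟨i', hi1, -, -, -⟩ := exists_ne₄ (show 5 ≤ n by omega) x x x x
  obtain ⟨j', hj1, hj2, -, -⟩ := exists_ne₄ (show 5 ≤ n by omega) x i' x x
  have h2 := out_of_nonmono hn hq hN hF (Z := {x}) (by simp) hy hym (by simpa using hyx) hj2.symm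
    (by simpa using hi1) (by simpa using hj1)
  obtain ⟨y', hy', hym', hfx, x', hx', hyx'⟩ := exists_fix_of_out hn hq hN hF h2
  exact hF (full_of_fix_two (by omega) hq hN hy' hym' (i := x) (j := x')
    (by simpa [eq_comm] using hx') (hfx x (by simp)) hyx')

end H61.Monomial
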