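import Cfsg.Agent.H61.OrthSimMax

/-!
Elements of the special orthogonal group of a symmetric form: products of two reflections, long root elements.
-/

set_option autoImplicit false

namespace H61.OrthSim

open Matrix

variable {F : Type*} [Field F] {n : ℕ} {B : (Fin n → F) → (Fin n → F) → F} (hf : SymForm B)
include hf

theorem exists_phi (w : Fin n → F) : ∃ φ : Fin n → F, ∀ x, φ ⬝ᵥ x = B x w :=
  ⟨fun j => B (Pi.single j 1) w, fun x => by
    have := LinearMap.pi_apply_eq_sum_univ (lf hf w) x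
    refine (this.trans ?_).symm
    refine Finset.sum_congr rfl fun j _ => ?_
    rw [smul_eq_mul, mul_comm]
    congr 1
    show B _ w = B _ w
    congr 1
    ext k
    simp [Pi.single_apply, eq_comm]⟩

/-- A reflection. -/
theorem exists_reflection (a : Fin n → F) (ha : B a a ≠ 0) : ∃ r : GL (Fin n) F, r.val.det = -1 ∧
    (∀ x y, B (r.val *ᵥ x) (r.val *ᵥ y) = B x y) ∧ ∀ x, r.val *ᵥ x = x - (2 * B x a / B a a) • a := by
  obtain ⟨φ, hφ⟩ := exists_phi hf ((-2 / B a a) • a)
  have hφ' : ∀ x, φ ⬝ᵥ x = -(2 * B x a / B a a) := fun x => by rw [hφ, smul_right hf]; ring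
  have hval : ∀ x, H49.trM a φ *ᵥ x = x - (2 * B x a / B a a) • a := fun x => by
    rw [H49.trM_mulVec, hφ', neg_smul, sub_eq_add_neg]
  have hsq : H49.trM a φ * H49.trM a φ = 1 := by
    refine Matrix.ext_of_mulVec_single fun j => ?_
    rw [← Matrix.mulVec_mulVec, hval, hval, Matrix.one_mulVec, sub_left hf, hf.smul_left]
    match_scalars <;> field_simp <;> ring
  refine ⟨⟨H49.trM a φ, H49.trM a φ, hsq, hsq⟩, ?_, fun x y => ?_, hval⟩
  · show (H49.trM a φ).det = -1
    rw [H49.det_trM, hφ']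
    field_simp
    ring
  · show B (H49.trM a φ *ᵥ x) (H49.trM a φ *ᵥ y) = B x y
    rw [hval, hval, sub_left hf, sub_right hf, sub_right hf, hf.smul_left, smul_right hf, hf.smul_left,
      smul_right hf, hf.symm a y]
    field_simp
    ring

/-- A long root element. -/
theorem exists_root (z w : Fin n → F) (hz : B z z = 0) (hw : B w w = 0) (hzw : B z w = 0) :
    ∃ g : GL (Fin n) F, g.val.det = 1 ∧ (∀ x y, B (g.val *ᵥ x) (g.val *ᵥ y) = B x y) ∧
      ∀ x, g.val *ᵥ x = x + B x z • w - B x w • z := by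
  have hwz : B w z = 0 := by rw [hf.symm, hzw]
  obtain ⟨φ, hφ⟩ := exists_phi hf z
  obtain ⟨ψ, hψ⟩ := exists_phi hf (-w)
  have h1 : φ ⬝ᵥ w = 0 := by rw [hφ, hwz]
  have h2 : ψ ⬝ᵥ z = 0 := by rw [hψ, neg_right hf, hzw, neg_zero]
  have hval : ∀ x, (H49.tr w φ h1 * H49.tr z ψ h2).val *ᵥ x = x + B x z • w - B x w • z := fun x => by
    rw [Units.val_mul, ← Matrix.mulVec_mulVec, H49.tr_mulVec, H49.tr_mulVec, hφ, hψ, neg_right hf,
      hf.add_left, hf.smul_left, hz]
    module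
  refine ⟨H49.tr w φ h1 * H49.tr z ψ h2, ?_, fun x y => ?_, hval⟩
  · rw [Units.val_mul, Matrix.det_mul, H49.tr_val, H49.tr_val, H49.det_trM, H49.det_trM, h1, h2]
    ring
  · rw [hval, hval]
    simp only [hf.add_left, sub_left hf, add_right hf, sub_right hf, hf.smul_left, smul_right hf, hz, hw,
      hzw, hwz, hf.symm z y, hf.symm w y]
    ring

variable [Fintype F] (hn : 10 ≤ n)
include hn

theorem exists_refl_pair (a u v : Fin n → F) (ha : B a a ≠ 0) : ∃ g : GL (Fin n) F, g.val.det = 1 ∧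
    (∀ x y, B (g.val *ᵥ x) (g.val *ᵥ y) = B x y) ∧
    g.val *ᵥ u = u - (2 * B u a / B a a) • a ∧ g.val *ᵥ v = v - (2 * B v a / B a a) • a := by
  obtain ⟨b, hb, hp⟩ := exists_aniso hf hn (k := 2) (by omega) ![u, v]
  have hub : B u b = 0 := by rw [hf.symm]; simpa using hp 0
  have hvb : B v b = 0 := by rw [hf.symm]; simpa using hp 1
  obtain ⟨r, hr, hri, hrv⟩ := exists_reflection hf a ha
  obtain ⟨s, hs, hsi, hsv⟩ := exists_reflection hf b hb
  refine ⟨r * s, ?_, fun x y => ?_, ?_, ?_⟩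
  · rw [Units.val_mul, Matrix.det_mul, hr, hs]; ring
  · rw [Units.val_mul, ← Matrix.mulVec_mulVec, ← Matrix.mulVec_mulVec, hri, hsi]
  · rw [Units.val_mul, ← Matrix.mulVec_mulVec, hsv, hub, mul_zero, zero_div, zero_smul, sub_zero, hrv]
  · rw [Units.val_mul, ← Matrix.mulVec_mulVec, hsv, hvb, mul_zero, zero_div, zero_smul, sub_zero, hrv]

end H61.OrthSim
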