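import Mathlib
import Cfsg.Agent.H61.WielandtBound

/-!
Alternating images: basic facts.
-/

set_option autoImplicit false

namespace H61.AltPair

open Equiv Subgroup
open scoped Nat

variable {m : ℕ}

theorem eq_one_of_commute_alt (hm : 4 ≤ m) {z : Perm (Fin m)}
    (h : ∀ a ∈ alternatingGroup (Fin m), z * a = a * z) : z = 1 := by
  refine Equiv.ext fun i => ?_
  by_contra hi
  simp only [Perm.coe_one, id_eq] at hi
  obtain ⟨j, hji, hjz⟩ : ∃ j : Fin m, j ≠ i ∧ j ≠ z i := by
    by_contra hc
    push Not at hc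
    have h2 : (Finset.univ : Finset (Fin m)) ⊆ {i, z i} := fun r _ => by
      by_cases hr : r = i
      · simp [hr]
      · simp [hc r hr]
    have := (Finset.card_le_card h2).trans Finset.card_le_two
    rw [Finset.card_univ, Fintype.card_fin] at this
    omega
  obtain ⟨k, hki, hkz, hkj⟩ : ∃ k : Fin m, k ≠ i ∧ k ≠ z i ∧ k ≠ j := by
    by_contra hc
    push Not at hc
    have h2 : (Finset.univ : Finset (Fin m)) ⊆ {i, z i, j} := fun r _ => by
      by_cases hr : r = i
      · simp [hr]
      by_cases hr' : r = z i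
      · simp [hr']
      · simp [hc r hr hr']
    have := (Finset.card_le_card h2).trans Finset.card_le_three
    rw [Finset.card_univ, Fintype.card_fin] at this
    omega
  have hmem : swap i j * swap i k ∈ alternatingGroup (Fin m) := by
    rw [Perm.mem_alternatingGroup, map_mul, Perm.sign_swap hji.symm, Perm.sign_swap hki.symm]
    decide
  have := congrArg (fun f : Perm (Fin m) => f i) (h _ hmem)
  simp only [Perm.mul_apply, swap_apply_left] at this
  rw [swap_apply_of_ne_of_ne hki hkj, swap_apply_of_ne_of_ne hi (Ne.symm hkz),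
    swap_apply_of_ne_of_ne hi (Ne.symm hjz)] at this
  exact hki (z.injective this)

theorem alt_le (hm : 5 ≤ m) {W : Subgroup (Perm (Fin m))}
    (hW : ∀ a ∈ alternatingGroup (Fin m), ∀ w ∈ W, a * w * a⁻¹ ∈ W) (hne : W ≠ ⊥) :
    alternatingGroup (Fin m) ≤ W := by
  haveI := alternatingGroup.isSimpleGroup (α := Fin m) (by simpa using hm)
  haveI : (W.subgroupOf (alternatingGroup (Fin m))).Normal :=
    ⟨fun w hw a => hW a a.2 w hw⟩
  rcases (inferInstance : (W.subgroupOf (alternatingGroup (Fin m))).Normal).eq_bot_or_eq_top with h | h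
  · exfalso
    refine hne ((eq_bot_iff_forall _).mpr fun w hw => eq_one_of_commute_alt (by omega) fun a ha => ?_)
    have h1 : a * w * a⁻¹ * w⁻¹ ∈ W := mul_mem (hW a ha w hw) (inv_mem hw)
    have h2 : a * w * a⁻¹ * w⁻¹ ∈ alternatingGroup (Fin m) := by
      rw [mul_assoc, mul_assoc]
      refine mul_mem ha ?_
      rw [← mul_assoc]
      exact (inferInstance : (alternatingGroup (Fin m)).Normal).conj_mem _ (inv_mem ha) w
    have h3 : (⟨_, h2⟩ : alternatingGroup (Fin m)) = 1 := by
      rw [← mem_bot, ← h, mem_subgroupOf]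
      exact h1
    have h4 : a * w * a⁻¹ * w⁻¹ = 1 := congrArg Subtype.val h3
    rw [mul_inv_eq_one, mul_inv_eq_iff_eq_mul] at h4
    exact h4.symm
  · exact subgroupOf_eq_top.mp h

theorem alt_card (hm : 2 ≤ m) : 2 * Nat.card (alternatingGroup (Fin m)) = m ! := by
  haveI : Nontrivial (Fin m) := Fin.nontrivial_iff_two_le.mpr hm
  rw [two_mul_nat_card_alternatingGroup, Nat.card_perm, Nat.card_fin]

theorem alt_nonabelian (hm : 5 ≤ m) : ∃ a ∈ alternatingGroup (Fin m), ∃ b ∈ alternatingGroup (Fin m), a * b ≠ b * a := by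
  by_contra hc
  push Not at hc
  haveI := alternatingGroup.isSimpleGroup (α := Fin m) (by simpa using hm)
  obtain ⟨a, ha⟩ := exists_ne (1 : alternatingGroup (Fin m))
  exact ha (Subtype.ext (eq_one_of_commute_alt (by omega) fun b hb => hc a a.2 b hb))

theorem alt_not_isPGroup (hm : 5 ≤ m) (p : ℕ) [Fact p.Prime] : ¬ IsPGroup p (alternatingGroup (Fin m)) := by
  intro h
  obtain ⟨k, hk⟩ := IsPGroup.iff_card.mp h
  have hdvd : ∀ q : ℕ, q.Prime → 2 * q ∣ m ! → q = p := by
    intro q hq hd
    rw [← alt_card (by omega), hk] at hd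
    exact (Nat.prime_dvd_prime_iff_eq hq Fact.out).mp (hq.dvd_of_dvd_pow (Nat.dvd_of_mul_dvd_mul_left two_pos hd))
  have h24 : 24 ∣ m ! := dvd_trans (by norm_num [Nat.factorial]) (Nat.factorial_dvd_factorial (show 4 ≤ m by omega))
  have h2 := hdvd 2 Nat.prime_two (dvd_trans (by norm_num) h24)
  have h3 := hdvd 3 Nat.prime_three (dvd_trans (by norm_num) h24)
  omega

theorem alt_le_range (hm : 2 ≤ m) {H : Subgroup (Perm (Fin m))} (h : m ! ≤ 2 * Nat.card H) :
    alternatingGroup (Fin m) ≤ H := by
  refine Equiv.Perm.alternatingGroup_le_of_index_le_two ?_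
  have h1 := H.card_mul_index
  rw [Nat.card_perm, Nat.card_fin] at h1
  rw [← h1] at h
  have hpos : 0 < Nat.card H := Nat.card_pos
  nlinarith

/-- A hom with an alternating image keeps it on an intersection of subgroups of small index. -/
theorem alt_le_map_iInf {Y : Type*} [Group Y] [Finite Y] {d : ℕ} (hd : 5 ≤ d) (f : Y →* Perm (Fin d))
    (hf : alternatingGroup (Fin d) ≤ f.range) {ι : Type*} [Finite ι] (S : ι → Subgroup Y)
    [∀ i, (S i).Normal] (hS : ∀ i, (S i).index ≤ (d - 1)!) :
    alternatingGroup (Fin d) ≤ (⨅ i, S i).map f := by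
  classical
  haveI := Fintype.ofFinite ι
  suffices h : ∀ s : Finset ι, alternatingGroup (Fin d) ≤ (⨅ i ∈ s, S i).map f by
    simpa using h Finset.univ
  intro s
  induction s using Finset.induction_on with
  | empty =>
    simp only [Finset.notMem_empty, iInf_false, iInf_top]
    rwa [← MonoidHom.range_eq_map]
  | insert i s hi ih =>
    set W : Subgroup Y := ⨅ j ∈ s, S j with hW
    rw [Finset.iInf_insert]
    haveI : W.Normal := normal_iInf_normal fun j => normal_iInf_normal fun _ => inferInstance
    refine alt_le hd ?_ fun hbot => ?_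
    · intro a ha w hw
      obtain ⟨y, rfl⟩ := hf ha
      obtain ⟨x, hx, rfl⟩ := hw
      exact ⟨y * x * y⁻¹, (inferInstance : (S i ⊓ W).Normal).conj_mem x hx y, by simp⟩
    · have hle : S i ⊓ W ≤ f.ker ⊓ W :=
        le_inf (fun x hx => by
          have := mem_map_of_mem f hx
          rwa [hbot, mem_bot] at this) inf_le_right
      have h1 : f.ker.relIndex W ∣ (S i).relIndex W := by
        rw [← inf_relIndex_right f.ker W, ← inf_relIndex_right (S i) W]
        exact relIndex_dvd_of_le_left W hle
      rw [relIndex_ker] at h1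
      have h2 : (S i).relIndex W ≤ (S i).index :=
        Nat.le_of_dvd (Nat.pos_of_ne_zero index_ne_zero_of_finite) (relIndex_dvd_index_of_normal _ _)
      have hpos : 0 < (S i).relIndex W := Nat.pos_of_ne_zero (index_ne_zero_of_finite)
      have h3 := Nat.le_of_dvd hpos h1
      have h4 := Subgroup.card_le_of_le ih
      have h5 := alt_card (m := d) (by omega)
      rw [← Nat.mul_factorial_pred (show d ≠ 0 by omega)] at h5
      have h6 := hS i
      have := Nat.factorial_pos (d - 1)
      nlinarith

end H61.AltPair
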