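import Cfsg.Agent.H61.AltPairBasic

/-!
Two conjugate maximal subgroups acting on each other's cosets as alternating or symmetric groups:
the two kernels meet trivially.
-/

set_option autoImplicit false

namespace H61.AltPair

open Equiv Subgroup MulAction Cfsg
open scoped Nat
open H70 (cj)

variable {G : Type*} [Group G]

theorem relIndex_mul_card {H K : Subgroup G} (h : H ≤ K) :
    Nat.card H * H.relIndex K = Nat.card K := by
  rw [← Comp.card_subgroupOf h]
  exact (H.subgroupOf K).card_mul_index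

variable [Finite G]

/-- The action of `M` on `M / (M ⊓ N)` contains the alternating group. -/
def Big (M N : Subgroup G) (d : ℕ) : Prop := d ! ≤ 2 * (core1 M N).relIndex M

/-- The standing hypotheses. -/
structure Setting (M N : Subgroup G) (d : ℕ) : Prop where
  tw : TWPair M N
  conjugate : ∃ g : G, N = cj g M
  deg : N.relIndex M = d
  six : 6 ≤ d

variable {M N : Subgroup G} {d : ℕ}

theorem Setting.card_eq (h : Setting M N d) : Nat.card M = Nat.card N := by
  obtain ⟨g, rfl⟩ := h.conjugate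
  rw [H70.card_cj]

theorem Setting.deg' (h : Setting M N d) : M.relIndex N = d := by
  have h1 := ((M ⊓ N).subgroupOf M).card_mul_index
  have h2 := ((M ⊓ N).subgroupOf N).card_mul_index
  rw [Comp.card_subgroupOf inf_le_left, show ((M ⊓ N).subgroupOf M).index = N.relIndex M by
    rw [inf_comm]; exact inf_relIndex_right _ _] at h1
  rw [Comp.card_subgroupOf inf_le_right, show ((M ⊓ N).subgroupOf N).index = M.relIndex N from
    inf_relIndex_right _ _] at h2
  rw [← h.card_eq, ← h1, h.deg] at h2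
  exact Nat.eq_of_mul_eq_mul_left Nat.card_pos h2

theorem Setting.symm (h : Setting M N d) : Setting N M d := by
  obtain ⟨g, hg⟩ := h.conjugate
  refine ⟨h.tw.symm, ⟨g⁻¹, ?_⟩, h.deg', h.six⟩
  rw [hg, H70.cj_cj, inv_mul_cancel, H70.cj_one]

theorem cj_eq_of_mem {Y : Subgroup G} {k : G} (hk : k ∈ normalizer (Y : Set G)) : cj k Y = Y :=
  H70.cj_eq_self_iff.mpr hk

theorem inf_core1_normalized (M N : Subgroup G) :
    M ⊓ N ≤ normalizer ((core1 M N ⊓ core1 N M : Subgroup G) : Set G) :=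
  (inf_le_inf (le_normalizer_core1 M N) (le_normalizer_core1 N M)).trans
    (H75.normalizer_inf_le_normalizer_inf _ _)

/-- The coset action, with values in `Perm (Fin d)`, and the point fixed by `N`. -/
theorem Setting.exists_top (h : Setting M N d) :
    ∃ (ρ : M →* Perm (Fin d)) (p : Fin d), (∀ x, ρ x = 1 ↔ (x : G) ∈ core1 M N) ∧
      (∀ x, ρ x p = p ↔ (x : G) ∈ N) ∧ (∀ q, ∃ x, ρ x p = q) ∧
      Nat.card ρ.range = (core1 M N).relIndex M := by
  classical
  let Q := M ⧸ N.subgroupOf M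
  let e : Q ≃ Fin d := Finite.equivFinOfCardEq (by rw [← index_eq_card]; exact h.deg)
  let ρ : M →* Perm (Fin d) := e.permCongrHom.toMonoidHom.comp (toPermHom M Q)
  have hker : ρ.ker = (core1 M N).subgroupOf M := by
    rw [core1_subgroupOf, normalCore_eq_ker]
    ext x
    simp [ρ, Q]
  refine ⟨ρ, e ((1 : M) : Q), fun x => ?_, fun x => ?_, fun q => ?_, ?_⟩
  · rw [← MonoidHom.mem_ker, hker, mem_subgroupOf]
  · show e (x • e.symm (e ((1 : M) : Q))) = e _ ↔ _
    rw [e.symm_apply_apply, e.apply_eq_iff_eq, MulAction.Quotient.smul_mk, QuotientGroup.eq]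
    simp [mem_subgroupOf]
  · obtain ⟨y, hy⟩ := QuotientGroup.mk_surjective (e.symm q)
    refine ⟨y, ?_⟩
    show e (y • e.symm (e ((1 : M) : Q))) = q
    rw [e.symm_apply_apply, MulAction.Quotient.smul_mk, smul_eq_mul, mul_one, hy, e.apply_symm_apply]
  · rw [← index_ker, hker]
    rfl

theorem Setting.range_le_factorial (h : Setting M N d) : (core1 M N).relIndex M ≤ d ! := by
  obtain ⟨ρ, p, -, -, -, hc⟩ := h.exists_top
  rw [← hc]
  calc Nat.card ρ.range ≤ Nat.card (Perm (Fin d)) := Finite.card_subtype_le _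
    _ = d ! := by rw [Nat.card_perm, Nat.card_fin]

/-- The action of a point stabiliser on the other points. -/
theorem exists_restrict {X : Type*} [Group X] {m : ℕ} (f : X →* Perm (Fin (m + 1))) (p : Fin (m + 1))
    (hp : ∀ x, f x p = p) :
    ∃ r : X →* Perm (Fin m), (∀ x, r x = 1 ↔ f x = 1) ∧ (∀ x, Perm.sign (r x) = Perm.sign (f x)) ∧
      ∀ x i, p.succAbove (r x i) = f x (p.succAbove i) := by
  classical
  have hs : ∀ x : X, ∀ i, f x i ≠ p ↔ i ≠ p := fun x i =>
    ⟨fun hh e => hh (e ▸ hp x), fun hh e => hh ((f x).injective (e.trans (hp x).symm))⟩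
  let r0 : X →* Perm {i : Fin (m + 1) // i ≠ p} :=
    { toFun := fun x => (f x).subtypePerm (hs x)
      map_one' := by ext i; simp
      map_mul' := fun x y => by ext i : 2; simp only [map_mul]; rfl }
  let r : X →* Perm (Fin m) := (finSuccAboveEquiv p).symm.permCongrHom.toMonoidHom.comp r0
  have hval : ∀ x i, p.succAbove (r x i) = f x (p.succAbove i) := fun x i => by
    show p.succAbove ((finSuccAboveEquiv p).symm (r0 x ((finSuccAboveEquiv p).symm.symm i))) = _
    have h1 := (finSuccAboveEquiv p).apply_symm_apply (r0 x ((finSuccAboveEquiv p).symm.symm i))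
    rw [finSuccAboveEquiv_apply] at h1
    have h2 := congrArg Subtype.val h1
    simp only at h2
    rw [h2]
    simp [r0, finSuccAboveEquiv_apply]
  refine ⟨r, fun x => ⟨fun hx => ?_, fun hx => ?_⟩, fun x => ?_, hval⟩
  · ext i : 1
    by_cases hi : i = p
    · rw [hi, hp]; rfl
    · obtain ⟨j, rfl⟩ := Fin.exists_succAbove_eq hi
      rw [← hval, hx]; rfl
  · ext i : 1
    apply p.succAbove_right_injective
    rw [hval, hx]; rfl
  · show Perm.sign ((finSuccAboveEquiv p).symm.permCongr ((f x).subtypePerm (hs x))) = _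
    rw [Perm.sign_permCongr]
    refine Perm.sign_subtypePerm _ _ fun i hi hh => hi ?_
    rw [hh, hp]

/-- The two-point stabiliser on the remaining points. -/
theorem Setting.exists_bot (h : Setting M N d) (hb : Big M N d) :
    ∃ (ρ : M →* Perm (Fin d)) (p : Fin d) (θ : ↥(M ⊓ N) →* Perm (Fin (d - 1))),
      (∀ x, ρ x = 1 ↔ (x : G) ∈ core1 M N) ∧ (∀ x, ρ x p = p ↔ (x : G) ∈ N) ∧ (∀ q, ∃ x, ρ x p = q) ∧
      alternatingGroup (Fin d) ≤ ρ.range ∧
      (∀ x, θ x = 1 ↔ (x : G) ∈ core1 M N) ∧ alternatingGroup (Fin (d - 1)) ≤ θ.range ∧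
      (∀ x : ↥(M ⊓ N), Perm.sign (θ x) = Perm.sign (ρ ⟨x, x.2.1⟩)) ∧
      ∀ a b : Fin d, a ≠ p → b ≠ p → ∃ x : M, (x : G) ∈ N ∧ ρ x a = b := by
  classical
  obtain ⟨m, rfl⟩ : ∃ m, d = m + 1 := ⟨d - 1, by have := h.six; omega⟩
  obtain ⟨ρ, p, hρ, hp, htr, hc⟩ := h.exists_top
  have hA : alternatingGroup (Fin (m + 1)) ≤ ρ.range := alt_le_range (by have := h.six; omega) (hc ▸ hb)
  obtain ⟨θ, hθ1, hθs, hθv⟩ := exists_restrict (ρ.comp (inclusion (inf_le_left : M ⊓ N ≤ M))) p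
    (fun x => (hp _).mpr x.2.2)
  have hθK : ∀ x, θ x = 1 ↔ (x : G) ∈ core1 M N := fun x => (hθ1 x).trans (hρ _)
  have hθA : alternatingGroup (Fin m) ≤ θ.range := by
    refine alt_le_range (by have := h.six; omega) ?_
    have hker : θ.ker = (core1 M N).subgroupOf (M ⊓ N) := by
      ext x
      rw [MonoidHom.mem_ker, hθK, mem_subgroupOf]
    rw [← index_ker, hker]
    have h1 := relIndex_mul_relIndex (core1 M N) (M ⊓ N) M (core1_le_inf M N) inf_le_left
    rw [inf_comm M N, inf_relIndex_right, h.deg, inf_comm N M] at h1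
    have h2 : (m + 1)! ≤ 2 * (core1 M N).relIndex M := hb
    rw [← h1, Nat.factorial_succ] at h2
    show m ! ≤ 2 * (core1 M N).relIndex (M ⊓ N)
    nlinarith
  refine ⟨ρ, p, θ, hρ, hp, htr, hA, hθK, hθA, fun x => hθs x, fun a b ha hb' => ?_⟩
  obtain ⟨i, rfl⟩ := Fin.exists_succAbove_eq ha
  obtain ⟨j, rfl⟩ := Fin.exists_succAbove_eq hb'
  by_cases hij : i = j
  · exact ⟨1, N.one_mem, by rw [hij, map_one]; rfl⟩
  obtain ⟨k, hki, hkj⟩ : ∃ k : Fin m, k ≠ i ∧ k ≠ j := by
    by_contra hcon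
    push Not at hcon
    have h2 : (Finset.univ : Finset (Fin m)) ⊆ {i, j} := fun r _ => by
      by_cases hr : r = i
      · simp [hr]
      · simp [hcon r hr]
    have := (Finset.card_le_card h2).trans Finset.card_le_two
    rw [Finset.card_univ, Fintype.card_fin] at this
    have := h.six
    omega
  have hmem : swap i k * swap i j ∈ alternatingGroup (Fin m) := by
    rw [Perm.mem_alternatingGroup, map_mul, Perm.sign_swap hki.symm, Perm.sign_swap hij]
    decide
  obtain ⟨y, hy⟩ := hθA hmem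
  refine ⟨⟨y, y.2.1⟩, y.2.2, ?_⟩
  have e := hθv y i
  rw [hy, Perm.mul_apply, swap_apply_left, swap_apply_of_ne_of_ne (Ne.symm hij) (Ne.symm hkj)] at e
  exact e.symm

/-- A hom to `Perm (Fin d)` with alternating image cannot live on the first core when the second is trivial. -/
theorem Setting.no_alt_on_core1 (h : Setting M N d) (hA : core2 M N = ⊥)
    (f : ↥(core1 M N) →* Perm (Fin d)) (hf : alternatingGroup (Fin d) ≤ f.range) : False := by
  let S : M → Subgroup ↥(core1 M N) := fun k =>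
    (cj (k : G) (core1 M N ⊓ core1 N M)).subgroupOf (core1 M N)
  have hK : ∀ k : M, cj (k : G) (core1 M N) = core1 M N := fun k =>
    cj_eq_of_mem (le_normalizer_core1 M N k.2)
  have hn : core1 M N ≤ normalizer ((core1 M N ⊓ core1 N M : Subgroup G) : Set G) :=
    (core1_le_inf M N).trans (inf_core1_normalized M N)
  haveI : ∀ k, (S k).Normal := fun k => normal_subgroupOf_of_le_normalizer <| by
    refine H75.le_normalizer_of_conj fun u hu x hx => ?_
    rw [← hK k, H70.mem_cj] at hu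
    rw [H70.mem_cj] at hx ⊢
    have := H75.conj_mem_of_mem_normalizer (hn hu) hx
    simpa [mul_assoc] using this
  have hi : ∀ k, (S k).index ≤ (d - 1)! := by
    intro k
    show (cj (k : G) (core1 M N ⊓ core1 N M)).relIndex (core1 M N) ≤ _
    conv_lhs => arg 2; rw [← hK k]
    show ((core1 M N ⊓ core1 N M).map _).relIndex ((core1 M N).map _) ≤ _
    rw [relIndex_map_map_of_injective _ _ (MulAut.conj (k : G)).injective]
    have := relIndex_core1_inf_dvd M N
    rw [h.deg'] at this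
    exact Nat.le_of_dvd (Nat.factorial_pos _) this
  have hb := alt_le_map_iInf (by have := h.six; omega) f hf S hi
  have hbot : (⨅ k, S k) = ⊥ := by
    refine (eq_bot_iff_forall _).mpr fun x hx => Subtype.ext ?_
    have : (x : G) ∈ core2 M N := by
      refine mem_coreIn.mpr ⟨core1_le_left M N x.2, fun k hk => ?_⟩
      have h1 := mem_iInf.mp hx (⟨k, hk⟩⁻¹ : M)
      rw [mem_subgroupOf, H70.mem_cj] at h1
      simpa [mul_assoc] using h1
    rw [hA, mem_bot] at this
    exact this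
  rw [hbot, Subgroup.map_bot] at hb
  have h1 := Subgroup.card_le_of_le hb
  rw [Subgroup.card_bot] at h1
  have h2 := alt_card (m := d) (by have := h.six; omega)
  have h3 := Nat.factorial_le (show 6 ≤ d from h.six)
  norm_num [Nat.factorial] at h3
  omega

theorem Setting.core2_or (h : Setting M N d) (hb : Big M N d) : core2 M N = ⊥ ∨ core2 N M = ⊥ := by
  by_contra hc
  push Not at hc
  obtain ⟨q, hq, hq1, -⟩ := h.tw.exists_prime hc.1 hc.2
  haveI := Fact.mk hq
  obtain ⟨ρ, p, θ, -, -, -, -, hθ, hθA, -, -⟩ := h.exists_bot hb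
  refine hc.1 (le_bot_iff.mp ?_)
  rw [← h.tw.pCoreOf_inf_eq_bot hq ?_]
  · exact H75.le_pCoreOf (le_inf (core2_le_left M N) ((core2_le_core1 M N).trans (core1_le_right M N)))
      (inf_le_left.trans (le_normalizer_core2 M N)) hq1
  intro x hx
  have hxD := H75.pCoreOf_le (p := q) (M ⊓ N) hx
  by_contra hxK
  have hne : ((pCoreOf q (M ⊓ N)).subgroupOf (M ⊓ N)).map θ ≠ ⊥ := fun e => hxK ((hθ ⟨x, hxD⟩).mp (by
    rw [← mem_bot, ← e]
    exact mem_map_of_mem θ (mem_subgroupOf.mpr hx)))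
  have hsix := h.six
  have hle := alt_le (m := d - 1) (by omega) (fun a ha w hw => by
    obtain ⟨u, rfl⟩ := hθA ha
    obtain ⟨v, hv, rfl⟩ := hw
    exact ⟨u * v * u⁻¹, mem_subgroupOf.mpr (H75.conj_mem_of_mem_normalizer
      (H75.le_normalizer_pCoreOf _ u.2) (mem_subgroupOf.mp hv)), by simp⟩) hne
  exact alt_not_isPGroup (by omega) q ((((H75.isPGroup_pCoreOf (p := q) (M ⊓ N)).comap_of_injective
    (M ⊓ N).subtype (subtype_injective _)).map θ).to_le hle)

/-- The paired action also contains the alternating group. -/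
theorem Setting.big_symm (h : Setting M N d) (hb : Big M N d) : Big N M d := by
  classical
  have hd := h.six
  obtain ⟨ρ, p, hρ, -, -, hc⟩ := h.exists_top
  have hAρ : alternatingGroup (Fin d) ≤ ρ.range := alt_le_range (by omega) (hc ▸ hb)
  obtain ⟨g, hg⟩ := h.conjugate
  let ι : N →* M :=
    ((MulAut.conj g⁻¹).toMonoidHom.comp N.subtype).codRestrict M fun x => by
      have := x.2
      have h' : g⁻¹ * (x : G) * g ∈ M := H70.mem_cj.mp (hg ▸ this)
      simpa using h'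
  have hι : Function.Surjective ι := fun y => by
    refine ⟨⟨g * y * g⁻¹, hg ▸ H70.mem_cj.mpr (by simpa [mul_assoc] using y.2)⟩, Subtype.ext ?_⟩
    simp [ι, mul_assoc]
  let f : N →* Perm (Fin d) := ρ.comp ι
  have hfA : alternatingGroup (Fin d) ≤ f.range := fun a ha => by
    obtain ⟨y, rfl⟩ := hAρ ha
    obtain ⟨z, rfl⟩ := hι y
    exact ⟨z, rfl⟩
  let L : Subgroup N := (core1 N M).subgroupOf N
  by_cases hL : L.map f = ⊥
  · have hle : core1 N M ≤ cj g (core1 M N) := by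
      intro x hx
      have h1 : f ⟨x, core1_le_left N M hx⟩ = 1 := by
        rw [← mem_bot, ← hL]
        exact mem_map_of_mem f (mem_subgroupOf.mpr hx)
      rw [H70.mem_cj]
      simpa [ι] using (hρ _).mp h1
    have h1 := Subgroup.card_le_of_le hle
    rw [H70.card_cj] at h1
    have h2 := relIndex_mul_card (core1_le_left M N)
    have h3 := relIndex_mul_card (core1_le_left N M)
    rw [← h.card_eq, ← h2] at h3
    have hb' : d ! ≤ 2 * (core1 M N).relIndex M := hb
    have hpos : 0 < Nat.card (core1 N M) := Nat.card_pos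
    show d ! ≤ 2 * (core1 N M).relIndex N
    nlinarith [Nat.mul_le_mul_right ((core1 M N).relIndex M) h1]
  exfalso
  have hLn : L.Normal := normal_subgroupOf_of_le_normalizer (le_normalizer_core1 N M)
  have hLA : alternatingGroup (Fin d) ≤ L.map f := alt_le (by omega) (fun a ha w hw => by
    obtain ⟨u, rfl⟩ := hfA ha
    obtain ⟨v, hv, rfl⟩ := hw
    exact ⟨u * v * u⁻¹, hLn.conj_mem v hv u, by simp⟩) hL
  let f1 : ↥(core1 N M) →* Perm (Fin d) := f.comp (inclusion (core1_le_left N M))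
  have hf1 : alternatingGroup (Fin d) ≤ f1.range := fun a ha => by
    obtain ⟨v, hv, rfl⟩ := hLA ha
    exact ⟨⟨v, hv⟩, rfl⟩
  rcases h.core2_or hb with hA | hA
  · -- push the image into the other core
    haveI : ((core1 M N ⊓ core1 N M).subgroupOf (core1 N M)).Normal := normal_subgroupOf_of_le_normalizer
      (((core1_le_inf N M).trans_eq (inf_comm N M)).trans (inf_core1_normalized M N))
    have hX := alt_le_map_iInf (by omega) f1 hf1
      (fun _ : Unit => (core1 M N ⊓ core1 N M).subgroupOf (core1 N M)) fun _ => by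
      show (core1 M N ⊓ core1 N M).relIndex (core1 N M) ≤ _
      rw [inf_comm]
      have := relIndex_core1_inf_dvd N M
      rw [h.symm.deg'] at this
      exact Nat.le_of_dvd (Nat.factorial_pos _) this
    refine h.no_alt_on_core1 hA (f.comp (inclusion (core1_le_right M N))) fun a ha => ?_
    obtain ⟨v, hv, rfl⟩ := hX ha
    have hv' : (v : G) ∈ core1 M N := (mem_iInf.mp hv ()).1
    exact ⟨⟨v, hv'⟩, rfl⟩
  · exact h.symm.no_alt_on_core1 hA f1 hf1

/-- With a trivial second core the two kernels meet trivially. -/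
theorem Setting.inf_eq_bot_aux (h : Setting M N d) (hb : Big M N d) (hb' : Big N M d)
    (hA : core2 M N = ⊥) : core1 M N ⊓ core1 N M = ⊥ := by
  classical
  set K := core1 M N with hK
  set L := core1 N M with hL
  set X := K ⊓ L with hX
  by_contra hne
  have hd := h.six
  obtain ⟨ρ, p, θ, hρ, hp, htr, -, -, -, -, htrans⟩ := h.exists_bot hb
  obtain ⟨-, -, θ', -, -, -, -, hθ', hθA', -, -⟩ := h.symm.exists_bot hb'
  have hKD : K ≤ M ⊓ N := core1_le_inf M N
  have hKD' : K ≤ N ⊓ M := hKD.trans (inf_comm M N).le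
  have hKM : ∀ k ∈ M, ∀ x ∈ K, k * x * k⁻¹ ∈ K := fun k hk x hx =>
    H75.conj_mem_of_mem_normalizer (le_normalizer_core1 M N hk) hx
  have hLN : ∀ k ∈ N, ∀ x ∈ L, k * x * k⁻¹ ∈ L := fun k hk x hx =>
    H75.conj_mem_of_mem_normalizer (le_normalizer_core1 N M hk) hx
  have hXn : ∀ k ∈ M, (∀ x ∈ X, k * x * k⁻¹ ∈ X) → k ∈ N := by
    intro k hk hkX
    by_contra hkN
    have hkn : k ∈ normalizer (X : Set G) := mem_normalizer_fintype fun x hx => hkX x hx
    have hall : M ≤ normalizer (X : Set G) := by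
      intro m hm
      by_cases hmN : m ∈ N
      · exact inf_core1_normalized M N ⟨hm, hmN⟩
      obtain ⟨δ, hδN, hδ⟩ := htrans (ρ ⟨k, hk⟩ p) (ρ ⟨m, hm⟩ p)
        (fun e => hkN ((hp _).mp e)) (fun e => hmN ((hp _).mp e))
      have h1 : ((δ * ⟨k, hk⟩)⁻¹ * ⟨m, hm⟩ : M).1 ∈ N := (hp _).mp (by
        rw [map_mul, map_inv, Perm.mul_apply, ← hδ, map_mul, Perm.inv_eq_iff_eq]
        rfl)
      have hmem : ((δ * ⟨k, hk⟩)⁻¹ * ⟨m, hm⟩ : M).1 ∈ normalizer (X : Set G) :=
        inf_core1_normalized M N ⟨((δ * ⟨k, hk⟩)⁻¹ * ⟨m, hm⟩ : M).2, h1⟩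
      have hδX : (δ : G) ∈ normalizer (X : Set G) := inf_core1_normalized M N ⟨δ.2, hδN⟩
      have := mul_mem (mul_mem hδX hkn) hmem
      simpa [mul_assoc] using this
    exact hne (le_bot_iff.mp (hA ▸ le_coreIn le_rfl (inf_le_left.trans (core1_le_left M N)) hall))
  have hkerK : ∀ x (hx : x ∈ K), θ' ⟨x, hKD' hx⟩ = 1 ↔ x ∈ X := fun x hx =>
    (hθ' _).trans ⟨fun h' => ⟨hx, h'⟩, fun h' => h'.2⟩
  -- the image on the other side of a subgroup of `K` normalised by `K`
  have hKne : (K.subgroupOf (N ⊓ M)).map θ' ≠ ⊥ := by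
    intro e
    have hKL : K ≤ L := fun x hx => ((hkerK x hx).mp (by
      rw [← mem_bot, ← e]; exact mem_map_of_mem θ' (mem_subgroupOf.mpr hx))).2
    refine hne (le_bot_iff.mp (hA ▸ ?_))
    rw [hX, inf_eq_left.mpr hKL]
    exact le_coreIn (le_inf le_rfl hKL) (core1_le_left M N) (le_normalizer_core1 M N)
  have hKA : alternatingGroup (Fin (d - 1)) ≤ (K.subgroupOf (N ⊓ M)).map θ' :=
    alt_le (by omega) (fun a ha w hw => by
      obtain ⟨u, rfl⟩ := hθA' ha
      obtain ⟨v, hv, rfl⟩ := hw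
      exact ⟨u * v * u⁻¹, hKM u u.2.2 v hv, by simp⟩) hKne
  have himg : ∀ Y : Subgroup G, Y ≤ K → (∀ k ∈ K, ∀ y ∈ Y, k * y * k⁻¹ ∈ Y) → ¬ Y ≤ X →
      alternatingGroup (Fin (d - 1)) ≤ (Y.subgroupOf (N ⊓ M)).map θ' := by
    intro Y hYK hYn hYX
    refine alt_le (by omega) (fun a ha w hw => ?_) fun e => hYX fun y hy => (hkerK y (hYK hy)).mp (by
      rw [← mem_bot, ← e]; exact mem_map_of_mem θ' (mem_subgroupOf.mpr hy))
    obtain ⟨u, hu, rfl⟩ := hKA ha
    obtain ⟨v, hv, rfl⟩ := hw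
    exact ⟨u * v * u⁻¹, hYn u hu v hv, by simp⟩
  have l1 : ∀ {A B : Subgroup G} {x : G}, x ∈ A ⊓ B → x ∈ A := fun h => h.1
  have hcomm : ∀ Y Z : Subgroup G, Y ≤ K → Z ≤ K → (∀ k ∈ K, ∀ y ∈ Y, k * y * k⁻¹ ∈ Y) →
      (∀ k ∈ K, ∀ y ∈ Z, k * y * k⁻¹ ∈ Z) → ¬ Y ≤ X → ¬ Z ≤ X →
      ∃ y ∈ Y, ∃ z ∈ Z, y * z * y⁻¹ * z⁻¹ ∉ X := by
    intro Y Z hY hZ hYn hZn hYX hZX
    by_contra hc
    push Not at hc
    obtain ⟨a, ha, b, hb, hab⟩ := alt_nonabelian (m := d - 1) (by omega)
    obtain ⟨u, hu, rfl⟩ := himg Y hY hYn hYX ha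
    obtain ⟨v, hv, rfl⟩ := himg Z hZ hZn hZX hb
    apply hab
    have hm : (u : G) * v * (u : G)⁻¹ * (v : G)⁻¹ ∈ K :=
      mul_mem (mul_mem (mul_mem (hY hu) (hZ hv)) (inv_mem (hY hu))) (inv_mem (hZ hv))
    have h1 : θ' (u * v * u⁻¹ * v⁻¹) = 1 := (hkerK _ hm).mpr (hc u hu v hv)
    rw [map_mul, map_mul, map_mul, map_inv, map_inv, mul_inv_eq_one, mul_inv_eq_iff_eq_mul] at h1
    exact h1
  -- `K` meets the conjugates of `X` outside `X`
  have hYne : ∀ s : Finset M, (∀ k ∈ s, (k : G) ∉ N) → ¬ (K ⊓ ⨅ k ∈ s, cj (k : G) X) ≤ X := by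
    have hcjK : ∀ k : M, cj (k : G) X ≤ K := fun k x hx => by
      have h1 : (k : G)⁻¹ * x * k ∈ K := (H70.mem_cj.mp hx).1
      simpa [mul_assoc] using hKM k k.2 _ h1
    have hcjn : ∀ k : M, ∀ u ∈ K, ∀ x ∈ cj (k : G) X, u * x * u⁻¹ ∈ cj (k : G) X := by
      intro k u hu x hx
      rw [H70.mem_cj] at hx ⊢
      have h1 : (k : G)⁻¹ * u * k ∈ K := by simpa using hKM _ (inv_mem k.2) u hu
      have := H75.conj_mem_of_mem_normalizer ((hKD.trans (inf_core1_normalized M N)) h1) hx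
      simpa [mul_assoc, hX] using this
    intro s
    induction s using Finset.induction_on with
    | empty =>
      intro _ hle
      refine hKne ((eq_bot_iff_forall _).mpr ?_)
      rintro _ ⟨v, hv, rfl⟩
      exact (hkerK v hv).mpr (hle (by simpa [mem_subgroupOf] using hv))
    | insert k s hks ih =>
      intro hs hle
      set W := K ⊓ ⨅ j ∈ s, cj (j : G) X with hW
      have hWn : ∀ u ∈ K, ∀ y ∈ W, u * y * u⁻¹ ∈ W := by
        intro u hu y hy
        refine mem_inf.mpr ⟨mul_mem (mul_mem hu (l1 hy)) (inv_mem hu), mem_iInf.mpr fun j => mem_iInf.mpr fun hj => ?_⟩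
        exact hcjn j u hu y (mem_iInf.mp (mem_iInf.mp hy.2 j) hj)
      have hkX : ¬ cj (k : G) X ≤ X := fun hle' =>
        hs k (Finset.mem_insert_self k s) (hXn k k.2 fun x hx => hle'
          (H70.mem_cj.mpr (by simpa [mul_assoc] using hx)))
      obtain ⟨y, hy, z, hz, hyz⟩ := hcomm W (cj (k : G) X) inf_le_left (hcjK k) hWn (hcjn k)
        (ih fun j hj => hs j (Finset.mem_insert_of_mem hj)) hkX
      refine hyz (hle (mem_inf.mpr ⟨mul_mem (mul_mem (mul_mem (l1 hy) (hcjK k hz)) (inv_mem (l1 hy))) (inv_mem (hcjK k hz)), ?_⟩))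
      rw [Finset.iInf_insert]
      refine mem_inf.mpr ⟨mul_mem (hcjn k y (l1 hy) z hz) (inv_mem hz), ?_⟩
      have h1 : z * y⁻¹ * z⁻¹ ∈ W := hWn z (hcjK k hz) _ (inv_mem hy)
      have h2 : y * z * y⁻¹ * z⁻¹ = y * (z * y⁻¹ * z⁻¹) := by group
      rw [h2]
      exact (mul_mem hy h1).2
  haveI := Fintype.ofFinite M
  obtain ⟨y, hy, hyX⟩ := SetLike.not_le_iff_exists.mp
    (hYne (Finset.univ.filter fun k : M => (k : G) ∉ N) (by simp))
  have hy' : ∀ k : M, (k : G) ∉ N → (k : G)⁻¹ * y * k ∈ X := fun k hk =>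
    H70.mem_cj.mp (mem_iInf.mp (mem_iInf.mp hy.2 k) (by simp [hk]))
  -- `y` centralises `L`
  have hyL : ∀ l ∈ L, y * l = l * y := by
    intro l hl
    have hlM : l ∈ M := core1_le_right N M hl
    have hlN : l ∈ N := core1_le_left N M hl
    have hc : y * l * y⁻¹ * l⁻¹ ∈ X := by
      refine mem_inf.mpr ⟨?_, mul_mem (hLN y (hKD (l1 hy)).2 l hl) (inv_mem hl)⟩
      rw [show y * l * y⁻¹ * l⁻¹ = y * (l * y⁻¹ * l⁻¹) by group]
      exact mul_mem (l1 hy) (hKM l hlM _ (inv_mem (l1 hy)))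
    have h1 : y * l * y⁻¹ * l⁻¹ ∈ core2 M N := by
      refine mem_coreIn.mpr ⟨core1_le_left M N (l1 hc), fun k hk => ?_⟩
      by_cases hkN : k ∈ N
      · exact H75.conj_mem_of_mem_normalizer (inf_core1_normalized M N ⟨hk, hkN⟩) hc
      have e1 := hy' ⟨k⁻¹, inv_mem hk⟩ (fun e => hkN (by simpa using inv_mem e))
      have e2 := inv_mem (hy' ⟨l⁻¹ * k⁻¹, mul_mem (inv_mem hlM) (inv_mem hk)⟩
        (fun e => hkN (by simpa using inv_mem (mul_mem hlN (show (l⁻¹ * k⁻¹ : G) ∈ N from e)))))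
      have := mul_mem e1 e2
      simp only [_root_.mul_inv_rev, inv_inv, mul_assoc] at this ⊢
      simpa [mul_assoc, hX] using this
    rw [hA, mem_bot, mul_inv_eq_one, mul_inv_eq_iff_eq_mul] at h1
    exact h1
  have hy1 : y ≠ 1 := fun e => hyX (e ▸ X.one_mem)
  -- move to `M`
  obtain ⟨g, hg⟩ := h.conjugate
  set J := cj g⁻¹ L with hJ
  have hJM : J ≤ M := by
    intro x hx
    rw [hJ, H70.mem_cj, inv_inv] at hx
    have := H70.mem_cj.mp (hg ▸ core1_le_left N M hx)
    simpa [mul_assoc] using this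
  have hJn : ∀ k ∈ M, ∀ x ∈ J, k * x * k⁻¹ ∈ J := by
    intro k hk x hx
    rw [hJ, H70.mem_cj, inv_inv] at hx ⊢
    have hgk : g * k * g⁻¹ ∈ N := hg ▸ H70.mem_cj.mpr (by simpa [mul_assoc] using hk)
    simpa [mul_assoc] using hLN _ hgk _ hx
  have hJne : J ≠ ⊥ := by
    intro e
    refine hne (le_bot_iff.mp (inf_le_right.trans fun x hx => ?_))
    have : g⁻¹ * x * g ∈ J := by rw [hJ, H70.mem_cj]; simpa [mul_assoc] using hx
    rw [e, mem_bot] at this
    rw [mem_bot]
    simpa using conj_eq_one_iff.mp (show g⁻¹ * x * g⁻¹⁻¹ = 1 by rwa [inv_inv])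
  -- a normal subgroup of `M` cannot centralise `K`
  have hnotK : ∀ Y : Subgroup G, Y ≤ M → (∀ k ∈ M, ∀ x ∈ Y, k * x * k⁻¹ ∈ Y) → Y ≠ ⊥ → Y ⊓ K ≠ ⊥ := by
    intro Y hY hYn hYne' e
    have hcent : ∀ x ∈ Y, ∀ u ∈ K, x * u = u * x := by
      intro x hx u hu
      have : x * u * x⁻¹ * u⁻¹ ∈ Y ⊓ K := mem_inf.mpr ⟨by
        rw [show x * u * x⁻¹ * u⁻¹ = x * (u * x⁻¹ * u⁻¹) by group]
        exact mul_mem hx (hYn u (core1_le_left M N hu) _ (inv_mem hx)),
        mul_mem (hKM x (hY hx) u hu) (inv_mem hu)⟩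
      rw [e, mem_bot, mul_inv_eq_one, mul_inv_eq_iff_eq_mul] at this
      exact this
    have hYN : Y ≤ N := fun x hx => hXn x (hY hx) fun u hu => by
      rw [hcent x hx u hu.1, mul_inv_cancel_right]; exact hu
    have hYK : Y ≤ K := le_core1 hY hYN (H75.le_normalizer_of_conj hYn)
    exact hYne' (by rw [← e, inf_eq_left.mpr hYK])
  have hnotX : ∀ Y : Subgroup G, Y ≤ M → (∀ k ∈ M, ∀ x ∈ Y, k * x * k⁻¹ ∈ Y) → Y ≠ ⊥ → ¬ Y ⊓ K ≤ X := by
    intro Y hY hYn hYne' hle
    refine hnotK Y hY hYn hYne' (le_bot_iff.mp ?_)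
    rw [← hA]
    exact le_coreIn hle (inf_le_left.trans hY)
      (H75.le_normalizer_of_conj fun k hk x hx => ⟨hYn k hk x hx.1, hKM k hk x hx.2⟩)
  let C := M ⊓ centralizer (J : Set G)
  have hCn : ∀ k ∈ M, ∀ x ∈ C, k * x * k⁻¹ ∈ C := by
    intro k hk x hx
    refine mem_inf.mpr ⟨mul_mem (mul_mem hk hx.1) (inv_mem hk), mem_centralizer_iff.mpr fun j hj => ?_⟩
    have h1 := mem_centralizer_iff.mp hx.2 (k⁻¹ * j * k) (by simpa using hJn _ (inv_mem hk) j hj)
    calc j * (k * x * k⁻¹) = k * ((k⁻¹ * j * k) * x) * k⁻¹ := by group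
      _ = k * (x * (k⁻¹ * j * k)) * k⁻¹ := by rw [h1]
      _ = _ := by group
  have hzC : g⁻¹ * y * g ∈ C := by
    refine ⟨?_, mem_centralizer_iff.mpr fun j hj => ?_⟩
    · have := H70.mem_cj.mp (hg ▸ (hKD (l1 hy)).2)
      exact this
    · rw [hJ] at hj
      have hj' := H70.mem_cj.mp hj
      rw [inv_inv] at hj'
      have e := hyL _ hj'
      calc j * (g⁻¹ * y * g) = g⁻¹ * ((g * j * g⁻¹) * y) * g := by group
        _ = g⁻¹ * (y * (g * j * g⁻¹)) * g := by rw [e]
        _ = _ := by group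
  have hCne : C ≠ ⊥ := fun e => hy1 (by
    rw [e, mem_bot] at hzC
    simpa using conj_eq_one_iff.mp (show g⁻¹ * y * g⁻¹⁻¹ = 1 by rwa [inv_inv]))
  obtain ⟨u, hu, v, hv, huv⟩ := hcomm (C ⊓ K) (J ⊓ K) inf_le_right inf_le_right
    (fun k hk x hx => ⟨hCn k (core1_le_left M N hk) x hx.1, hKM k (core1_le_left M N hk) x hx.2⟩)
    (fun k hk x hx => ⟨hJn k (core1_le_left M N hk) x hx.1, hKM k (core1_le_left M N hk) x hx.2⟩)
    (hnotX C inf_le_left hCn hCne) (hnotX J hJM hJn hJne)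
  apply huv
  rw [(mem_centralizer_iff.mp hu.1.2 v hv.1).symm, mul_inv_cancel_right, mul_inv_cancel]
  exact X.one_mem

theorem Setting.inf_eq_bot (h : Setting M N d) (hb : Big M N d) : core1 M N ⊓ core1 N M = ⊥ := by
  have hb' := h.big_symm hb
  rcases h.core2_or hb with hA | hA
  · exact h.inf_eq_bot_aux hb hb' hA
  · rw [inf_comm]
    exact h.symm.inf_eq_bot_aux hb' hb hA

end H61.AltPair
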