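import Cfsg.Agent.H61.AltPairCore

/-!
The stabiliser is a subgroup of `Perm (Fin d) × Perm (Fin (d - 1))` containing both alternating groups.
-/

set_option autoImplicit false

namespace H61.AltPair

open Equiv Subgroup Cfsg
open scoped Nat
open H70 (cj)

variable {a b : ℕ}

theorem mem_of_signs {P : Subgroup (Perm (Fin a) × Perm (Fin b))}
    (hP : (alternatingGroup (Fin a)).prod (alternatingGroup (Fin b)) ≤ P) {x y : Perm (Fin a) × Perm (Fin b)}
    (hy : y ∈ P) (h1 : Perm.sign x.1 = Perm.sign y.1) (h2 : Perm.sign x.2 = Perm.sign y.2) : x ∈ P := by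
  have hxy : x * y⁻¹ ∈ P := hP (mem_prod.mpr ⟨by
      rw [Perm.mem_alternatingGroup, Prod.fst_mul, Prod.fst_inv, map_mul, map_inv, h1, mul_inv_cancel], by
      rw [Perm.mem_alternatingGroup, Prod.snd_mul, Prod.snd_inv, map_mul, map_inv, h2, mul_inv_cancel]⟩)
  simpa using mul_mem hxy hy

/-- The subgroup of pairs with equal signs. -/
abbrev eqSign (a b : ℕ) : Subgroup (Perm (Fin a) × Perm (Fin b)) :=
  ((Perm.sign.comp (MonoidHom.fst (Perm (Fin a)) (Perm (Fin b)))) *
    (Perm.sign.comp (MonoidHom.snd (Perm (Fin a)) (Perm (Fin b))))).ker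

theorem mem_eqSign {x : Perm (Fin a) × Perm (Fin b)} : x ∈ eqSign a b ↔ Perm.sign x.1 = Perm.sign x.2 := by
  rw [MonoidHom.mem_ker, MonoidHom.mul_apply]
  show Perm.sign x.1 * Perm.sign x.2 = 1 ↔ _
  rcases Int.units_eq_one_or (Perm.sign x.1) with h | h <;>
    rcases Int.units_eq_one_or (Perm.sign x.2) with h' | h' <;> rw [h, h'] <;> decide

theorem three_cases {P : Subgroup (Perm (Fin a) × Perm (Fin b))}
    (hP : (alternatingGroup (Fin a)).prod (alternatingGroup (Fin b)) ≤ P) (hfst : ∀ σ, ∃ τ, (σ, τ) ∈ P) :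
    P = (⊤ : Subgroup (Perm (Fin a))).prod (alternatingGroup (Fin b)) ∨ P = eqSign a b ∨ P = ⊤ := by
  by_cases h1 : ∀ x ∈ P, Perm.sign x.2 = 1
  · left
    refine le_antisymm (fun x hx => mem_prod.mpr ⟨mem_top _, Perm.mem_alternatingGroup.mpr (h1 x hx)⟩)
      fun x hx => ?_
    obtain ⟨τ, hτ⟩ := hfst x.1
    exact mem_of_signs hP hτ rfl ((Perm.mem_alternatingGroup.mp (mem_prod.mp hx).2).trans (h1 _ hτ).symm)
  by_cases h2 : ∀ x ∈ P, Perm.sign x.1 = Perm.sign x.2
  · right; left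
    refine le_antisymm (fun x hx => mem_eqSign.mpr (h2 x hx)) fun x hx => ?_
    obtain ⟨τ, hτ⟩ := hfst x.1
    exact mem_of_signs hP hτ rfl ((mem_eqSign.mp hx).symm.trans (h2 _ hτ))
  right; right
  push Not at h1 h2
  obtain ⟨u, hu, hu1, hu2⟩ : ∃ u ∈ P, Perm.sign u.1 = 1 ∧ Perm.sign u.2 = -1 := by
    obtain ⟨x, hx, hx2⟩ := h1
    obtain ⟨y, hy, hy12⟩ := h2
    have hx2' := (Int.units_eq_one_or (Perm.sign x.2)).resolve_left hx2
    rcases Int.units_eq_one_or (Perm.sign x.1) with hx1 | hx1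
    · exact ⟨x, hx, hx1, hx2'⟩
    rcases Int.units_eq_one_or (Perm.sign y.1) with hy1 | hy1
    · exact ⟨y, hy, hy1, (Int.units_eq_one_or (Perm.sign y.2)).resolve_left fun e => hy12 (hy1.trans e.symm)⟩
    · have hy2 := (Int.units_eq_one_or (Perm.sign y.2)).resolve_right fun e => hy12 (hy1.trans e.symm)
      exact ⟨x * y, mul_mem hx hy, by rw [Prod.fst_mul, map_mul, hx1, hy1]; decide,
        by rw [Prod.snd_mul, map_mul, hx2', hy2]; decide⟩
  refine eq_top_iff.mpr fun x _ => ?_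
  obtain ⟨τ, hτ⟩ := hfst x.1
  by_cases he : Perm.sign x.2 = Perm.sign τ
  · exact mem_of_signs hP hτ rfl he
  · refine mem_of_signs hP (mul_mem hτ hu) (by rw [Prod.fst_mul, map_mul, hu1, mul_one]) ?_
    rw [Prod.snd_mul, map_mul, hu2]
    rcases Int.units_eq_one_or (Perm.sign x.2) with e | e <;>
      rcases Int.units_eq_one_or (Perm.sign τ) with e' | e' <;> rw [e, e'] at he ⊢ <;>
      first | rfl | exact absurd rfl he

theorem exists_alt_move {m : ℕ} (hm : 3 ≤ m) (i j : Fin m) : ∃ s ∈ alternatingGroup (Fin m), s i = j := by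
  by_cases hij : i = j
  · exact ⟨1, one_mem _, by rw [hij]; rfl⟩
  obtain ⟨k, hki, hkj⟩ : ∃ k : Fin m, k ≠ i ∧ k ≠ j := by
    by_contra hcon
    push Not at hcon
    have h2 : (Finset.univ : Finset (Fin m)) ⊆ {i, j} := fun r _ => by
      by_cases hr : r = i
      · simp [hr]
      · simp [hcon r hr]
    have := (Finset.card_le_card h2).trans Finset.card_le_two
    rw [Finset.card_univ, Fintype.card_fin] at this
    omega
  refine ⟨swap i k * swap i j, ?_, ?_⟩
  · rw [Perm.mem_alternatingGroup, map_mul, Perm.sign_swap hki.symm, Perm.sign_swap hij]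
    decide
  · rw [Perm.mul_apply, swap_apply_left, swap_apply_of_ne_of_ne (Ne.symm hij) (Ne.symm hkj)]

variable {G : Type*} [Group G] [Finite G] {M N : Subgroup G} {d : ℕ}

/-- The possible structures of `M`. -/
theorem Setting.structure_cases (h : Setting M N d) (hb : Big M N d) (hKne : core1 M N ≠ ⊥) :
    (2 * (core1 M N).relIndex M = d ! ∧
        Nonempty (M ≃* alternatingGroup (Fin d) × alternatingGroup (Fin (d - 1)))) ∨
      ((core1 M N).relIndex M = d ! ∧
        (Nonempty (M ≃* Perm (Fin d) × Perm (Fin (d - 1))) ∨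
          Nonempty (M ≃* Perm (Fin d) × alternatingGroup (Fin (d - 1))) ∨
          Nonempty (M ≃* ↥(eqSign d (d - 1))))) := by
  classical
  have hd := h.six
  have hI := h.inf_eq_bot hb
  obtain ⟨ρ, p, -, hρ, hp, -, hρA, -, -, -, -⟩ := h.exists_bot hb
  obtain ⟨ρ', p', θ, hρ', -, -, hρA', hθ, hθA, hθs, -⟩ := h.symm.exists_bot (h.big_symm hb)
  set K := core1 M N with hK
  set L := core1 N M with hL
  have hKD : ∀ {x}, x ∈ K → x ∈ N ⊓ M := fun {x} hx =>
    mem_inf.mpr ⟨core1_le_right M N hx, core1_le_left M N hx⟩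
  have hKM : ∀ k ∈ M, ∀ x ∈ K, k * x * k⁻¹ ∈ K := fun k hk x hx =>
    H75.conj_mem_of_mem_normalizer (le_normalizer_core1 M N hk) hx
  have hθinj : ∀ x (hx : x ∈ K), θ ⟨x, hKD hx⟩ = 1 → x = 1 := fun x hx e => by
    have : x ∈ K ⊓ L := mem_inf.mpr ⟨hx, (hθ _).mp e⟩
    rwa [hI, mem_bot] at this
  have hθK : alternatingGroup (Fin (d - 1)) ≤ (K.subgroupOf (N ⊓ M)).map θ :=
    alt_le (by omega) (fun x hx w hw => by
      obtain ⟨u, rfl⟩ := hθA hx
      obtain ⟨v, hv, rfl⟩ := hw
      exact ⟨u * v * u⁻¹, hKM u u.2.2 v hv, by simp⟩) fun e => hKne ((eq_bot_iff_forall _).mpr fun x hx =>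
      hθinj x hx (by rw [← mem_bot, ← e]; exact mem_map_of_mem θ (mem_subgroupOf.mpr hx)))
  have hKcard : Nat.card K ≤ (d - 1)! := by
    refine (Nat.card_le_card_of_injective (fun x : K => θ ⟨x, hKD x.2⟩) fun x y e => ?_).trans
      (le_of_eq (by rw [Nat.card_perm, Nat.card_fin]))
    have := hθinj ((x : G) * (y : G)⁻¹) (mul_mem x.2 (inv_mem y.2)) (by
      show θ (⟨x, hKD x.2⟩ * ⟨y, hKD y.2⟩⁻¹) = 1
      simp only at e
      rw [map_mul, map_inv, e, mul_inv_cancel])
    exact Subtype.ext (mul_inv_eq_one.mp this)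
  -- the centraliser of the kernel
  set C := M ⊓ centralizer (K : Set G) with hC
  have hCn : ∀ k ∈ M, ∀ x ∈ C, k * x * k⁻¹ ∈ C := by
    intro k hk x hx
    rw [hC, mem_inf] at hx ⊢
    refine ⟨mul_mem (mul_mem hk hx.1) (inv_mem hk), mem_centralizer_iff.mpr fun j hj => ?_⟩
    have h1 := mem_centralizer_iff.mp hx.2 (k⁻¹ * j * k) (by simpa using hKM _ (inv_mem hk) j hj)
    calc j * (k * x * k⁻¹) = k * ((k⁻¹ * j * k) * x) * k⁻¹ := by group
      _ = k * (x * (k⁻¹ * j * k)) * k⁻¹ := by rw [h1]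
      _ = _ := by group
  haveI hCN : (C.subgroupOf M).Normal :=
    normal_subgroupOf_of_le_normalizer (H75.le_normalizer_of_conj hCn)
  have hLC : L ≤ C := by
    intro l hl
    refine mem_inf.mpr ⟨core1_le_right N M hl, mem_centralizer_iff.mpr fun k hk => ?_⟩
    have h1 : k * l * k⁻¹ * l⁻¹ ∈ K ⊓ L := mem_inf.mpr ⟨by
        rw [show k * l * k⁻¹ * l⁻¹ = k * (l * k⁻¹ * l⁻¹) by group]
        exact mul_mem hk (hKM l (core1_le_right N M hl) _ (inv_mem hk)),
      mul_mem (H75.conj_mem_of_mem_normalizer (le_normalizer_core1 N M (core1_le_right M N hk)) hl)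
        (inv_mem hl)⟩
    rw [hI, mem_bot, mul_inv_eq_one, mul_inv_eq_iff_eq_mul] at h1
    exact h1
  have hCD : ∀ x : ↥(N ⊓ M), (x : G) ∈ C → θ x = 1 := by
    intro x hx
    refine eq_one_of_commute_alt (by omega) fun z hz => ?_
    obtain ⟨v, hv, rfl⟩ := hθK hz
    have e : x * v = v * x :=
      Subtype.ext (mem_centralizer_iff.mp (mem_inf.mp hx).2 v (mem_subgroupOf.mp hv)).symm
    rw [← map_mul, e, map_mul]
  have hρL : (C.subgroupOf M).map ρ ≠ ⊥ := by
    intro e
    have hLK : L ≤ K := fun l hl => (hρ ⟨l, core1_le_right N M hl⟩).mp (by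
      rw [← mem_bot, ← e]
      exact mem_map_of_mem ρ (mem_subgroupOf.mpr (hLC hl)))
    have hLbot : L = ⊥ := by rw [← hI, inf_eq_right.mpr hLK]
    have h1 := relIndex_mul_card (core1_le_left N M)
    have h2 := relIndex_mul_card (core1_le_left M N)
    rw [← hL, hLbot, Subgroup.card_bot, one_mul, ← h.card_eq, ← h2] at h1
    have h3 := h.symm.range_le_factorial
    rw [← hL, hLbot, h1, ← hK] at h3
    have h4 : (d - 1)! ≤ 2 * Nat.card K := by
      rw [← alt_card (m := d - 1) (by omega)]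
      refine Nat.mul_le_mul_left 2 ((Subgroup.card_le_of_le hθK).trans ?_)
      refine (Nat.card_le_card_of_surjective (fun x : K.subgroupOf (N ⊓ M) =>
        (⟨θ x, mem_map_of_mem θ x.2⟩ : (K.subgroupOf (N ⊓ M)).map θ)) ?_).trans
        (le_of_eq (Comp.card_subgroupOf fun x hx => hKD hx))
      rintro ⟨_, v, hv, rfl⟩
      exact ⟨⟨v, hv⟩, rfl⟩
    have h5 := Nat.factorial_le (show 5 ≤ d - 1 by omega)
    norm_num [Nat.factorial] at h5
    have h6 : d ! ≤ 2 * K.relIndex M := hb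
    have hpos : 0 < d ! := Nat.factorial_pos d
    nlinarith
  have hρC : alternatingGroup (Fin d) ≤ (C.subgroupOf M).map ρ :=
    alt_le (by omega) (fun x hx w hw => by
      obtain ⟨u, rfl⟩ := hρA hx
      obtain ⟨v, hv, rfl⟩ := hw
      exact ⟨u * v * u⁻¹, hCN.conj_mem v hv u, by simp⟩) hρL
  have hsplit : ∀ m : M, ∃ δ : ↥(N ⊓ M), (m : G) * (δ : G)⁻¹ ∈ C := by
    intro m
    obtain ⟨s, hs, hsp⟩ := exists_alt_move (m := d) (by omega) p (ρ m p)
    obtain ⟨c, hc, rfl⟩ := hρC hs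
    refine ⟨⟨((c⁻¹ * m : M) : G), mem_inf.mpr ⟨(hp _).mp ?_, (c⁻¹ * m).2⟩⟩, ?_⟩
    · rw [map_mul, map_inv, Perm.mul_apply, Perm.inv_eq_iff_eq, hsp]
    · simpa [mul_assoc] using mem_subgroupOf.mp hc
  choose δ hδ using hsplit
  have hval : ∀ (m : M) (x : ↥(N ⊓ M)), (m : G) * (x : G)⁻¹ ∈ C → θ x = θ (δ m) := by
    intro m x hx
    have := hCD (δ m * x⁻¹) (by simpa [mul_assoc] using mul_mem (inv_mem (hδ m)) hx)
    rw [map_mul, map_inv, mul_inv_eq_one] at this
    exact this.symm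
  let η : M →* Perm (Fin (d - 1)) := MonoidHom.mk' (fun m => θ (δ m)) fun m1 m2 => by
    rw [← map_mul]
    refine (hval _ _ ?_).symm
    have h1 : ((δ m1 : ↥(N ⊓ M)) : G) * ((m2 : G) * (δ m2 : G)⁻¹) * (δ m1 : G)⁻¹ ∈ C :=
      hCn _ (mem_inf.mp (δ m1).2).2 _ (hδ m2)
    simpa [mul_assoc] using mul_mem (hδ m1) h1
  let e : M →* Perm (Fin d) × Perm (Fin (d - 1)) := ρ.prod η
  have hηK : ∀ x (hx : x ∈ K), η ⟨x, core1_le_left M N hx⟩ = θ ⟨x, hKD hx⟩ := fun x hx =>
    (hval ⟨x, core1_le_left M N hx⟩ ⟨x, hKD hx⟩ (by simp)).symm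
  have hinj : Function.Injective e := by
    rw [injective_iff_map_eq_one]
    intro m hm
    have h1 : ρ m = 1 := congrArg Prod.fst hm
    have h2 : η m = 1 := congrArg Prod.snd hm
    have hmK := (hρ m).mp h1
    exact Subtype.ext (hθinj _ hmK ((hηK _ hmK).symm.trans h2))
  have hP : (alternatingGroup (Fin d)).prod (alternatingGroup (Fin (d - 1))) ≤ e.range := by
    rintro ⟨σ, τ⟩ hx
    obtain ⟨c, hc, rfl⟩ := hρC (mem_prod.mp hx).1
    obtain ⟨k, hk, rfl⟩ := hθK (mem_prod.mp hx).2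
    have hk' : (k : G) ∈ K := mem_subgroupOf.mp hk
    refine ⟨c * ⟨k, core1_le_left M N hk'⟩, Prod.ext ?_ ?_⟩
    · show ρ (c * _) = ρ c
      rw [map_mul, (hρ ⟨(k : G), core1_le_left M N hk'⟩).mpr hk', mul_one]
    · show η (c * _) = θ k
      rw [map_mul, hηK _ hk', show η c = θ 1 from (hval c 1 (by simpa [mem_subgroupOf] using hc)).symm, map_one, one_mul]
  let E : M ≃* e.range := MonoidHom.ofInjective hinj
  have hcardρ : Nat.card ρ.range = K.relIndex M := by
    rw [← index_ker, show ρ.ker = K.subgroupOf M by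
      ext x; rw [MonoidHom.mem_ker, hρ, mem_subgroupOf]]
    rfl
  by_cases hev : ρ.range ≤ alternatingGroup (Fin d)
  · left
    have hρeq := le_antisymm hev hρA
    refine ⟨by rw [← hcardρ, hρeq, alt_card (by omega)], ?_⟩
    have hev' : ρ'.range ≤ alternatingGroup (Fin d) := by
      by_contra hodd
      obtain ⟨g, hg⟩ := h.conjugate
      let ι : M →* N := ((MulAut.conj g).toMonoidHom.comp M.subtype).codRestrict N fun x => by
        rw [hg]
        exact mem_map_of_mem _ x.2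
      have hι : Function.Surjective ι := fun y => by
        obtain ⟨x, hx, hxy⟩ := Subgroup.mem_map.mp ((hg ▸ y.2 : (y : G) ∈ cj g M))
        exact ⟨⟨x, hx⟩, Subtype.ext hxy⟩
      let f : M →* Perm (Fin d) := ρ'.comp ι
      have hf : f.range = ⊤ := by
        obtain ⟨z, hz, hzA⟩ := SetLike.not_le_iff_exists.mp hodd
        refine eq_top_iff.mpr fun x _ => ?_
        have hfA : ∀ w ∈ ρ'.range, w ∈ f.range := by
          rintro _ ⟨y, rfl⟩
          obtain ⟨w, rfl⟩ := hι y
          exact ⟨w, rfl⟩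
        by_cases hxA : x ∈ alternatingGroup (Fin d)
        · exact hfA _ (hρA' hxA)
        · have hxz : x * z⁻¹ ∈ alternatingGroup (Fin d) := by
            rw [Perm.mem_alternatingGroup] at hzA hxA ⊢
            rw [map_mul, map_inv, (Int.units_eq_one_or _).resolve_left hzA,
              (Int.units_eq_one_or _).resolve_left hxA]
            decide
          simpa using mul_mem (hfA _ (hρA' hxz)) (hfA _ hz)
      have hKN : (K.subgroupOf M).Normal := normal_subgroupOf_of_le_normalizer (le_normalizer_core1 M N)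
      have hdecomp : ∀ m : M, ∃ c k : M, (c : G) ∈ C ∧ (k : G) ∈ K ∧ m = c * k := by
        intro m
        obtain ⟨c, hc, hcm⟩ := hρC (hev ⟨m, rfl⟩)
        exact ⟨c, c⁻¹ * m, hc, (hρ _).mp (by rw [map_mul, map_inv, ← hcm, inv_mul_cancel]), by group⟩
      have hmap : ∀ Y : Subgroup M, Y.Normal → Y.map f ≠ ⊥ → alternatingGroup (Fin d) ≤ Y.map f :=
        fun Y hY hne => alt_le (by omega) (fun x _ w hw => by
          obtain ⟨u, rfl⟩ := (hf.ge : ⊤ ≤ f.range) (mem_top x)
          obtain ⟨v, hv, rfl⟩ := hw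
          exact ⟨u * v * u⁻¹, hY.conj_mem v hv u, by simp⟩) hne
      have hsmall : ∀ Y : Subgroup M, (∀ m, ∃ y ∈ Y, f m = f y) → d ! ≤ Nat.card Y := by
        intro Y hY
        have hs : Function.Surjective (fun y : Y => f y) := fun σ => by
          obtain ⟨m, rfl⟩ := (hf.ge : ⊤ ≤ f.range) (mem_top σ)
          obtain ⟨y, hy, e⟩ := hY m
          exact ⟨⟨y, hy⟩, e.symm⟩
        have := Nat.card_le_card_of_surjective _ hs
        rwa [Nat.card_perm, Nat.card_fin] at this
      by_cases hfK : (K.subgroupOf M).map f = ⊥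
      · have h1 := hsmall (C.subgroupOf M) fun m => by
          obtain ⟨c, k, hc, hk, rfl⟩ := hdecomp m
          refine ⟨c, hc, ?_⟩
          have : f k = 1 := by rw [← mem_bot, ← hfK]; exact mem_map_of_mem f (mem_subgroupOf.mpr hk)
          rw [map_mul, this, mul_one]
        have h2 : Nat.card (C.subgroupOf M) ≤ Nat.card (alternatingGroup (Fin d)) := by
          refine Nat.card_le_card_of_injective
            (fun c : C.subgroupOf M => (⟨ρ c, hev ⟨c, rfl⟩⟩ : alternatingGroup (Fin d))) fun x y exy => ?_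
          have exy' : ρ x = ρ y := congrArg Subtype.val exy
          have h3 : ((x : M) * (y : M)⁻¹ : M).1 ∈ K := (hρ _).mp (by rw [map_mul, map_inv, exy', mul_inv_cancel])
          have h4 : ((x : M) * (y : M)⁻¹ : M).1 ∈ C := mul_mem x.2 (inv_mem y.2)
          have h5 := hθinj _ h3 (hCD ⟨_, hKD h3⟩ h4)
          exact Subtype.ext (mul_inv_eq_one.mp (Subtype.ext h5 : (x : M) * (y : M)⁻¹ = 1))
        have h3 := alt_card (m := d) (by omega)
        have := Nat.factorial_pos d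
        omega
      by_cases hfC : (C.subgroupOf M).map f = ⊥
      · have h1 := hsmall (K.subgroupOf M) fun m => by
          obtain ⟨c, k, hc, hk, rfl⟩ := hdecomp m
          refine ⟨k, hk, ?_⟩
          have : f c = 1 := by rw [← mem_bot, ← hfC]; exact mem_map_of_mem f (mem_subgroupOf.mpr hc)
          rw [map_mul, this, one_mul]
        rw [Comp.card_subgroupOf (core1_le_left M N)] at h1
        have := Nat.mul_factorial_pred (show d ≠ 0 by omega)
        have := Nat.factorial_pos (d - 1)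
        nlinarith
      obtain ⟨x, hx, y, hy, hxy⟩ := alt_nonabelian (m := d) (by omega)
      obtain ⟨u, hu, rfl⟩ := hmap _ hKN hfK hx
      obtain ⟨v, hv, rfl⟩ := hmap _ hCN hfC hy
      apply hxy
      rw [← map_mul, ← map_mul]
      exact congrArg f (Subtype.ext (mem_centralizer_iff.mp (mem_inf.mp (mem_subgroupOf.mp hv)).2 u
        (mem_subgroupOf.mp hu)))
    have heq : e.range = (alternatingGroup (Fin d)).prod (alternatingGroup (Fin (d - 1))) := by
      refine le_antisymm ?_ hP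
      rintro _ ⟨m, rfl⟩
      refine mem_prod.mpr ⟨hev ⟨m, rfl⟩, Perm.mem_alternatingGroup.mpr ?_⟩
      show Perm.sign (θ (δ m)) = 1
      rw [hθs]
      exact Perm.mem_alternatingGroup.mp (hev' ⟨_, rfl⟩)
    exact ⟨E.trans ((MulEquiv.subgroupCongr heq).trans (Subgroup.prodEquiv _ _))⟩
  · right
    have hρtop : ρ.range = ⊤ := by
      obtain ⟨z, hz, hzA⟩ := SetLike.not_le_iff_exists.mp hev
      refine eq_top_iff.mpr fun x _ => ?_
      by_cases hxA : x ∈ alternatingGroup (Fin d)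
      · exact hρA hxA
      · have hxz : x * z⁻¹ ∈ alternatingGroup (Fin d) := by
          rw [Perm.mem_alternatingGroup] at hzA hxA ⊢
          rw [map_mul, map_inv, (Int.units_eq_one_or _).resolve_left hzA,
            (Int.units_eq_one_or _).resolve_left hxA]
          decide
        simpa using mul_mem (hρA hxz) hz
    refine ⟨by rw [← hcardρ, hρtop, Subgroup.card_top, Nat.card_perm, Nat.card_fin], ?_⟩
    have hfst : ∀ σ, ∃ τ, (σ, τ) ∈ e.range := fun σ => by
      obtain ⟨m, rfl⟩ := (hρtop.ge : ⊤ ≤ ρ.range) (mem_top σ)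
      exact ⟨η m, m, rfl⟩
    rcases three_cases hP hfst with hc | hc | hc
    · exact Or.inr (Or.inl ⟨E.trans ((MulEquiv.subgroupCongr hc).trans
        ((Subgroup.prodEquiv _ _).trans (Subgroup.topEquiv.prodCongr (MulEquiv.refl _))))⟩)
    · exact Or.inr (Or.inr ⟨E.trans (MulEquiv.subgroupCongr hc)⟩)
    · exact Or.inl ⟨E.trans ((MulEquiv.subgroupCongr hc).trans Subgroup.topEquiv)⟩

end H61.AltPair
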