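import Mathlib

/-!
The kernel of a stem extension whose Sylow images are cyclic for odd primes and of exponent two, order at most
four, for the prime two, has order at most two.
-/

set_option autoImplicit false

namespace H61.AltStem

open scoped commutatorElement

variable {Γ Q : Type*} [Group Γ] [Finite Γ] [Group Q] [Finite Q]

theorem pow_index_mem_commutator {p : ℕ} [Fact p.Prime] (P : Sylow p Γ) {z : Γ} (hzc : z ∈ Subgroup.center Γ)
    (hzd : z ∈ commutator Γ) :
    ∃ h : z ^ (P : Subgroup Γ).index ∈ (P : Subgroup Γ),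
      (⟨_, h⟩ : ↥(P : Subgroup Γ)) ∈ commutator ↥(P : Subgroup Γ) := by
  set ϕ : ↥(P : Subgroup Γ) →* Abelianization ↥(P : Subgroup Γ) := Abelianization.of
  have key : ∀ (n : ℕ) (g₀ : Γ), g₀⁻¹ * z ^ n * g₀ ∈ (P : Subgroup Γ) → g₀⁻¹ * z ^ n * g₀ = z ^ n := fun n g₀ _ => by
    rw [mul_assoc, ← Subgroup.mem_center_iff.1 (pow_mem hzc n) g₀, inv_mul_cancel_left]
  refine ⟨MonoidHom.transfer_eq_pow_aux z key, ?_⟩
  have h1 : MonoidHom.transfer ϕ z = 1 :=
    (Abelianization.commutator_subset_ker (MonoidHom.transfer ϕ)) hzd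
  rw [MonoidHom.transfer_eq_pow ϕ z key] at h1
  exact (QuotientGroup.eq_one_iff _).1 h1

theorem card_kernel_le_two_of_small (σ : Γ →* Q) (hZc : σ.ker ≤ Subgroup.center Γ) (hZd : σ.ker ≤ commutator Γ)
    (hodd : ∀ p : ℕ, p.Prime → p ≠ 2 → ¬ p ^ 2 ∣ Nat.card σ.range)
    (h8 : ¬ 2 ^ 3 ∣ Nat.card σ.range) (hexp : ∀ q ∈ σ.range, q ^ 4 = 1 → q ^ 2 = 1) :
    Nat.card σ.ker ≤ 2 := by
  classical
  have hz : ∀ z ∈ σ.ker, ∀ g, g * z = z * g := fun z hz g => Subgroup.mem_center_iff.1 (hZc hz) g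
  have hcard : ∀ (p : ℕ) [Fact p.Prime] (P : Sylow p Γ), ∃ e, Nat.card ((P : Subgroup Γ).map σ) = p ^ e ∧
      p ^ e ∣ Nat.card σ.range := by
    intro p _ P
    obtain ⟨e, he⟩ := (P.isPGroup'.map σ).exists_card_eq
    exact ⟨e, he, he ▸ Subgroup.card_dvd_of_le (fun x ⟨y, _, hy⟩ => ⟨y, hy⟩)⟩
  -- Sylow two
  haveI : Fact (Nat.Prime 2) := ⟨Nat.prime_two⟩
  obtain ⟨P⟩ := (inferInstance : Nonempty (Sylow 2 Γ))
  obtain ⟨e, he, hed⟩ := hcard 2 P
  have he2 : e ≤ 2 := by
    by_contra h
    exact h8 ((pow_dvd_pow 2 (by omega)).trans hed)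
  have hsq : ∀ a ∈ (P : Subgroup Γ), a ^ 2 ∈ σ.ker := fun a ha => by
    rw [MonoidHom.mem_ker, map_pow]
    refine hexp _ ⟨a, rfl⟩ ?_
    have h1 : (⟨σ a, ⟨a, ha, rfl⟩⟩ : ↥((P : Subgroup Γ).map σ)) ^ 4 = 1 := by
      apply orderOf_dvd_iff_pow_eq_one.1
      refine (orderOf_dvd_natCard _).trans ?_
      rw [he, show (4 : ℕ) = 2 ^ 2 by norm_num]
      exact pow_dvd_pow 2 he2
    exact congrArg Subtype.val h1
  obtain ⟨c, hc2, hcom⟩ : ∃ c : Γ, c ^ 2 = 1 ∧ ∀ a ∈ (P : Subgroup Γ), ∀ b ∈ (P : Subgroup Γ),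
      ⁅a, b⁆ = 1 ∨ ⁅a, b⁆ = c := by
    by_cases hab : ∀ a ∈ (P : Subgroup Γ), ∀ b ∈ (P : Subgroup Γ), ⁅a, b⁆ = 1
    · exact ⟨1, one_pow 2, fun a ha b hb => Or.inl (hab a ha b hb)⟩
    push Not at hab
    obtain ⟨a, ha, b, hb, hne⟩ := hab
    have hnc : a * b ≠ b * a := fun h => hne (commutatorElement_eq_one_iff_mul_comm.2 h)
    set K := (P : Subgroup Γ).map σ
    haveI : Fintype K := Fintype.ofFinite _
    have hinK : ∀ x ∈ (P : Subgroup Γ), σ x ∈ K := fun x hx => ⟨x, hx, rfl⟩
    have hcl : ∀ x ∈ (P : Subgroup Γ), ∀ y ∈ (P : Subgroup Γ), σ x * σ y = σ y * σ x := by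
      intro x hx y hy
      have e1 := MonoidHom.mem_ker.1 (hsq _ (mul_mem hx hy))
      have e2 := MonoidHom.mem_ker.1 (hsq x hx)
      have e3 := MonoidHom.mem_ker.1 (hsq y hy)
      rw [map_pow, map_mul, pow_two, mul_eq_one_iff_eq_inv, mul_inv_rev] at e1
      rw [map_pow, pow_two, mul_eq_one_iff_eq_inv] at e2 e3
      rw [e1, ← e2, ← e3]
    have hkerc : ⁅a, b⁆ ∈ σ.ker := by
      rw [MonoidHom.mem_ker, map_commutatorElement, commutatorElement_eq_one_iff_mul_comm, hcl a ha b hb]
    set c := ⁅a, b⁆ with hc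
    have hab' : a * b = c * (b * a) := by rw [hc, commutatorElement_def]; group
    have hc2 : c ^ 2 = 1 := by
      have h1 : a * b * a⁻¹ = c * b := by rw [hab']; group
      have h2 : (a * a) * b * (a * a)⁻¹ = b := by
        rw [← pow_two, ← hz _ (hsq a ha) b, mul_inv_cancel_right]
      have h3 : (a * a) * b * (a * a)⁻¹ = c * (c * b) := by
        calc (a * a) * b * (a * a)⁻¹ = a * (a * b * a⁻¹) * a⁻¹ := by group
          _ = (a * c) * (b * a⁻¹) := by rw [h1]; group
          _ = c * (a * b * a⁻¹) := by rw [hz _ hkerc a]; group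
          _ = c * (c * b) := by rw [h1]
      rw [pow_two]
      have := h2.symm.trans h3
      rw [← mul_assoc] at this
      exact mul_eq_right.1 this.symm
    refine ⟨c, hc2, ?_⟩
    let f : Fin 4 → K := ![1, ⟨σ a, hinK a ha⟩, ⟨σ b, hinK b hb⟩, ⟨σ (a * b), hinK _ (mul_mem ha hb)⟩]
    have hka : σ a ≠ 1 := fun h => hnc (hz a h b).symm
    have hkb : σ b ≠ 1 := fun h => hnc (hz b h a)
    have hkab : σ a ≠ σ b := fun h => hnc (by
      have hk : a⁻¹ * b ∈ σ.ker := by rw [MonoidHom.mem_ker, map_mul, map_inv, h, inv_mul_cancel]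
      calc a * b = a * (a * (a⁻¹ * b)) := by group
        _ = a * ((a⁻¹ * b) * a) := by rw [hz _ hk a]
        _ = b * a := by group)
    have hkab' : σ (a * b) ≠ 1 := fun h => hnc (by
      calc a * b = a⁻¹ * (a * (a * b)) := by group
        _ = a⁻¹ * ((a * b) * a) := by rw [hz _ h a]
        _ = b * a := by group)
    have hf : Function.Injective f := by
      intro i j h
      have h' := congrArg Subtype.val h
      fin_cases i <;> fin_cases j <;> first
        | rfl
        | (exfalso; simp [f, map_mul] at h'; first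
            | exact hka h'
            | exact hka h'.symm
            | exact hkb h'
            | exact hkb h'.symm
            | exact hkab h'
            | exact hkab h'.symm
            | exact hkab' (by rw [map_mul]; exact h')
            | exact hkab' (by rw [map_mul]; exact h'.symm))
        | (exfalso; simp [f, map_mul, hka, hkb] at h')
    have hsurj : Function.Surjective f :=
      (((Fintype.bijective_iff_injective_and_card f).2 ⟨hf, le_antisymm (Fintype.card_le_of_injective f hf) (by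
        rw [← Nat.card_eq_fintype_card, he, Fintype.card_fin, show (4 : ℕ) = 2 ^ 2 by norm_num]
        exact Nat.pow_le_pow_right (by norm_num) he2)⟩)).2
    have hrep : ∀ x ∈ (P : Subgroup Γ), ∃ i j : ℕ, i < 2 ∧ j < 2 ∧ ∃ z ∈ σ.ker, x = z * (a ^ i * b ^ j) := by
      intro x hx
      obtain ⟨k, hk⟩ := hsurj ⟨σ x, hinK x hx⟩
      have h' := congrArg Subtype.val hk
      fin_cases k <;> simp [f] at h'
      · exact ⟨0, 0, by norm_num, by norm_num, x, MonoidHom.mem_ker.2 h'.symm, by simp⟩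
      · exact ⟨1, 0, by norm_num, by norm_num, x * a⁻¹, by simp [MonoidHom.mem_ker, h'], by simp⟩
      · exact ⟨0, 1, by norm_num, by norm_num, x * b⁻¹, by simp [MonoidHom.mem_ker, h'], by simp⟩
      · exact ⟨1, 1, by norm_num, by norm_num, x * (a * b)⁻¹, by simp [MonoidHom.mem_ker, ← h', mul_assoc],
          by simp [mul_assoc]⟩
    have hcinv : c⁻¹ = c := inv_eq_of_mul_eq_one_right (by rw [← pow_two, hc2])
    have hcc : ∀ g, Commute c g := fun g => (hz _ hkerc g).symm
    have hba : ⁅b, a⁆ = c := by rw [← commutatorElement_inv, ← hc, hcinv]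
    have hl : ∀ u v w : Γ, ⁅u * v, w⁆ = u * ⁅v, w⁆ * u⁻¹ * ⁅u, w⁆ := fun u v w => by
      simp only [commutatorElement_def]; group
    have hr : ∀ u v w : Γ, ⁅u, v * w⁆ = ⁅u, v⁆ * (v * ⁅u, w⁆ * v⁻¹) := fun u v w => by
      simp only [commutatorElement_def]; group
    have hconj : ∀ g, g * c * g⁻¹ = c := fun g => by rw [← (hcc g).eq, mul_inv_cancel_right]
    intro x hx y hy
    obtain ⟨i, j, hi, hj, z, hzk, rfl⟩ := hrep x hx
    obtain ⟨i', j', hi', hj', z', hzk', rfl⟩ := hrep y hy
    have hz1 : ∀ g : Γ, ⁅z, g⁆ = 1 := fun g => commutatorElement_eq_one_iff_mul_comm.2 (hz z hzk g).symm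
    have hz2 : ∀ g : Γ, ⁅g, z'⁆ = 1 := fun g => commutatorElement_eq_one_iff_mul_comm.2 (hz z' hzk' g)
    rw [hl z, hz1, mul_one, hr _ z', hz2, one_mul]
    have hzz : ∀ g, g = 1 ∨ g = c → z * (z' * g * z'⁻¹) * z⁻¹ = 1 ∨ z * (z' * g * z'⁻¹) * z⁻¹ = c := by
      rintro g (rfl | rfl)
      · left; group
      · right; rw [hconj, hconj]
    apply hzz
    interval_cases i <;> interval_cases j <;> interval_cases i' <;> interval_cases j' <;>
      simp only [pow_zero, pow_one, one_mul, mul_one, commutatorElement_one_left, commutatorElement_one_right,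
        commutatorElement_self, hl, hr, ← hc, hba, hconj, mul_inv_cancel, true_or, or_true, inv_one] <;>
      first
        | exact Or.inl rfl
        | exact Or.inr rfl
        | exact Or.inl (by rw [← pow_two, hc2])
  -- the kernel
  have hprime : ∀ z ∈ σ.ker, ∀ p, p.Prime → orderOf z = p → p = 2 := by
    intro z hzk p hp ho
    by_contra h2
    haveI : Fact p.Prime := ⟨hp⟩
    obtain ⟨R⟩ := (inferInstance : Nonempty (Sylow p Γ))
    obtain ⟨k, hk, hkd⟩ := hcard p R
    have hk1 : k ≤ 1 := by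
      by_contra h
      exact hodd p hp h2 ((pow_dvd_pow p (by omega)).trans hkd)
    haveI : IsCyclic ((R : Subgroup Γ).map σ) := by
      rcases Nat.le_one_iff_eq_zero_or_eq_one.1 hk1 with rfl | rfl
      · haveI : Subsingleton ((R : Subgroup Γ).map σ) := (Nat.card_eq_one_iff_unique.1 (by simpa using hk)).1
        infer_instance
      · exact isCyclic_of_prime_card (by simpa using hk)
    have hR : ∀ a b : ↥(R : Subgroup Γ), a * b = b * a := by
      haveI : IsCyclic (σ.comp (R : Subgroup Γ).subtype).range := by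
        rw [MonoidHom.range_comp, Subgroup.range_subtype]; infer_instance
      exact commutative_of_cyclic_center_quotient (σ.comp (R : Subgroup Γ).subtype).rangeRestrict (fun a ha => by
        rw [Subgroup.mem_center_iff]
        intro b
        have : (a : Γ) ∈ σ.ker := by
          rw [MonoidHom.mem_ker]
          exact congrArg Subtype.val (MonoidHom.mem_ker.1 ha)
        exact Subtype.ext (hz _ this b))
    obtain ⟨h, hh⟩ := pow_index_mem_commutator R (hZc hzk) (hZd hzk)
    have hbot : commutator ↥(R : Subgroup Γ) = ⊥ := by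
      rw [commutator_def, Subgroup.commutator_eq_bot_iff_le_centralizer]
      intro a _ b _
      exact hR b a
    rw [hbot, Subgroup.mem_bot] at hh
    have h1 : z ^ (R : Subgroup Γ).index = 1 := congrArg Subtype.val hh
    rw [← orderOf_dvd_iff_pow_eq_one, ho] at h1
    exact R.not_dvd_index h1
  have hmem : ∀ z ∈ σ.ker, z = 1 ∨ z = c := by
    intro z hzk
    obtain ⟨h, hh⟩ := pow_index_mem_commutator P (hZc hzk) (hZd hzk)
    have hsub : ∀ x ∈ commutator ↥(P : Subgroup Γ), (x : Γ) ∈ Subgroup.zpowers c := by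
      intro x hx
      have hle : commutator ↥(P : Subgroup Γ) ≤ (Subgroup.zpowers c).comap (P : Subgroup Γ).subtype := by
        rw [commutator_def, Subgroup.commutator_le]
        intro a _ b _
        rw [Subgroup.mem_comap, map_commutatorElement]
        rcases hcom a a.2 b b.2 with e | e <;> simp only [Subgroup.coe_subtype, e]
        · exact one_mem _
        · exact Subgroup.mem_zpowers c
      exact hle hx
    set n := (P : Subgroup Γ).index with hn
    have hco : Nat.Coprime (orderOf z) n := by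
      refine Nat.coprime_of_dvd fun p hp hpz hpn => ?_
      obtain ⟨d, hd⟩ := hpz
      have ho : orderOf (z ^ d) = p := by
        have hpos := orderOf_pos z
        rw [orderOf_pow' z (by rintro rfl; rw [mul_zero] at hd; omega), hd, Nat.gcd_mul_left_left,
          Nat.mul_div_cancel _ (Nat.pos_of_ne_zero (by rintro rfl; rw [mul_zero] at hd; omega))]
      obtain rfl := hprime _ (pow_mem hzk d) p hp ho
      exact P.not_dvd_index hpn
    obtain ⟨m, hm⟩ := exists_pow_eq_self_of_coprime hco.symm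
    have hzc : z ∈ Subgroup.zpowers c := by
      rw [← hm]; exact pow_mem (hsub _ hh) m
    obtain ⟨t, rfl⟩ := Subgroup.mem_zpowers_iff.1 hzc
    rcases Int.even_or_odd t with ⟨s, hs⟩ | ⟨s, hs⟩
    · left
      subst hs
      rw [← two_mul, zpow_mul, zpow_two, ← pow_two, hc2, one_zpow]
    · right
      subst hs
      rw [zpow_add, zpow_mul, zpow_two, ← pow_two, hc2, one_zpow, one_mul, zpow_one]
  have : (σ.ker : Set Γ) ⊆ {1, c} := fun z hz => hmem z hz
  calc Nat.card σ.ker = (σ.ker : Set Γ).ncard := Nat.card_coe_set_eq _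
    _ ≤ ({1, c} : Set Γ).ncard := Set.ncard_le_ncard this (Set.toFinite _)
    _ ≤ 2 := (Set.ncard_insert_le _ _).trans (by rw [Set.ncard_singleton])

end H61.AltStem
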