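import Mathlib

set_option autoImplicit false

namespace H61

variable {G : Type*} [Group G]

/-- Complement from a complemented interval below a unique maximal overgroup. -/
theorem exists_compl_of_interval [Finite G] (T X M : Subgroup G)
    (hTX : T ≤ X) (hint : ∀ Y : Subgroup G, T ≤ Y → Y ≤ X → ∃ C : Subgroup G, T ≤ C ∧ C ≤ X ∧ Y ⊔ C = X ∧ Y ⊓ C = T)
    (huniq : ∀ M' : Subgroup G, IsCoatom M' → X ≤ M' → M' = M)
    (H : Subgroup G) (hH : ¬ H ≤ M) (hHT : H ⊓ T = ⊥) :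
    ∃ C : Subgroup G, H ⊔ C = ⊤ ∧ H ⊓ C = ⊥ := by
  obtain ⟨C, hTC, hCX, hsup, hinf⟩ :=
    hint ((H ⊓ X) ⊔ T) le_sup_right (sup_le inf_le_right hTX)
  refine ⟨C, ?_, ?_⟩
  · by_contra h
    obtain h' | ⟨M', hM', hle⟩ := eq_top_or_exists_le_coatom (H ⊔ C)
    · exact h h'
    · have hXM' : X ≤ M' := by
        rw [← hsup]
        exact sup_le (sup_le (inf_le_left.trans (le_sup_left.trans hle))
          ((hTC.trans le_sup_right).trans hle)) (le_sup_right.trans hle)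
      exact hH (huniq M' hM' hXM' ▸ le_sup_left.trans hle)
  · rw [eq_bot_iff, ← hHT]
    refine le_inf inf_le_left ?_
    rw [← hinf]
    exact le_inf ((le_inf inf_le_left (inf_le_right.trans hCX)).trans le_sup_left) inf_le_right

theorem interval_bot_of_complemented (X : Subgroup G) (hK : ComplementedLattice (Subgroup X)) :
    ∀ Y : Subgroup G, (⊥ : Subgroup G) ≤ Y → Y ≤ X →
      ∃ C : Subgroup G, ⊥ ≤ C ∧ C ≤ X ∧ Y ⊔ C = X ∧ Y ⊓ C = ⊥ := by
  intro Y _ hY
  obtain ⟨C, hC⟩ := hK.exists_isCompl (Y.subgroupOf X)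
  refine ⟨C.map X.subtype, bot_le, Subgroup.map_subtype_le C, ?_, ?_⟩
  · rw [← Subgroup.map_subgroupOf_eq_of_le hY, ← Subgroup.map_sup, hC.sup_eq_top,
      ← MonoidHom.range_eq_map, Subgroup.range_subtype]
  · rw [← Subgroup.map_subgroupOf_eq_of_le hY, ← Subgroup.map_inf _ _ _ X.subtype_injective,
      hC.inf_eq_bot, Subgroup.map_bot]

end H61
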