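import Cfsg.Agent.H61.CubicStruct

/-!
Adjacent modules do not commute.
-/

set_option autoImplicit false

namespace H61.Cubic

open MulAction
open scoped commutatorElement

variable {G Ω : Type*} [Group G] [MulAction G Ω]

/-- Walks of a given length. -/
def Walk (G : Type*) {Ω : Type*} [Group G] [MulAction G Ω] (a b : Ω) : ℕ → Ω → Ω → Prop
  | 0, x, y => x = y
  | k + 1, x, y => ∃ z, Nb G a b x z ∧ Walk G a b k z y

/-- The modules at `x` and `y` commute. -/
def Comm (G : Type*) {Ω : Type*} [Group G] [MulAction G Ω] (a b x y : Ω) : Prop :=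
  ∀ u ∈ Vmod G a b x, ∀ v ∈ Vmod G a b y, Commute u v

theorem Comm.symm {a b x y : Ω} (h : Comm G a b x y) : Comm G a b y x := fun u hu v hv => (h v hv u hu).symm

theorem walk_last {a b : Ω} : ∀ {k : ℕ} {x y : Ω},
    Walk G a b (k + 1) x y → ∃ w, Walk G a b k x w ∧ Nb G a b w y := by
  intro k
  induction k with
  | zero =>
    rintro x y ⟨z, hz, rfl⟩
    exact ⟨x, rfl, hz⟩
  | succ k ih =>
    rintro x y ⟨z, hz, hw⟩
    obtain ⟨w, h1, h2⟩ := ih hw
    exact ⟨w, ⟨z, hz, h1⟩, h2⟩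

theorem walk_snoc {a b : Ω} : ∀ {k : ℕ} {x y w : Ω},
    Walk G a b k x y → Nb G a b y w → Walk G a b (k + 1) x w := by
  intro k
  induction k with
  | zero => rintro x y w rfl h; exact ⟨w, h, rfl⟩
  | succ k ih => rintro x y w ⟨z, hz, hw⟩ h; exact ⟨z, hz, ih hw h⟩

section Setting

variable [Finite G] [FaithfulSMul G Ω] {a b : Ω} (S : Setup G a b)
include S

theorem comm_translate {x y : Ω} (g : G) (h : Comm G a b x y) : Comm G a b (g • x) (g • y) := by
  intro u hu v hv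
  have h1 := conj_mem_V S g⁻¹ hu
  have h2 := conj_mem_V S g⁻¹ hv
  rw [inv_smul_smul] at h1 h2
  have := (h _ h1 _ h2).map (MulAut.conj g).toMonoidHom
  simpa [mul_assoc] using this

theorem exists_walk (x : Ω) : ∃ k, Walk G a b k a x := by
  haveI := S.prim
  let B : Set Ω := {z | Relation.ReflTransGen (Nb G a b) a z}
  have hsym : ∀ p q, Relation.ReflTransGen (Nb G a b) p q → Relation.ReflTransGen (Nb G a b) q p :=
    fun p q h => h.head_induction_on Relation.ReflTransGen.refl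
      (fun {p' q'} h' _ ih => ih.tail (nb_symm h'))
  have hB : MulAction.IsBlock G B := by
    rw [MulAction.isBlock_iff_smul_eq_of_nonempty]
    intro g ⟨z, hz1, hz2⟩
    obtain ⟨w, hw, hwz⟩ := Set.mem_smul_set.mp hz1
    have htr : ∀ (h : G) p q, Relation.ReflTransGen (Nb G a b) p q →
        Relation.ReflTransGen (Nb G a b) (h • p) (h • q) := fun h p q hpq =>
      Relation.ReflTransGen.lift (fun p => h • p) (fun p q => nb_translate S h) p q hpq
    have h1 : Relation.ReflTransGen (Nb G a b) a (g • a) := by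
      have := htr g w a (hsym a w hw)
      rw [hwz] at this
      exact Relation.ReflTransGen.trans hz2 this
    ext q
    rw [Set.mem_smul_set]
    constructor
    · rintro ⟨p, hp, rfl⟩
      exact h1.trans (htr g a p hp)
    · intro hq
      refine ⟨g⁻¹ • q, ?_, smul_inv_smul g q⟩
      have := htr g⁻¹ (g • a) q ((hsym a (g • a) h1).trans hq)
      rwa [inv_smul_smul] at this
  have hnt : ¬ B.Subsingleton := fun h => ne_of_nb S (Or.inl ⟨1, one_smul G a, one_smul G b⟩)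
    (h Relation.ReflTransGen.refl (Relation.ReflTransGen.single (Or.inl ⟨1, one_smul G a, one_smul G b⟩)))
  have hx : x ∈ B := by
    rcases IsPreprimitive.isTrivialBlock_of_isBlock hB with h | h
    · exact absurd h hnt
    · exact h ▸ Set.mem_univ x
  induction hx with
  | refl => exact ⟨0, rfl⟩
  | tail _ h ih => obtain ⟨k, hk⟩ := ih; exact ⟨k + 1, walk_snoc hk h⟩

variable (hne : Dd G a b ≠ ⊥) (hB : NoCent G a b)
include hne hB

theorem exists_noncomm : ∃ k x y, Walk G a b k x y ∧ ¬ Comm G a b x y := by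
  by_contra hc
  push Not at hc
  obtain ⟨v, hv, hv1⟩ := V_ne_bot S hne hB a
  refine hv1 (eq_of_smul_eq_smul (α := Ω) fun x => ?_)
  obtain ⟨k, hk⟩ := exists_walk S x
  rw [one_smul]
  exact (mem_Ker.mp (le_Ker_of_comm S hne hB (hc k a x hk) hv)).1

theorem comm_self (x : Ω) : Comm G a b x x := fun _ hu _ hv =>
  V_comm S hne hB hu (V_le_Ker S hne hB x hv)

theorem transvection {x x' y y' : Ω} (hx : Nb G a b x x') (hy : Nb G a b y y')
    (h1 : Vmod G a b y ≤ Ker G a b x') (h2 : Vmod G a b x ≤ Ker G a b y') (hnc : ¬ Comm G a b x y)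
    {z z' : Ω} (hz : Nb G a b z z') {v v' : G} (hv : v ∈ Vmod G a b z) (hv' : v' ∈ Vmod G a b z)
    (hvn : v ∉ OC (Dd G z z')) (hvn' : v' ∉ OC (Dd G z z')) : v⁻¹ * v' ∈ OC (Dd G z z') := by
  obtain ⟨g, hg, hgD⟩ := exists_move S hx hz
  simp only [Comm, not_forall] at hnc
  obtain ⟨v0, hv0, t, ht, hc⟩ := hnc
  have htD : t ∈ Dd G x x' := by
    rw [Dd_comm]; exact Ker_le_Dd S (nb_symm hx) (h1 ht)
  have htk : t ∉ Ker G a b x := fun h => hc (V_comm S hne hB hv0 h)
  have key : ∀ {u}, u ∈ Vmod G a b z → u ∉ OC (Dd G z z') →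
      g⁻¹ * u * g ∈ Vmod G a b x ∧ ¬ Commute (g⁻¹ * u * g) t := by
    intro u hu hun
    have h1' : g⁻¹ * u * g ∈ Vmod G a b x := by
      have := conj_mem_V S g⁻¹ hu
      rwa [← hg, inv_smul_smul, inv_inv] at this
    refine ⟨h1', fun hcm => hun ?_⟩
    have := conj_mem_OC g hgD (mem_OC_of_comm S hne hB hx h1' htD htk hcm)
    simpa [mul_assoc] using this
  obtain ⟨a1, a2⟩ := key hv hvn
  obtain ⟨b1, b2⟩ := key hv' hvn'
  have hk : (g⁻¹ * v * g)⁻¹ * (g⁻¹ * v' * g) ∈ Ker G a b y :=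
    mul_mem_Ker S hy (by rw [Dd_comm]; exact Ker_le_Dd S (nb_symm hy) (h2 a1))
      (by rw [Dd_comm]; exact Ker_le_Dd S (nb_symm hy) (h2 b1))
      (fun h => a2 (V_comm S hne hB ht h).symm) (fun h => b2 (V_comm S hne hB ht h).symm)
  have hmem := mem_OC_of_comm S hne hB hx (mul_mem (inv_mem a1) b1) htD htk (V_comm S hne hB ht hk).symm
  have := conj_mem_OC g hgD hmem
  simpa [mul_assoc] using this

/-- The fixed subgroup of a transvection on each module has index two. -/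
def Transv (G : Type*) {Ω : Type*} [Group G] [MulAction G Ω] (a b : Ω) : Prop :=
  ∀ z z' : Ω, Nb G a b z z' → ∀ v ∈ Vmod G a b z, ∀ v' ∈ Vmod G a b z,
    v ∉ OC (Dd G z z') → v' ∉ OC (Dd G z z') → v⁻¹ * v' ∈ OC (Dd G z z')

variable (hP : Transv G a b)
include hP

omit hP in
theorem mem_W {x y y' : Ω} (h : Nb G a b x y) (h' : Nb G a b x y') (hd : Dd G x y ≠ Dd G x y')
    {z : G} (h1 : z ∈ OC (Dd G x y)) (h2 : z ∈ OC (Dd G x y')) : z ∈ Wfix G a b x := by
  obtain ⟨t, ht, ht'⟩ : ∃ t ∈ Dd G x y', t ∉ Dd G x y := by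
    by_contra hc
    push Not at hc
    exact hd (Subgroup.eq_of_le_of_card_ge hc (by rw [card_Dd S h, card_Dd S h'])).symm
  have hle : stabilizer G x ≤ Subgroup.centralizer ({z} : Set G) :=
    stab_le_of_mem S h (fun d hd => Subgroup.mem_centralizer_singleton_iff.mpr (h1.2.2 d hd).eq.symm) ht.1 ht'
      (Subgroup.mem_centralizer_singleton_iff.mpr (h2.2.2 t ht).eq.symm)
  exact ⟨OC_le_V S h h1, Subgroup.mem_centralizer_iff.mpr fun m hm =>
    Subgroup.mem_centralizer_singleton_iff.mp (hle hm)⟩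

omit hP in
theorem W_comm {x : Ω} {w m : G} (hw : w ∈ Wfix G a b x) (hm : m • x = x) : Commute w m :=
  (Subgroup.mem_centralizer_iff.mp hw.2 m hm).symm

omit hP in
theorem W_le_OC {x y : Ω} (h : Nb G a b x y) {w : G} (hw : w ∈ Wfix G a b x) : w ∈ OC (Dd G x y) :=
  ⟨Ker_le_Dd S h (V_le_Ker S hne hB x hw.1), V_sq S hne hB hw.1, fun _ hd => W_comm S hne hB hw hd.1⟩

omit hP in
theorem W_inter {x y : Ω} (h : Nb G a b x y) {w : G} (hx : w ∈ Wfix G a b x) (hy : w ∈ Wfix G a b y) :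
    w = 1 := by
  have := eq_bot_of_normalized S h (X := Wfix G a b x ⊓ Wfix G a b y)
    (fun z hz => (mem_Ker.mp (V_le_Ker S hne hB x hz.1.1)).1)
    (fun m hm z hz => by rwa [← (W_comm S hne hB hz.1 hm).eq, mul_inv_cancel_right])
    (fun m hm z hz => by rwa [← (W_comm S hne hB hz.2 hm).eq, mul_inv_cancel_right])
  exact Subgroup.mem_bot.mp (this ▸ ⟨hx, hy⟩)

theorem W_index {x y : Ω} (h : Nb G a b x y) {u u' : G} (hu : u ∈ OC (Dd G x y)) (hu' : u' ∈ OC (Dd G x y))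
    (hn : u ∉ Wfix G a b x) (hn' : u' ∉ Wfix G a b x) : u⁻¹ * u' ∈ Wfix G a b x := by
  obtain ⟨m, hm, hd⟩ := exists_ne_conj S hne h h
  have h2 : Nb G a b x (m • y) := by
    have := nb_translate S m h
    rwa [hm] at this
  exact mem_W S hne hB h h2 hd.symm (mul_mem (inv_mem hu) hu')
    (hP x _ h2 u (OC_le_V S h hu) u' (OC_le_V S h hu') (fun c => hn (mem_W S hne hB h h2 hd.symm hu c))
      (fun c => hn' (mem_W S hne hB h h2 hd.symm hu' c)))

theorem W_two {x : Ω} {u u' : G} (hu : u ∈ Wfix G a b x) (hu' : u' ∈ Wfix G a b x) (h1 : u ≠ 1)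
    (h1' : u' ≠ 1) : u = u' := by
  obtain ⟨y, hy⟩ := exists_nb S x
  have h3 : u⁻¹ * u' ∈ Wfix G a b y :=
    W_index S hne hB hP (nb_symm hy) (by rw [Dd_comm]; exact W_le_OC S hne hB hy hu)
      (by rw [Dd_comm]; exact W_le_OC S hne hB hy hu')
      (fun c => h1 (W_inter S hne hB hy hu c)) (fun c => h1' (W_inter S hne hB hy hu' c))
  exact inv_mul_eq_one.mp (W_inter S hne hB hy (mul_mem (inv_mem hu) hu') h3)

theorem comm_eq {x z : Ω} (h : Nb G a b x z) {v v' d d' : G} (hv : v ∈ Vmod G a b x)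
    (hv' : v' ∈ Vmod G a b x) (hd : d ∈ Dd G x z) (hd' : d' ∈ Dd G x z) (h1 : ⁅v, d⁆ ≠ 1)
    (h2 : ⁅v', d'⁆ ≠ 1) : ⁅v, d⁆ = ⁅v', d'⁆ := by
  rw [Ne, commutatorElement_eq_one_iff_commute] at h1 h2
  have hk := mul_mem_Ker S h hd hd' (fun c => h1 (V_comm S hne hB hv c)) (fun c => h2 (V_comm S hne hB hv' c))
  have hz := hP x z h v hv v' hv' (fun c => h1 (c.2.2 d hd)) (fun c => h2 (c.2.2 d' hd'))
  have e1 := (V_comm S hne hB hv' hk).eq
  have e2 := (hz.2.2 d hd).eq
  symm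
  calc ⁅v', d'⁆ = v' * d * (d⁻¹ * d') * v'⁻¹ * (d⁻¹ * d')⁻¹ * d⁻¹ := by rw [commutatorElement_def]; group
    _ = v' * d * ((d⁻¹ * d') * v'⁻¹) * (d⁻¹ * d')⁻¹ * d⁻¹ := by group
    _ = v' * d * (v'⁻¹ * (d⁻¹ * d')) * (d⁻¹ * d')⁻¹ * d⁻¹ := by
      rw [show (d⁻¹ * d') * v'⁻¹ = v'⁻¹ * (d⁻¹ * d') from ((V_comm S hne hB hv' hk).inv_left.eq).symm]
    _ = v * ((v⁻¹ * v') * d) * v'⁻¹ * d⁻¹ := by group
    _ = v * (d * (v⁻¹ * v')) * v'⁻¹ * d⁻¹ := by rw [e2]
    _ = ⁅v, d⁆ := by rw [commutatorElement_def]; group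

omit hP in
theorem comm_mem {x z : Ω} (h : Nb G a b x z) {v d : G} (hv : v ∈ Vmod G a b x) (hd : d ∈ Dd G x z) :
    ⁅v, d⁆ ∈ OC (Dd G x z) := by
  by_cases hk : d ∈ Ker G a b x
  · rw [commutatorElement_eq_one_iff_commute.mpr (V_comm S hne hB hv hk)]
    exact one_mem _
  have hw : d * v * d⁻¹ ∈ Vmod G a b x := by
    have := conj_mem_V S d hv
    rwa [hd.1] at this
  have hc : ⁅v, d⁆ = v * (d * v * d⁻¹) := by
    rw [commutatorElement_def]
    have e := V_inv S hne hB hv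
    calc v * d * v⁻¹ * d⁻¹ = v * (d * v⁻¹ * d⁻¹) := by group
      _ = v * (d * v * d⁻¹) := by rw [e]
  refine mem_OC_of_comm S hne hB h (hc ▸ mul_mem hv hw) hd hk ?_
  rw [hc]
  have e1 := (V_comm S hne hB hv (sq_mem_Ker S h hd)).eq
  have e2 := (V_comm S hne hB hv (V_le_Ker S hne hB x hw)).eq
  have e3 : d * (v * (d * v * d⁻¹)) * d⁻¹ = v * (d * v * d⁻¹) := by
    calc d * (v * (d * v * d⁻¹)) * d⁻¹ = (d * v * d⁻¹) * ((d * d) * v) * (d * d)⁻¹ := by group
      _ = (d * v * d⁻¹) * (v * (d * d)) * (d * d)⁻¹ := by rw [← e1]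
      _ = (d * v * d⁻¹) * v := by group
      _ = v * (d * v * d⁻¹) := e2.symm
  show v * (d * v * d⁻¹) * d = d * (v * (d * v * d⁻¹))
  calc v * (d * v * d⁻¹) * d = d * (v * (d * v * d⁻¹)) * d⁻¹ * d := by rw [e3]
    _ = d * (v * (d * v * d⁻¹)) := by group

theorem exists_comm_ne {x y : Ω} (h : Nb G a b x y) : ∃ v ∈ Vmod G a b x, ∃ d ∈ Dd G x y, ⁅v, d⁆ ≠ 1 := by
  by_contra hc
  push Not at hc
  have hle : ∀ v ∈ Vmod G a b x, v ∈ OC (Dd G x y) := fun v hv =>
    ⟨Ker_le_Dd S h (V_le_Ker S hne hB x hv), V_sq S hne hB hv,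
      fun d hd => commutatorElement_eq_one_iff_commute.mp (hc v hv d hd)⟩
  obtain ⟨m, hm, hd⟩ := exists_ne_conj S hne h h
  have h2 : Nb G a b x (m • y) := by
    have := nb_translate S m h
    rwa [hm] at this
  refine OC_not_central S hne hB h fun z hz k hk => ?_
  have hz' : m⁻¹ * z * m ∈ Vmod G a b x := by
    have := conj_mem_V S m⁻¹ (OC_le_V S h hz)
    rwa [inv_smul_eq_iff.mpr hm.symm, inv_inv] at this
  have h3 := conj_mem_OC m (conj_mem_iff_Dd m x y) (hle _ hz')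
  rw [hm] at h3
  have h4 : z ∈ OC (Dd G x (m • y)) := by simpa [mul_assoc] using h3
  exact (W_comm S hne hB (mem_W S hne hB h h2 hd.symm hz h4) hk).symm

omit hP in
theorem W_determines {x x' : Ω} {w : G} (hw : w ∈ Wfix G a b x) (hw' : w ∈ Wfix G a b x') (h1 : w ≠ 1) :
    x = x' := by
  haveI := S.prim
  haveI : Nontrivial Ω := ⟨x, _, ne_of_nb S (exists_nb S x).choose_spec⟩
  refine (eq_of_stab_eq S fun m hm => ?_).symm
  by_contra hmx
  have hle : ∀ {p : Ω}, w ∈ Wfix G a b p → stabilizer G p ≤ Subgroup.centralizer ({w} : Set G) :=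
    fun hp k hk => Subgroup.mem_centralizer_singleton_iff.mpr (W_comm S hne hB hp hk).eq.symm
  have htop : Subgroup.centralizer ({w} : Set G) = ⊤ :=
    (IsPreprimitive.isCoatom_stabilizer_of_isPreprimitive G x).2 _
      (lt_of_le_of_ne (hle hw) fun e => hmx (e.ge (hle hw' hm)))
  haveI : (Subgroup.zpowers w).Normal := ⟨fun k hk g => by
    obtain ⟨i, rfl⟩ := Subgroup.mem_zpowers_iff.mp hk
    have : Commute g w := Subgroup.mem_centralizer_singleton_iff.mp (htop ▸ Subgroup.mem_top g)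
    rw [(this.zpow_right i).eq, mul_inv_cancel_right]
    exact hk⟩
  have := H61.normal_eq_bot_of_le_stabilizer (Subgroup.zpowers w) x
    (Subgroup.zpowers_le.mpr (mem_Ker.mp (V_le_Ker S hne hB x hw.1)).1)
  exact h1 (Subgroup.zpowers_eq_bot.mp this)

section NotAdjacent

variable {k : ℕ} (hk : 2 ≤ k) (hmin : ∀ j < k, ∀ x y, Walk G a b j x y → Comm G a b x y)
variable {x0 xk : Ω} (hw : Walk G a b k x0 xk) (hnc : ¬ Comm G a b x0 xk)
include hk hmin hw hnc

theorem comm_in_W {x1 z : Ω} (h1 : Nb G a b x0 x1) (hw1 : Walk G a b (k - 1) x1 xk)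
    (hz : Nb G a b z x0) (hzd : Dd G x0 z ≠ Dd G x0 x1) :
    ∀ v ∈ Vmod G a b z, ∀ d ∈ Dd G z x0, ⁅v, d⁆ ∈ Wfix G a b x0 := by
  obtain ⟨j, rfl⟩ : ∃ j, k = j + 2 := ⟨k - 2, by omega⟩
  obtain ⟨xl, hwl, hlk⟩ := walk_last hw
  obtain ⟨x2', hw2, h2l⟩ := walk_last hwl
  simp only [Comm, not_forall] at hnc
  obtain ⟨v0, hv0, t, ht, hc⟩ := hnc
  have htK : t ∈ Ker G a b x1 := le_Ker_of_comm S hne hB (hmin _ (by omega) _ _ hw1).symm ht
  have htD : t ∈ Dd G x0 x1 := by rw [Dd_comm]; exact Ker_le_Dd S (nb_symm h1) htK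
  have htk : t ∉ Ker G a b x0 := fun h => hc (V_comm S hne hB hv0 h)
  have h0l : Vmod G a b x0 ≤ Ker G a b xl := le_Ker_of_comm S hne hB (hmin _ (by omega) _ _ hwl)
  have hl0 : Vmod G a b xl ≤ Ker G a b x0 := le_Ker_of_comm S hne hB (hmin _ (by omega) _ _ hwl).symm
  have hz0 : Comm G a b z x0 := hmin 1 (by omega) _ _ ⟨x0, hz, rfl⟩
  have concl : ∀ r, r ≠ 1 → r ∈ Wfix G a b x0 → (∃ v ∈ Vmod G a b z, ∃ d ∈ Dd G z x0, ⁅v, d⁆ = r) →
      ∀ v ∈ Vmod G a b z, ∀ d ∈ Dd G z x0, ⁅v, d⁆ ∈ Wfix G a b x0 := by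
    rintro r hr1 hrW ⟨v', hv', d', hd', hr⟩ v hv d hd
    by_cases h : ⁅v, d⁆ = 1
    · rw [h]; exact one_mem _
    · rw [comm_eq S hne hB hP hz hv hv' hd hd' h (hr ▸ hr1), hr]; exact hrW
  by_cases hzl : Comm G a b z xl
  · -- the first case: `V z` normalises `V xk`
    have hzK : Vmod G a b z ≤ Ker G a b xl := le_Ker_of_comm S hne hB hzl
    have hR0 : ⁅v0, t⁆ ∈ Vmod G a b x0 := OC_le_V S h1 (comm_mem S hne hB h1 hv0 htD)
    have htU : ∀ v ∈ Vmod G a b z, ⁅v, t⁆ ∈ Vmod G a b x0 := by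
      intro v hv
      by_cases h : ⁅v, t⁆ = 1
      · rw [h]; exact one_mem _
      have h' : ⁅t, v⁆ ≠ 1 := fun e => h (by rw [← commutatorElement_inv, e, inv_one])
      have h0' : ⁅t, v0⁆ ≠ 1 := fun e => hc (commutatorElement_eq_one_iff_commute.mp e).symm
      have e := comm_eq S hne hB hP (nb_symm hlk) ht ht
        (by rw [Dd_comm]; exact Ker_le_Dd S hlk (hzK hv))
        (by rw [Dd_comm]; exact Ker_le_Dd S hlk (h0l hv0)) h' h0'
      rw [← commutatorElement_inv, e, commutatorElement_inv]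
      exact hR0
    have hmemU : ∀ u ∈ Vmod G a b z ⊔ Vmod G a b x0, ∃ v ∈ Vmod G a b z, ∃ w ∈ Vmod G a b x0, v * w = u := by
      intro u hu
      have hn : Vmod G a b z ≤ Subgroup.normalizer (Vmod G a b x0 : Set G) := fun v hv => by
        rw [Subgroup.mem_normalizer_iff]
        intro w
        constructor
        · intro hw'
          rwa [(hz0 v hv w hw').eq, mul_inv_cancel_right]
        · intro hw'
          have e := (hz0 v hv _ hw').eq
          have : w = v * w * v⁻¹ := by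
            have e' : v * (v * w * v⁻¹) = v * w := by rw [e]; group
            exact (mul_left_cancel e').symm
          rwa [this]
      have hu' : u ∈ ((Vmod G a b z ⊔ Vmod G a b x0 : Subgroup G) : Set G) := hu
      rw [Subgroup.coe_mul_of_left_le_normalizer_right _ _ hn] at hu'
      exact Set.mem_mul.mp hu'
    let N := Subgroup.normalizer ((Vmod G a b z ⊔ Vmod G a b x0 : Subgroup G) : Set G)
    have hN : ∀ m : G, (∀ v ∈ Vmod G a b z, m * v * m⁻¹ ∈ Vmod G a b z ⊔ Vmod G a b x0) →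
        m • x0 = x0 → m ∈ N := by
      intro m h1m h2m
      have hsub : ∀ u ∈ Vmod G a b z ⊔ Vmod G a b x0, m * u * m⁻¹ ∈ Vmod G a b z ⊔ Vmod G a b x0 := by
        intro u hu
        obtain ⟨v, hv, w, hw', rfl⟩ := hmemU u hu
        have : m * w * m⁻¹ ∈ Vmod G a b x0 := by
          have := conj_mem_V S m hw'
          rwa [h2m] at this
        simpa [mul_assoc] using mul_mem (h1m v hv) (Subgroup.mem_sup_right this)
      exact Subgroup.mem_normalizer_fintype hsub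
    have htN : t ∈ N := by
      refine hN t (fun v hv => ?_) htD.1
      have : t * v * t⁻¹ = ⁅v, t⁆⁻¹ * v := by rw [commutatorElement_def]; group
      rw [this]
      exact mul_mem (Subgroup.mem_sup_right (inv_mem (htU v hv))) (Subgroup.mem_sup_left hv)
    have hDN : Dd G x0 z ≤ N := fun d hd => hN d (fun v hv => Subgroup.mem_sup_left (by
      have := conj_mem_V S d hv
      rwa [hd.2] at this)) hd.1
    have hall : stabilizer G x0 ≤ N :=
      stab_le_of_mem S (nb_symm hz) hDN htD.1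
        (fun h => htk (inf_le_Ker S hne (nb_symm hz) h1 hzd h htD)) htN
    obtain ⟨v, hv, c, hcK, hvc⟩ : ∃ v ∈ Vmod G a b z, ∃ c ∈ Ker G a b x0, ⁅v, c⁆ ≠ 1 := by
      by_contra hall'
      push Not at hall'
      have hle : Ker G a b x0 ≤ Ker G a b z := fun c hc' =>
        cent_V S hne hB (mem_Ker.mp hc' |>.2 z (nb_symm hz))
          fun v hv => (commutatorElement_eq_one_iff_commute.mp (hall' v hv c hc')).symm
      have hcard : ∀ p q : Ω, Nat.card (Ker G a b p) ≤ Nat.card (Ker G a b q) := fun p q => by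
        obtain ⟨g, rfl⟩ := smul_surj S p q
        exact Nat.card_le_card_of_injective (fun c => ⟨g * c.1 * g⁻¹, conj_mem_Ker S g c.2⟩) fun u v huv => by
          have e : g * u.1 * g⁻¹ = g * v.1 * g⁻¹ := congrArg Subtype.val huv
          exact Subtype.ext (mul_left_cancel (mul_right_cancel e))
      have heq := Subgroup.eq_of_le_of_card_ge hle (hcard z x0)
      have hbot := eq_bot_of_normalized S (nb_symm hz) (X := Ker G a b x0)
        (fun c hc' => (mem_Ker.mp hc').1) (fun m hm c hc' => by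
          have := conj_mem_Ker S m hc'
          rwa [hm] at this)
        (fun m hm c hc' => by
          rw [heq] at hc' ⊢
          have := conj_mem_Ker S m hc'
          rwa [hm] at this)
      obtain ⟨v, hv, hv1⟩ := V_ne_bot S hne hB x0
      exact hv1 (Subgroup.mem_bot.mp (hbot ▸ V_le_Ker S hne hB x0 hv))
    have hcD : c ∈ Dd G z x0 := by rw [Dd_comm]; exact Ker_le_Dd S (nb_symm hz) hcK
    have hval : ∀ u ∈ Vmod G a b z ⊔ Vmod G a b x0, ∀ c' ∈ Ker G a b x0, ⁅u, c'⁆ = 1 ∨ ⁅u, c'⁆ = ⁅v, c⁆ := by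
      intro u hu c' hc'
      obtain ⟨v', hv', w, hw', rfl⟩ := hmemU u hu
      have e : ⁅v' * w, c'⁆ = ⁅v', c'⁆ := by
        have hwc := (V_comm S hne hB hw' hc').eq
        calc ⁅v' * w, c'⁆ = v' * (w * c') * w⁻¹ * v'⁻¹ * c'⁻¹ := by rw [commutatorElement_def]; group
          _ = v' * (c' * w) * w⁻¹ * v'⁻¹ * c'⁻¹ := by rw [hwc]
          _ = ⁅v', c'⁆ := by rw [commutatorElement_def]; group
      rw [e]
      by_cases h : ⁅v', c'⁆ = 1
      · exact Or.inl h
      · exact Or.inr (comm_eq S hne hB hP hz hv' hv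
          (by rw [Dd_comm]; exact Ker_le_Dd S (nb_symm hz) hc') hcD h hvc)
    refine concl _ hvc ⟨?_, Subgroup.mem_centralizer_iff.mpr fun m hm => ?_⟩ ⟨v, hv, c, hcD, rfl⟩
    · exact OC_le_V S (nb_symm hz) (by rw [Dd_comm]; exact comm_mem S hne hB hz hv hcD)
    · have hu : m * v * m⁻¹ ∈ Vmod G a b z ⊔ Vmod G a b x0 :=
        (Subgroup.mem_normalizer_iff.mp (hall hm) v).mp (Subgroup.mem_sup_left hv)
      have hc'' : m * c * m⁻¹ ∈ Ker G a b x0 := by
        have := conj_mem_Ker S m hcK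
        rwa [mem_stabilizer_iff.mp hm] at this
      have e : ⁅m * v * m⁻¹, m * c * m⁻¹⁆ = m * ⁅v, c⁆ * m⁻¹ := by
        simp only [commutatorElement_def]; group
      rcases hval _ hu _ hc'' with h | h
      · rw [e] at h
        exact absurd (conj_eq_one_iff.mp h) hvc
      · rw [e] at h
        calc m * ⁅v, c⁆ = m * ⁅v, c⁆ * m⁻¹ * m := by group
          _ = ⁅v, c⁆ * m := by rw [h]
  · -- the second case: a new noncommuting pair
    simp only [Comm, not_forall] at hzl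
    obtain ⟨v, hv, t', ht', hc'⟩ := hzl
    have ht'D : t' ∈ Dd G z x0 := by rw [Dd_comm]; exact Ker_le_Dd S (nb_symm hz) (hl0 ht')
    have hvl : v • xl = xl := by
      have := le_Ker_of_comm S hne hB (hmin (j + 1) (by omega) z x2' ⟨x0, hz, hw2⟩) hv
      exact (mem_Ker.mp this).2 xl h2l
    have hrl : ⁅v, t'⁆ ∈ Vmod G a b xl := by
      have := conj_mem_V S v ht'
      rw [hvl] at this
      rw [commutatorElement_def]
      exact mul_mem this (inv_mem ht')
    have hr1 : ⁅v, t'⁆ ≠ 1 := fun e => hc' (commutatorElement_eq_one_iff_commute.mp e)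
    have hr0 : ⁅v, t'⁆ ∈ OC (Dd G x0 z) := by rw [Dd_comm]; exact comm_mem S hne hB hz hv ht'D
    have hcomm : Comm G a b xl xk := hmin 1 (by omega) _ _ ⟨xk, hlk, rfl⟩
    have hr1' := mem_OC_of_comm S hne hB h1 (OC_le_V S (nb_symm hz) hr0) htD htk (hcomm _ hrl t ht)
    exact concl _ hr1 (mem_W S hne hB (nb_symm hz) h1 hzd hr0 hr1') ⟨v, hv, t', ht'D, rfl⟩

theorem comm_in_W_all {p q : Ω} (hpq : Nb G a b p q) :
    ∀ v ∈ Vmod G a b p, ∀ d ∈ Dd G p q, ⁅v, d⁆ ∈ Wfix G a b q := by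
  obtain ⟨x1, h1, hw1⟩ : ∃ x1, Nb G a b x0 x1 ∧ Walk G a b (k - 1) x1 xk := by
    obtain ⟨j, rfl⟩ : ∃ j, k = j + 1 := ⟨k - 1, by omega⟩
    exact hw
  have main : ∀ z, Nb G a b z x0 → ∀ g : G, g • z = p → g • x0 = q →
      ∀ v ∈ Vmod G a b p, ∀ d ∈ Dd G p q, ⁅v, d⁆ ∈ Wfix G a b q := by
    intro z hz g gz gq v hv d hd
    obtain ⟨m, hm, hmd⟩ := exists_ne_conj S hne h1 (nb_symm hz)
    have hz' : Nb G a b (m • z) x0 := by
      have := nb_translate S m hz
      rwa [hm] at this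
    have hgm1 : (g * m⁻¹) • m • z = p := by rw [mul_smul, inv_smul_smul, gz]
    have hgm2 : (g * m⁻¹) • x0 = q := by rw [mul_smul, inv_smul_eq_iff.mpr hm.symm, gq]
    set h := g * m⁻¹ with hh
    have hv' : h⁻¹ * v * h ∈ Vmod G a b (m • z) := by
      have := conj_mem_V S h⁻¹ hv
      rwa [← hgm1, inv_smul_smul, inv_inv] at this
    have hd' : h⁻¹ * d * h ∈ Dd G (m • z) x0 := by
      have := conj_mem_Dd h⁻¹ hd
      rwa [← hgm1, ← hgm2, inv_smul_smul, inv_smul_smul, inv_inv] at this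
    have := conj_mem_W S h (comm_in_W S hne hB hP hk hmin hw hnc h1 hw1 hz' hmd _ hv' _ hd')
    rw [hgm2] at this
    rwa [show h * ⁅h⁻¹ * v * h, h⁻¹ * d * h⁆ * h⁻¹ = ⁅v, d⁆ by simp only [commutatorElement_def]; group] at this
  obtain ⟨h, hh⟩ : ∃ h : G, h • a = x0 := smul_surj S a x0
  obtain ⟨h', hh'⟩ : ∃ h : G, h • b = x0 := smul_surj S b x0
  rcases hpq with ⟨g, rfl, rfl⟩ | ⟨g, rfl, rfl⟩
  · refine main (h' • a) (Or.inl ⟨h', rfl, hh'⟩) (g * h'⁻¹) ?_ ?_
    · rw [mul_smul, inv_smul_smul]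
    · rw [← hh', mul_smul, inv_smul_smul]
  · refine main (h • b) (Or.inr ⟨h, hh, rfl⟩) (g * h⁻¹) ?_ ?_
    · rw [mul_smul, inv_smul_smul]
    · rw [← hh, mul_smul, inv_smul_smul]

theorem false_of_not_adjacent : False := by
  have hWall := @comm_in_W_all G Ω _ _ _ _ a b S hne hB hP k hk hmin x0 xk hw hnc
  -- neighbours are determined by their two-point stabilisers
  have huniq : ∀ {p q q' : Ω}, Nb G a b p q → Nb G a b p q' → Dd G p q = Dd G p q' → q = q' := by
    intro p q q' h h' he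
    obtain ⟨v, hv, d, hd, hne1⟩ := exists_comm_ne S hne hB hP h
    exact W_determines S hne hB (hWall h v hv d hd) (hWall h' v hv d (he ▸ hd)) hne1
  obtain ⟨j, rfl⟩ : ∃ j, k = j + 2 := ⟨k - 2, by omega⟩
  obtain ⟨x1, h1, hw1⟩ := id hw
  obtain ⟨xl, hwl, hlk⟩ := walk_last hw
  simp only [Comm, not_forall] at hnc
  obtain ⟨v0, hv0, t, ht, hc⟩ := hnc
  have ht1 : t ∈ Ker G a b x1 := le_Ker_of_comm S hne hB (hmin _ (by omega) _ _ hw1).symm ht
  have htD : t ∈ Dd G x0 x1 := by rw [Dd_comm]; exact Ker_le_Dd S (nb_symm h1) ht1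
  have htk : t ∉ Ker G a b x0 := fun h => hc (V_comm S hne hB hv0 h)
  have hr1 : ⁅v0, t⁆ ≠ 1 := fun e => hc (commutatorElement_eq_one_iff_commute.mp e)
  have hl : x1 = xl := by
    refine W_determines S hne hB (hWall h1 v0 hv0 t htD) ?_ hr1
    have := hWall (nb_symm hlk) t ht v0 (by
      rw [Dd_comm]; exact Ker_le_Dd S hlk (le_Ker_of_comm S hne hB (hmin _ (by omega) _ _ hwl) hv0))
    rw [← commutatorElement_inv]
    exact inv_mem this
  subst hl
  rcases Nat.eq_zero_or_pos j with rfl | hj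
  swap
  · exact hc (hmin 2 (by omega) x0 xk ⟨x1, h1, xk, hlk, rfl⟩ v0 hv0 t ht)
  -- walks of length two
  have h02 : x0 ≠ xk := fun e => hc (comm_self S hne hB x0 v0 hv0 t (e ▸ ht))
  have h10 : Nb G a b x1 x0 := nb_symm h1
  have hD02 : Dd G x1 x0 ≠ Dd G x1 xk := fun e => h02 (huniq h10 hlk e)
  have comm1 : ∀ {p q : Ω}, Nb G a b p q → Comm G a b p q := fun h => hmin 1 (by omega) _ _ ⟨_, h, rfl⟩
  -- a non-commuting pair at `x0` containing `x1`
  obtain ⟨g, hg⟩ := smul_surj S x1 x0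
  have hn1 : Nb G a b x0 (g • x0) := by
    have := nb_translate S g h10
    rwa [hg] at this
  obtain ⟨m, hm, hme⟩ := exists_Dd_eq S hn1 h1
  have hm1 : m • g • x0 = x1 := by
    refine (huniq h1 ?_ hme).symm
    have := nb_translate S m hn1
    rwa [hm] at this
  set z := m • g • xk with hz
  have hz0 : Nb G a b z x0 := by
    have := nb_translate S m (nb_translate S g (nb_symm hlk))
    rwa [hg, hm] at this
  have hzn : ¬ Comm G a b z x1 := fun hcm => hc (by
    have := comm_translate S g⁻¹ (comm_translate S m⁻¹ hcm)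
    rw [hz, inv_smul_smul, inv_smul_smul, ← hm1, inv_smul_smul, inv_smul_smul] at this
    exact (this t ht v0 hv0).symm)
  simp only [Comm, not_forall] at hzn
  obtain ⟨u, hu, s, hs, hus⟩ := hzn
  have huK : u ∈ Ker G a b x0 := le_Ker_of_comm S hne hB (comm1 hz0) hu
  have hux1 : u • x1 = x1 := (mem_Ker.mp huK).2 x1 h1
  have hux0 : u • x0 = x0 := (mem_Ker.mp huK).1
  have huk1 : u ∉ Ker G a b x1 := fun h => hus (V_comm S hne hB hs h).symm
  set x2 := u • xk with hx2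
  have hn2 : Nb G a b x1 x2 := by
    have := nb_translate S u hlk
    rwa [hux1] at this
  have h2k : x2 ≠ xk := fun e =>
    huk1 (inf_le_Ker S hne h10 hlk hD02 ⟨hux1, hux0⟩ ⟨hux1, e⟩)
  have h20 : x2 ≠ x0 := fun e => h02 (by
    have e' : u • xk = u • x0 := by rw [hux0]; exact e
    exact ((smul_left_cancel_iff u).mp e').symm)
  -- the three neighbours of `x1`
  have hthree : ∀ w, Nb G a b x1 w → w = x0 ∨ w = xk ∨ w = x2 := by
    obtain ⟨f, -, hf2, -⟩ := exists_perm x1 x0 (card_orbit S h10)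
    have hrep : ∀ w, Nb G a b x1 w → ∃ n : stabilizer G x1, (n : G) • x0 = w := by
      intro w hw'
      obtain ⟨n, hn, he⟩ := exists_Dd_eq S h10 hw'
      refine ⟨⟨n, hn⟩, (huniq hw' ?_ he).symm⟩
      have := nb_translate S n h10
      rwa [hn] at this
    have hinj : ∀ n n' : stabilizer G x1, f n 0 = f n' 0 → (n : G) • x0 = (n' : G) • x0 := by
      intro n n' e
      have h0 : f (n'⁻¹ * n) 0 = 0 := by
        rw [map_mul, map_inv, Equiv.Perm.mul_apply, e, Equiv.Perm.inv_eq_iff_eq]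
      have := (hf2 _).mp h0
      simpa [mul_smul, inv_smul_eq_iff] using this
    intro w hw'
    obtain ⟨n, hn⟩ := hrep w hw'
    obtain ⟨n0, hn0⟩ := hrep x0 h10
    obtain ⟨nk, hnk⟩ := hrep xk hlk
    obtain ⟨n2, hn2'⟩ := hrep x2 hn2
    have key : ∀ p q r s : Fin 3, p ≠ q → p ≠ r → q ≠ r → s = p ∨ s = q ∨ s = r := by decide
    rcases key (f n0 0) (f nk 0) (f n2 0) (f n 0) (fun e => h02 (by rw [← hn0, ← hnk]; exact hinj _ _ e))
      (fun e => h20 (by rw [← hn0, ← hn2']; exact (hinj _ _ e).symm))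
      (fun e => h2k (by rw [← hnk, ← hn2']; exact (hinj _ _ e).symm)) with e | e | e
    · exact Or.inl (by rw [← hn]; exact (hinj _ _ e).trans hn0)
    · exact Or.inr (Or.inl (by rw [← hn]; exact (hinj _ _ e).trans hnk))
    · exact Or.inr (Or.inr (by rw [← hn]; exact (hinj _ _ e).trans hn2'))
  have hnc02 : ¬ Comm G a b x0 x2 := fun h => hc (by
    have h' := comm_translate S u⁻¹ h
    rw [hx2, inv_smul_smul, inv_smul_eq_iff.mpr hux0.symm] at h'
    exact h' v0 hv0 t ht)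
  have hnck2 : ¬ Comm G a b xk x2 := by
    intro hcm
    obtain ⟨n, hn, he⟩ := exists_Dd_eq S hlk h10
    have hnn : ∀ w, Nb G a b x1 w → Nb G a b x1 (n • w) := fun w hw' => by
      have := nb_translate S n hw'
      rwa [hn] at this
    have hnk : n • xk = x0 := (huniq h10 (hnn _ hlk) he).symm
    have h' := comm_translate S n hcm
    rw [hnk] at h'
    rcases hthree _ (hnn _ hn2) with e | e | e
    · exact h2k ((smul_left_cancel_iff n).mp (e.trans hnk.symm))
    · rw [e] at h'; exact hc (h' v0 hv0 t ht)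
    · rw [e] at h'; exact hnc02 h'
  set t' := u * t * u⁻¹ with ht'
  have ht'V : t' ∈ Vmod G a b x2 := conj_mem_V S u ht
  have hOC1 : ∀ {p : Ω}, Nb G a b x1 p → OC (Dd G p x1) ≤ Vmod G a b x1 := fun h => by
    rw [Dd_comm]; exact OC_le_V S h
  have htOC : t ∉ OC (Dd G xk x1) := fun h =>
    htk (le_Ker_of_comm S hne hB (comm1 h10) (hOC1 hlk h))
  have ht'OC : t' ∉ OC (Dd G x2 x1) := fun h => htOC (by
    have h' := conj_mem_OC u⁻¹ (conj_mem_iff_Dd u⁻¹ x2 x1) h
    rw [inv_smul_eq_iff.mpr hux1.symm, hx2, inv_smul_smul] at h'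
    simpa [ht', mul_assoc] using h')
  have hne1 : ¬ Commute t t' := by
    intro hct
    refine hnck2 fun p hp q hq => ?_
    have hzero : ∀ {w : G}, w ∈ OC (Dd G x2 x1) → ∀ r ∈ Vmod G a b xk, Commute r w := fun hw' r hr =>
      comm1 (nb_symm hlk) r hr _ (hOC1 hn2 hw')
    have hqt : Commute t q := by
      by_cases hq' : q ∈ OC (Dd G x2 x1)
      · exact hzero hq' t ht
      · have := hct.mul_right (hzero (hP x2 x1 (nb_symm hn2) t' ht'V q hq ht'OC hq') t ht)
        rwa [mul_inv_cancel_left] at this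
    by_cases hp' : p ∈ OC (Dd G xk x1)
    · exact comm1 hn2 p (hOC1 hlk hp') q hq
    · have h' := hP xk x1 (nb_symm hlk) t ht p hp htOC hp'
      have := hqt.mul_left (comm1 hn2 _ (hOC1 hlk h') q hq)
      rwa [mul_inv_cancel_left] at this
  have hW1 : ⁅t, t'⁆ ∈ Wfix G a b x1 :=
    hWall (nb_symm hlk) t ht t' (by
      rw [Dd_comm]; exact Ker_le_Dd S hlk (le_Ker_of_comm S hne hB (comm1 (nb_symm hn2)) ht'V))
  have htx0 : t • x0 = x0 := htD.1
  have hW0 : ⁅u, t * u * t⁻¹⁆ ∈ Wfix G a b x0 := by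
    refine hWall hz0 u hu _ ?_
    have h' : t * u * t⁻¹ ∈ Ker G a b x0 := by
      have := conj_mem_Ker S t huK
      rwa [htx0] at this
    rw [Dd_comm]; exact Ker_le_Dd S (nb_symm hz0) h'
  have hinv : ⁅u, t * u * t⁻¹⁆ = ⁅t, t'⁆⁻¹ := by
    rw [ht']
    simp only [commutatorElement_def, _root_.mul_inv_rev, inv_inv, V_inv S hne hB ht, V_inv S hne hB hu,
      mul_assoc]
  rw [hinv] at hW0
  have := W_inter S hne hB h1 (inv_mem_iff.mp hW0) hW1
  exact hne1 (commutatorElement_eq_one_iff_commute.mp this)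

end NotAdjacent

omit hP in
/-- Some adjacent modules do not commute, and transvections exist. -/
theorem exists_adjacent : Transv G a b ∧ ∃ x y, Nb G a b x y ∧ ¬ Comm G a b x y := by
  classical
  have hex := exists_noncomm S hne hB
  set k := Nat.find hex with hk
  obtain ⟨x, y, hw, hnc⟩ := Nat.find_spec hex
  rw [← hk] at hw
  have hmin : ∀ j < k, ∀ p q, Walk G a b j p q → Comm G a b p q := fun j hj p q h => by
    by_contra hc
    exact Nat.find_min hex hj ⟨p, q, h, hc⟩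
  rcases Nat.lt_or_ge k 2 with h2 | h2
  · have h1 : k ≠ 0 := fun h0 => by
      rw [h0] at hw
      obtain rfl : x = y := hw
      exact hnc (comm_self S hne hB x)
    have h1' : k = 1 := by omega
    rw [h1'] at hw
    obtain ⟨y', hy', rfl⟩ := hw
    exact ⟨fun z z' hz v hv v' hv' => transvection S hne hB hy' (nb_symm hy') (V_le_Ker S hne hB _)
      (V_le_Ker S hne hB _) hnc hz hv hv', x, y', hy', hnc⟩
  · exfalso
    obtain ⟨j, hj⟩ : ∃ j, k = j + 2 := ⟨k - 2, by omega⟩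
    have hw' : Walk G a b (j + 1 + 1) x y := by rw [← show k = j + 1 + 1 by omega]; exact hw
    obtain ⟨x1, h1, hw1⟩ := id hw'
    obtain ⟨xl, hwl, hlk⟩ := walk_last hw'
    refine false_of_not_adjacent S hne hB
      (fun z z' hz v hv v' hv' => transvection S hne hB h1 (nb_symm hlk)
        (le_Ker_of_comm S hne hB (hmin _ (by omega) _ _ hw1).symm)
        (le_Ker_of_comm S hne hB (hmin _ (by omega) _ _ hwl)) hnc hz hv hv') h2 hmin hw hnc

end Setting

end H61.Cubic
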