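import Cfsg.Agent.H61.CubicChain
import Cfsg.Agent.H61.DihedralIso

/-!
The point stabiliser of a primitive group with a suborbit of length three.
-/

set_option autoImplicit false

namespace H61.Cubic

open MulAction
open scoped commutatorElement

variable {G Ω : Type*} [Group G] [MulAction G Ω]

/-- A subgroup whose complement in `K` is a single coset has index two in `K`. -/
theorem card_eq_two_mul [Finite G] {H K : Subgroup G} (hle : H ≤ K) {c : G} (hcK : c ∈ K) (hcH : c ∉ H)
    (h : ∀ d ∈ K, d ∉ H → c⁻¹ * d ∈ H) : Nat.card K = 2 * Nat.card H := by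
  classical
  let φ : H ⊕ H → K := Sum.elim (fun x => ⟨x, hle x.2⟩) (fun x => ⟨c * x, mul_mem hcK (hle x.2)⟩)
  have hb : Function.Bijective φ := by
    refine ⟨?_, fun y => ?_⟩
    · rintro (x | x) (y | y) e
      · exact congrArg Sum.inl (Subtype.ext (congrArg Subtype.val e :))
      · have e' : (x : G) = c * (y : G) := congrArg Subtype.val e
        exact absurd (by
          have : c = (x : G) * (y : G)⁻¹ := by rw [e']; group
          rw [this]; exact mul_mem x.2 (inv_mem y.2)) hcH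
      · have e' : c * (x : G) = (y : G) := congrArg Subtype.val e
        exact absurd (by
          have : c = (y : G) * (x : G)⁻¹ := by rw [← e']; group
          rw [this]; exact mul_mem y.2 (inv_mem x.2)) hcH
      · have e' : c * (x : G) = c * (y : G) := congrArg Subtype.val e
        exact congrArg Sum.inr (Subtype.ext (mul_left_cancel e'))
    · by_cases hy : (y : G) ∈ H
      · exact ⟨Sum.inl ⟨y, hy⟩, rfl⟩
      · exact ⟨Sum.inr ⟨_, h y y.2 hy⟩, Subtype.ext (by simp [φ])⟩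
  rw [← Nat.card_eq_of_bijective φ hb, Nat.card_sum, two_mul]

section Setting

variable [Finite G] [FaithfulSMul G Ω] {a b : Ω} (S : Setup G a b)
include S

theorem conj_eq_inv_mul {x : Ω} {o t : G} (hox : o • x = x) (ho : orderOf o = 3) (htx : t • x = x)
    (ht : t * t = 1) (htk : t ∉ Ker G a b x) : t * o * t⁻¹ * o ∈ Ker G a b x := by
  obtain ⟨y, hy⟩ := exists_nb S x
  obtain ⟨f, hf1, -, -⟩ := exists_perm x y (card_orbit S hy)
  rw [Ker_eq S hy] at htk ⊢
  have e := perm3_invert (f ⟨o, hox⟩) (f ⟨t, htx⟩) (by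
      rw [← map_mul, ← map_mul]
      convert map_one f
      refine Subtype.ext ?_
      have := pow_orderOf_eq_one o
      rw [ho] at this
      simpa [pow_succ] using this)
    (by
      rw [← map_mul]
      convert map_one f
      exact Subtype.ext ht)
    (fun e => htk ((hf1 _).mp e))
  rw [← map_inv, ← map_mul, ← map_mul, ← map_mul] at e
  exact (hf1 _).mp e

variable (hne : Dd G a b ≠ ⊥)
include hne

theorem card_stab_Ker (x : Ω) : Nat.card (stabilizer G x) = 6 * Nat.card (Ker G a b x) := by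
  obtain ⟨y, hy⟩ := exists_nb S x
  obtain ⟨d, hd, hdk⟩ := exists_not_Ker S hne hy
  have hc : Nat.card (Dd G x y) = 2 * Nat.card (Ker G a b x) :=
    card_eq_two_mul (Ker_le_Dd S hy) hd hdk fun e he hek => mul_mem_Ker S hy hd he hdk hek
  rw [stab_eq_mul S (card_orbit S hy), hc, ← mul_assoc, show 3 * 2 = 6 from rfl]

/-- The small case. -/
theorem iso_of_cent (hB : ¬ NoCent G a b) :
    Nonempty (stabilizer G a ≃* Equiv.Perm (Fin 3)) ∨ Nonempty (stabilizer G a ≃* DihedralGroup 6) := by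
  classical
  simp only [NoCent, not_forall, not_exists, not_and, not_not] at hB
  obtain ⟨x, o1, ho1x, ho1, hcent1⟩ := hB
  obtain ⟨g1, hg1⟩ := smul_surj S x a
  set o := g1 * o1 * g1⁻¹ with ho_def
  have hox : o • a = a := by
    have := conj_mem_stab g1 ho1x
    rwa [hg1] at this
  have ho : orderOf o = 3 := by
    rw [ho_def, ← MulAut.conj_apply, MulEquiv.orderOf_eq]; exact ho1
  have hcent : ∀ k ∈ Ker G a b a, Commute o k := by
    intro k hk
    have hk' : g1⁻¹ * k * g1 ∈ Ker G a b x := by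
      have := conj_mem_Ker S g1⁻¹ hk
      rwa [← hg1, inv_smul_smul, inv_inv, hg1] at this
    have := (hcent1 _ hk').map (MulAut.conj g1).toMonoidHom
    simpa [ho_def, mul_assoc] using this
  have hab : Nb G a b a b := Or.inl ⟨1, one_smul G a, one_smul G b⟩
  obtain ⟨g, hg, hgD⟩ := exists_swap S hab
  have hoD : o ∉ Dd G a b := not_three_Dd S hab ho
  -- the squares of the two-point stabiliser generate a trivial group
  have hsq : ∀ d ∈ Dd G a b, d * d = 1 := by
    let X : Subgroup G := Subgroup.closure {z | ∃ d ∈ Dd G a b, z = d * d}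
    have hXK : X ≤ Ker G a b a := (Subgroup.closure_le _).mpr (by
      rintro z ⟨d, hd, rfl⟩; exact sq_mem_Ker S hab hd)
    have hnorm : ∀ n : G, (∀ d ∈ Dd G a b, n * d * n⁻¹ ∈ Dd G a b) → n ∈ Subgroup.normalizer (X : Set G) := by
      intro n hn
      refine Subgroup.mem_normalizer_fintype fun z hz => ?_
      induction hz using Subgroup.closure_induction with
      | mem z hz =>
        obtain ⟨d, hd, rfl⟩ := hz
        exact Subgroup.subset_closure ⟨_, hn d hd, by group⟩
      | one => simp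
      | mul u v _ _ hu hv => simpa [mul_assoc] using mul_mem hu hv
      | inv u _ hu => simpa [mul_assoc] using inv_mem hu
    have ho' : o ∈ Subgroup.normalizer (X : Set G) := Subgroup.mem_normalizer_fintype fun z hz => by
      rwa [(hcent z (hXK hz)).eq, mul_inv_cancel_right]
    have hall := stab_le_of_mem S hab (H := Subgroup.normalizer (X : Set G))
      (fun d hd => hnorm d fun e he => mul_mem (mul_mem hd he) (inv_mem hd)) hox hoD ho'
    have hgn := hnorm g fun d hd => (hgD d).mp hd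
    have hbot := eq_bot_of_normalized S hab (X := X) (fun z hz => (mem_Ker.mp (hXK hz)).1)
      (fun m hm z hz => (Subgroup.mem_normalizer_iff.mp (hall hm) z).mp hz)
      (fun m hm z hz => by
        have hm' : (g⁻¹ * m * g) • a = a := by rw [mul_smul, mul_smul, hg, hm, inv_smul_eq_iff, hg]
        have := mul_mem (mul_mem hgn (hall hm')) (inv_mem hgn)
        rw [show g * (g⁻¹ * m * g) * g⁻¹ = m by group] at this
        exact (Subgroup.mem_normalizer_iff.mp this z).mp hz)
    exact fun d hd => Subgroup.mem_bot.mp (hbot ▸ Subgroup.subset_closure ⟨d, hd, rfl⟩)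
  have hcomm : ∀ d ∈ Dd G a b, ∀ e ∈ Dd G a b, Commute d e := by
    intro d hd e he
    have hi : ∀ u ∈ Dd G a b, u⁻¹ = u := fun u hu => inv_eq_of_mul_eq_one_right (hsq u hu)
    show d * e = e * d
    have := hi _ (mul_mem hd he)
    rw [_root_.mul_inv_rev, hi d hd, hi e he] at this
    exact this.symm
  -- the two kernels meet trivially
  have hI : ∀ z ∈ Ker G a b a, z ∈ Ker G a b b → z = 1 := by
    intro z hza hzb
    have hab' : Nb G a b b a := nb_symm hab
    have hca : stabilizer G a ≤ Subgroup.centralizer ({z} : Set G) :=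
      stab_le_of_mem S hab (fun d hd => Subgroup.mem_centralizer_singleton_iff.mpr
        (hcomm d hd z (Ker_le_Dd S hab hza)).eq) hox hoD
        (Subgroup.mem_centralizer_singleton_iff.mpr (hcent z hza).eq)
    have hob : (g * o * g⁻¹) • b = b := by
      have := conj_mem_stab g hox
      rwa [hg] at this
    have hobD : g * o * g⁻¹ ∉ Dd G b a := fun h => hoD ((hgD o).mpr (Dd_comm (G := G) b a ▸ h))
    have hzb' : g⁻¹ * z * g ∈ Ker G a b a := by
      have := conj_mem_Ker S g⁻¹ hzb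
      rwa [inv_smul_eq_iff.mpr hg.symm, inv_inv] at this
    have hoz : Commute (g * o * g⁻¹) z := by
      have := (hcent _ hzb').map (MulAut.conj g).toMonoidHom
      simpa [mul_assoc] using this
    have hcb : stabilizer G b ≤ Subgroup.centralizer ({z} : Set G) :=
      stab_le_of_mem S hab' (fun d hd => Subgroup.mem_centralizer_singleton_iff.mpr
        (hcomm d (Dd_comm (G := G) b a ▸ hd) z (Ker_le_Dd S hab hza)).eq) hob hobD
        (Subgroup.mem_centralizer_singleton_iff.mpr hoz.eq)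
    have hz : ∀ {w : Ω}, stabilizer G w ≤ Subgroup.centralizer ({z} : Set G) → ∀ m : G, m • w = w →
        ∀ u ∈ Subgroup.zpowers z, m * u * m⁻¹ ∈ Subgroup.zpowers z := by
      intro w hw m hm u hu
      obtain ⟨i, rfl⟩ := Subgroup.mem_zpowers_iff.mp hu
      have : Commute m z := Subgroup.mem_centralizer_singleton_iff.mp (hw hm)
      rw [(this.zpow_right i).eq, mul_inv_cancel_right]
      exact hu
    have := eq_bot_of_normalized S hab (X := Subgroup.zpowers z)
      (Subgroup.zpowers_le.mpr (mem_Ker.mp hza).1) (hz hca) (hz hcb)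
    exact Subgroup.zpowers_eq_bot.mp this
  have htwo : ∀ k ∈ Ker G a b a, ∀ k' ∈ Ker G a b a, k ≠ 1 → k' ≠ 1 → k = k' := by
    intro k hk k' hk' h h'
    have := mul_mem_Ker S (nb_symm hab) (by rw [Dd_comm]; exact Ker_le_Dd S hab hk)
      (by rw [Dd_comm]; exact Ker_le_Dd S hab hk') (fun c => h (hI k hk c)) (fun c => h' (hI k' hk' c))
    exact inv_mul_eq_one.mp (hI _ (mul_mem (inv_mem hk) hk') this)
  obtain ⟨t, ht, htk⟩ := exists_not_Ker S hne hab
  by_cases hK : ∀ k ∈ Ker G a b a, k = 1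
  · left
    obtain ⟨f, hf1, -, -⟩ := exists_perm a b (card_orbit S hab)
    have hinj : Function.Injective f := by
      rw [injective_iff_map_eq_one]
      intro h hh
      exact Subtype.ext (hK h (Ker_eq S hab ▸ (hf1 h).mp hh))
    have hcard : Nat.card (stabilizer G a) = 6 := by
      rw [card_stab_Ker S hne, (Subgroup.eq_bot_iff_forall _).mpr hK, Subgroup.card_bot]
    exact ⟨MulEquiv.ofBijective f (hinj.bijective_of_nat_card_le (le_of_eq (by
      rw [hcard, Nat.card_perm, Nat.card_fin]; rfl)))⟩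
  · right
    push Not at hK
    obtain ⟨k, hk, hk1⟩ := hK
    have hk2 : k * k = 1 := hsq k (Ker_le_Dd S hab hk)
    have hcard : Nat.card (stabilizer G a) = 2 * 6 := by
      rw [card_stab_Ker S hne, card_eq_two_mul (H := (⊥ : Subgroup G)) bot_le hk
        (fun h => hk1 (Subgroup.mem_bot.mp h)) (fun d hd hdn => by
          rw [htwo k hk d hd hk1 fun h => hdn (Subgroup.mem_bot.mpr h), inv_mul_cancel]; exact one_mem _),
        Subgroup.card_bot]
    have hord : orderOf (o * k) = 6 := by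
      rw [(hcent k hk).orderOf_mul_eq_mul_orderOf_of_coprime, ho,
        orderOf_eq_prime (p := 2) (by rw [pow_two, hk2]) hk1]
      rw [ho, orderOf_eq_prime (p := 2) (by rw [pow_two, hk2]) hk1]
      norm_num
    have ht2 := hsq t ht
    have ht' : t⁻¹ = t := inv_eq_of_mul_eq_one_right ht2
    obtain ⟨k', hk', hke⟩ : ∃ k' ∈ Ker G a b a, t * o * t = k' * o⁻¹ :=
      ⟨_, conj_eq_inv_mul S hox ho ht.1 ht2 htk, by rw [ht', mul_inv_cancel_right]⟩
    have hk'1 : k' = 1 := by
      have hc : Commute k' o⁻¹ := ((hcent k' hk').symm).inv_right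
      have e1 : (t * o * t) ^ 3 = 1 := by
        conv_lhs => rw [show t * o * t = t * o * t⁻¹ by rw [ht']]
        rw [conj_pow, show o ^ 3 = 1 by rw [← ho, pow_orderOf_eq_one]]; simp
      rw [hke, hc.mul_pow, inv_pow, show o ^ 3 = 1 by rw [← ho, pow_orderOf_eq_one], inv_one, mul_one,
        pow_succ, pow_two, hsq k' (Ker_le_Dd S hab hk'), one_mul] at e1
      exact e1
    have hinv : t * (o * k) * t = (o * k)⁻¹ := by
      have e := (hcomm k (Ker_le_Dd S hab hk) t ht).eq
      calc t * (o * k) * t = t * o * (k * t) := by group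
        _ = t * o * (t * k) := by rw [e]
        _ = (t * o * t) * k := by group
        _ = o⁻¹ * k := by rw [hke, hk'1, one_mul]
        _ = o⁻¹ * k⁻¹ := by rw [inv_eq_of_mul_eq_one_right hk2]
        _ = (k * o)⁻¹ := (_root_.mul_inv_rev k o).symm
        _ = (o * k)⁻¹ := by rw [(hcent k hk).eq]
    have hnot : t ∉ Subgroup.zpowers (o * k) := by
      intro h
      obtain ⟨i, hi⟩ := Subgroup.mem_zpowers_iff.mp h
      have hcm : Commute t (o * k) := hi ▸ (Commute.refl (o * k)).zpow_left i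
      rw [hcm.eq, mul_assoc, ht2, mul_one] at hinv
      have : (o * k) ^ 2 = 1 := by rw [pow_two]; nth_rewrite 2 [hinv]; group
      have := orderOf_dvd_of_pow_eq_one this
      rw [hord] at this
      norm_num at this
    refine H61.nonempty_mulEquiv_dihedralGroup (G := stabilizer G a)
      ⟨o * k, mul_mem (show o ∈ stabilizer G a from hox) (mem_Ker.mp hk).1⟩ ⟨t, ht.1⟩ 6
      (by rw [← Subgroup.orderOf_coe]; exact hord) (Subtype.ext ht2) (Subtype.ext hinv) ?_ hcard
    intro h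
    obtain ⟨i, hi⟩ := Subgroup.mem_zpowers_iff.mp h
    exact hnot (Subgroup.mem_zpowers_iff.mpr ⟨i, by simpa using congrArg Subtype.val hi⟩)

variable (hB : NoCent G a b)
include hB

/-- With a non-commuting adjacent pair the kernel is the module. -/
theorem Ker_le_V (hP : Transv G a b) {x y : Ω} (h : Nb G a b x y) (hnc : ¬ Comm G a b x y) :
    Ker G a b x ≤ Vmod G a b x := by
  simp only [Comm, not_forall] at hnc
  obtain ⟨v0, hv0, t, ht, hc⟩ := hnc
  let X : Subgroup G := Subgroup.closure {z | ∃ i, i ∈ Ker G a b x ∧ i ∈ Ker G a b y ∧ z = i * i}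
  have side : ∀ (p q : Ω) (w w' : G), Nb G a b p q → w ∈ Vmod G a b p → w' ∈ Vmod G a b q → ¬ Commute w w' →
      ∀ k ∈ Ker G a b p, ∃ i, i ∈ Ker G a b p ∧ i ∈ Ker G a b q ∧ i * i = k * k ∧ (k = i ∨ k = w * i) := by
    intro p q w w' hpq hw hw' hcw k hk
    by_cases hkq : k ∈ Ker G a b q
    · exact ⟨k, hk, hkq, rfl, Or.inl rfl⟩
    have hwq : w ∉ Ker G a b q := fun c => hcw (V_comm S hne hB hw' c).symm
    have hwD : w ∈ Dd G q p := by rw [Dd_comm]; exact Ker_le_Dd S hpq (V_le_Ker S hne hB p hw)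
    have hkD : k ∈ Dd G q p := by rw [Dd_comm]; exact Ker_le_Dd S hpq hk
    have hi : w⁻¹ * k ∈ Ker G a b p := mul_mem (inv_mem (V_le_Ker S hne hB p hw)) hk
    refine ⟨w⁻¹ * k, hi, mul_mem_Ker S (nb_symm hpq) hwD hkD hwq hkq, ?_, Or.inr (by group)⟩
    have e := (V_comm S hne hB hw hk).eq
    have e2 := V_inv S hne hB hw
    calc w⁻¹ * k * (w⁻¹ * k) = w⁻¹ * (k * w⁻¹) * k := by group
      _ = w⁻¹ * (k * w) * k := by rw [e2]
      _ = w⁻¹ * (w * k) * k := by rw [e]
      _ = k * k := by group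
  have hXx : X ≤ Ker G a b x := (Subgroup.closure_le _).mpr (by
    rintro z ⟨i, hi, -, rfl⟩; exact mul_mem hi hi)
  have inv : ∀ (p q : Ω) (w w' : G), Nb G a b p q → w ∈ Vmod G a b p → w' ∈ Vmod G a b q → ¬ Commute w w' →
      (∀ i, i ∈ Ker G a b x ∧ i ∈ Ker G a b y ↔ i ∈ Ker G a b p ∧ i ∈ Ker G a b q) →
      ∀ m : G, m • p = p → ∀ z ∈ X, m * z * m⁻¹ ∈ X := by
    intro p q w w' hpq hw hw' hcw hiff m hm z hz
    induction hz using Subgroup.closure_induction with
    | mem z hz =>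
      obtain ⟨i, hi, hi', rfl⟩ := hz
      have hk : m * i * m⁻¹ ∈ Ker G a b p := by
        have := conj_mem_Ker S m ((hiff i).mp ⟨hi, hi'⟩).1
        rwa [hm] at this
      obtain ⟨j, hj, hj', hjk, -⟩ := side p q w w' hpq hw hw' hcw _ hk
      refine Subgroup.subset_closure ⟨j, ((hiff j).mpr ⟨hj, hj'⟩).1, ((hiff j).mpr ⟨hj, hj'⟩).2, ?_⟩
      rw [hjk]; group
    | one => simp
    | mul u v _ _ hu hv => simpa [mul_assoc] using mul_mem hu hv
    | inv u _ hu => simpa [mul_assoc] using inv_mem hu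
  have hbot := eq_bot_of_normalized S h (X := X) (fun z hz => (mem_Ker.mp (hXx hz)).1)
    (inv x y v0 t h hv0 ht hc fun i => Iff.rfl)
    (inv y x t v0 (nb_symm h) ht hv0 (fun c => hc c.symm) fun i => and_comm)
  have hsq : ∀ i ∈ Ker G a b x, i ∈ Ker G a b y → i * i = 1 := fun i hi hi' =>
    Subgroup.mem_bot.mp (hbot ▸ Subgroup.subset_closure ⟨i, hi, hi', rfl⟩)
  have hexp : ∀ k ∈ Ker G a b x, k * k = 1 := fun k hk => by
    obtain ⟨i, hi, hi', he, -⟩ := side x y v0 t h hv0 ht hc k hk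
    rw [← he]; exact hsq i hi hi'
  have hab : ∀ k ∈ Ker G a b x, ∀ l ∈ Ker G a b x, Commute k l := by
    intro k hk l hl
    have hi : ∀ u ∈ Ker G a b x, u⁻¹ = u := fun u hu => inv_eq_of_mul_eq_one_right (hexp u hu)
    have := hi _ (mul_mem hk hl)
    rw [_root_.mul_inv_rev, hi k hk, hi l hl] at this
    exact this.symm
  intro k hk
  obtain ⟨i, hi, hi', -, hki⟩ := side x y v0 t h hv0 ht hc k hk
  have htD : t ∈ Dd G x y := by rw [Dd_comm]; exact Ker_le_Dd S (nb_symm h) (V_le_Ker S hne hB y ht)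
  have htk : t ∉ Ker G a b x := fun c => hc (V_comm S hne hB hv0 c)
  have hiOC : i ∈ OC (Dd G x y) := by
    refine ⟨Ker_le_Dd S h hi, hexp i hi, fun d hd => ?_⟩
    by_cases hdk : d ∈ Ker G a b x
    · exact hab i hi d hdk
    · have := ((V_comm S hne hB ht hi').symm).mul_right (hab i hi _ (mul_mem_Ker S h htD hd htk hdk))
      rwa [mul_inv_cancel_left] at this
  rcases hki with rfl | rfl
  · exact OC_le_V S h hiOC
  · exact mul_mem hv0 (OC_le_V S h hiOC)

/-- The large case. -/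
theorem iso_of_noCent : Nonempty (stabilizer G a ≃* Equiv.Perm (Fin 4)) ∨
    Nonempty (stabilizer G a ≃* Equiv.Perm (Fin 4) × Multiplicative (ZMod 2)) := by
  classical
  obtain ⟨hP, x0, y0, hxy, hnc0⟩ := exists_adjacent S hne hB
  obtain ⟨g, hg⟩ := smul_surj S x0 a
  set y := g • y0 with hy_def
  have hy : Nb G a b a y := by
    have := nb_translate S g hxy
    rwa [hg] at this
  have hnc : ¬ Comm G a b a y := fun hcm => hnc0 (by
    have := comm_translate S g⁻¹ hcm
    rwa [inv_smul_eq_iff.mpr hg.symm, hy_def, inv_smul_smul] at this)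
  have hKV : Ker G a b a ≤ Vmod G a b a := Ker_le_V S hne hB hP hy hnc
  simp only [Comm, not_forall] at hnc
  obtain ⟨v0, hv0, t, ht, hc⟩ := hnc
  set V := Vmod G a b a with hV
  set W := Wfix G a b a with hW
  have htD : t ∈ Dd G a y := by rw [Dd_comm]; exact Ker_le_Dd S (nb_symm hy) (V_le_Ker S hne hB y ht)
  have htk : t ∉ Ker G a b a := fun c => hc (V_comm S hne hB hv0 c)
  have ht2 : t * t = 1 := V_sq S hne hB ht
  have hti : t⁻¹ = t := inv_eq_of_mul_eq_one_right ht2
  -- an element of order three inverted by `t`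
  obtain ⟨o, hox, ho, hto⟩ : ∃ o : G, o • a = a ∧ orderOf o = 3 ∧ t * o * t = o⁻¹ := by
    obtain ⟨o0, ho0x, ho0⟩ := exists_o S a
    obtain ⟨f, hf1, -, -⟩ := exists_perm a y (card_orbit S hy)
    have hne1 : f ⟨t, htD.1⟩ ≠ 1 := fun e => htk (Ker_eq S hy ▸ (hf1 _).mp e)
    have hρ : f ⟨o0, ho0x⟩ * f ⟨o0, ho0x⟩ * f ⟨o0, ho0x⟩ = 1 := by
      rw [← map_mul, ← map_mul]
      convert map_one f
      refine Subtype.ext ?_
      have := pow_orderOf_eq_one o0
      rw [ho0] at this
      simpa [pow_succ] using this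
    have hρ1 : f ⟨o0, ho0x⟩ ≠ 1 := fun e => not_three_Ker S ho0 (Ker_eq S hy ▸ (hf1 _).mp e)
    have hσ2 : f ⟨t, htD.1⟩ * f ⟨t, htD.1⟩ = 1 := by
      rw [← map_mul]; convert map_one f; exact Subtype.ext ht2
    rcases perm3_cube_conj _ _ hne1 hρ hρ1 with h | ⟨h, h'⟩
    · exact absurd (perm3_odd _ hσ2 h) hne1
    rw [← map_inv, ← map_mul, ← map_mul, ← map_mul] at h'
    rw [← map_inv, ← map_mul, ← map_mul, ← map_mul] at h
    obtain ⟨n, hn⟩ := exists_order_three f h h'
    set d : G := t * (o0 * t * o0⁻¹) with hd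
    refine ⟨d ^ n, stab_pow_mem ?_ n, hn, ?_⟩
    · exact (mul_mem (show t ∈ stabilizer G a from htD.1)
        (mul_mem (mul_mem (show o0 ∈ stabilizer G a from ho0x) (show t ∈ stabilizer G a from htD.1))
          (inv_mem (show o0 ∈ stabilizer G a from ho0x))) : d ∈ stabilizer G a)
    · have e : t * d * t⁻¹ = d⁻¹ := by
        rw [hd]
        simp only [_root_.mul_inv_rev, inv_inv, hti, mul_assoc]
        rw [← mul_assoc t t, ht2, one_mul]
      calc t * d ^ n * t = t * d ^ n * t⁻¹ := by rw [hti]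
        _ = (t * d * t⁻¹) ^ n := (conj_pow).symm
        _ = (d ^ n)⁻¹ := by rw [e, inv_pow]
  have hoD : o ∉ Dd G a y := not_three_Dd S hy ho
  have ho3 : o ^ 3 = 1 := by rw [← ho, pow_orderOf_eq_one]
  have hconjV : ∀ {m v : G}, m • a = a → v ∈ V → m * v * m⁻¹ ∈ V := fun {m v} hm hv => by
    have := conj_mem_V S m hv
    rwa [hm] at this
  have hcommV : ∀ {v w : G}, v ∈ V → w ∈ V → Commute v w := fun hv hw =>
    V_comm S hne hB hv (V_le_Ker S hne hB a hw)
  have hD' : Dd G a (o • y) ≠ Dd G a y := Dd_move_ne S hne hy hox ho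
  have hy' : Nb G a b a (o • y) := by
    have := nb_translate S o hy
    rwa [hox] at this
  have hconjOC : ∀ {v : G} (i : G), i • a = a → (v ∈ OC (Dd G a y) ↔ i * v * i⁻¹ ∈ OC (Dd G a (i • y))) := by
    intro v i hi
    constructor
    · intro h
      have := conj_mem_OC i (conj_mem_iff_Dd i a y) h
      rwa [hi] at this
    · intro h
      have := conj_mem_OC i⁻¹ (conj_mem_iff_Dd i⁻¹ a (i • y)) h
      rw [inv_smul_eq_iff.mpr hi.symm, inv_smul_smul] at this
      simpa [mul_assoc] using this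
  -- the fixed points of `o`
  have hfix : ∀ v ∈ V, Commute o v → v ∈ W := by
    intro v hv hov
    have hov' : ∀ i : ℕ, o ^ i * v * (o ^ i)⁻¹ = v := fun i => by
      rw [(hov.pow_left i).eq, mul_inv_cancel_right]
    by_cases hvo : v ∈ OC (Dd G a y)
    · exact mem_W S hne hB hy hy' hD'.symm hvo (by
        have := (hconjOC o hox).mp hvo
        rwa [hov.eq, mul_inv_cancel_right] at this)
    exfalso
    obtain ⟨w, hw, hwW⟩ : ∃ w ∈ OC (Dd G a y), w ∉ W := by
      by_contra hall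
      push Not at hall
      exact OC_not_central S hne hB hy fun z hz m hm => (W_comm S hne hB (hall z hz) hm).symm
    have hwV : w ∈ V := OC_le_V S hy hw
    have key : ∀ i : ℕ, Dd G a ((o ^ i) • y) ≠ Dd G a y → Nb G a b a ((o ^ i) • y) →
        v⁻¹ * w ∈ OC (Dd G a ((o ^ i) • y)) := by
      intro i hi hn
      refine hP a _ hn v hv w hwV (fun h => hvo ?_) (fun h => hwW (mem_W S hne hB hy hn hi.symm hw h))
      rw [hconjOC (o ^ i) (stab_pow_mem hox i), hov']
      exact h
    have ho2 : orderOf (o ^ 2) = 3 := by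
      rw [orderOf_pow, ho]; norm_num
    have hox2 : (o ^ 2) • a = a := stab_pow_mem hox 2
    have hy'' : Nb G a b a ((o ^ 2) • y) := by
      have := nb_translate S (o ^ 2) hy
      rwa [hox2] at this
    have h1 := key 1 (by rwa [pow_one]) (by rwa [pow_one])
    rw [pow_one] at h1
    have h2 := key 2 (Dd_move_ne S hne hy hox2 ho2) hy''
    have h12 : Dd G a (o • y) ≠ Dd G a ((o ^ 2) • y) := by
      rw [pow_two, mul_smul]
      exact (Dd_move_ne S hne hy' hox ho).symm
    have hW1 := mem_W S hne hB hy' hy'' h12 h1 h2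
    apply hvo
    have : v = w * (v⁻¹ * w)⁻¹ := by group
    rw [this]
    exact mul_mem hw (inv_mem (W_le_OC S hne hB hy hW1))
  -- the complement of `W` in `V`
  let U : Subgroup G :=
    { carrier := {u | ∃ v ∈ V, u = v * (o * v * o⁻¹)}
      one_mem' := ⟨1, one_mem V, by simp⟩
      mul_mem' := by
        rintro _ _ ⟨v, hv, rfl⟩ ⟨v', hv', rfl⟩
        refine ⟨v * v', mul_mem hv hv', ?_⟩
        have e := (hcommV (hconjV hox hv) hv').eq
        calc v * (o * v * o⁻¹) * (v' * (o * v' * o⁻¹)) = v * ((o * v * o⁻¹) * v') * (o * v' * o⁻¹) := by group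
          _ = v * (v' * (o * v * o⁻¹)) * (o * v' * o⁻¹) := by rw [e]
          _ = v * v' * (o * (v * v') * o⁻¹) := by group
      inv_mem' := by
        rintro _ ⟨v, hv, rfl⟩
        refine ⟨v, hv, inv_eq_of_mul_eq_one_right ?_⟩
        have e := (hcommV (hconjV hox hv) hv).eq
        have e2 := V_sq S hne hB hv
        calc v * (o * v * o⁻¹) * (v * (o * v * o⁻¹)) = v * ((o * v * o⁻¹) * v) * (o * v * o⁻¹) := by group
          _ = v * (v * (o * v * o⁻¹)) * (o * v * o⁻¹) := by rw [e]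
          _ = (v * v) * (o * (v * v) * o⁻¹) := by group
          _ = 1 := by rw [e2]; group }
  have hUmem : ∀ {u}, u ∈ U → ∃ v ∈ V, u = v * (o * v * o⁻¹) := fun h => h
  have hUV : U ≤ V := fun u hu => by
    obtain ⟨v, hv, rfl⟩ := hUmem hu
    exact mul_mem hv (hconjV hox hv)
  have hUW : ∀ u ∈ U, u ∈ W → u = 1 := by
    intro u hu hw
    obtain ⟨v, hv, rfl⟩ := hUmem hu
    have hc := W_comm S hne hB hw hox
    have e : o * (v * (o * v * o⁻¹)) * o⁻¹ = v * (o * v * o⁻¹) := by
      rw [← hc.eq, mul_inv_cancel_right]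
    have e1 := (hcommV hv (hconjV hox hv)).eq
    have e2 : (o * v * o⁻¹) * (o * (o * v * o⁻¹) * o⁻¹) = (o * v * o⁻¹) * v := by
      rw [← e1]
      calc (o * v * o⁻¹) * (o * (o * v * o⁻¹) * o⁻¹) = o * (v * (o * v * o⁻¹)) * o⁻¹ := by group
        _ = v * (o * v * o⁻¹) := e
    have e3 := mul_left_cancel e2
    have h2 : Commute (o ^ 2) v := by
      show o ^ 2 * v = v * o ^ 2
      calc o ^ 2 * v = (o * (o * v * o⁻¹) * o⁻¹) * o ^ 2 := by rw [pow_two]; group
        _ = v * o ^ 2 := by rw [e3]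
    have h3 : Commute o v := by
      have := h2.pow_left 2
      rwa [← pow_mul, show (2 * 2 : ℕ) = 3 + 1 from rfl, pow_succ, ho3, one_mul] at this
    rw [h3.eq, mul_inv_cancel_right, V_sq S hne hB hv]
  have hdec : ∀ v ∈ V, ∃ u ∈ U, ∃ w ∈ W, v = u * w := by
    intro v hv
    set v1 := o * v * o⁻¹ with hv1
    set v2 := o * v1 * o⁻¹ with hv2
    have h1 : v1 ∈ V := hconjV hox hv
    have h2 : v2 ∈ V := hconjV hox h1
    refine ⟨(v1 * v2)⁻¹, inv_mem ⟨v1, h1, rfl⟩, v1 * v2 * v, hfix _ (mul_mem (mul_mem h1 h2) hv) ?_,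
      by group⟩
    have h3 : o * v2 * o⁻¹ = v := by
      rw [hv2, hv1]
      calc o * (o * (o * v * o⁻¹) * o⁻¹) * o⁻¹ = o ^ 3 * v * (o ^ 3)⁻¹ := by
            simp only [pow_succ, pow_zero, one_mul]; group
        _ = v := by rw [ho3]; group
    have e : o * (v1 * v2 * v) * o⁻¹ = v1 * v2 * v := by
      calc o * (v1 * v2 * v) * o⁻¹ = (o * v1 * o⁻¹) * (o * v2 * o⁻¹) * (o * v * o⁻¹) := by group
        _ = (v2 * v) * v1 := by rw [h3]
        _ = v1 * (v2 * v) := ((hcommV h1 (mul_mem h2 hv)).eq).symm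
        _ = v1 * v2 * v := by group
    show o * (v1 * v2 * v) = v1 * v2 * v * o
    calc o * (v1 * v2 * v) = o * (v1 * v2 * v) * o⁻¹ * o := by group
      _ = v1 * v2 * v * o := by rw [e]
  -- orders
  obtain ⟨v1, hv1, hv1n⟩ : ∃ v ∈ V, v ∉ OC (Dd G a y) :=
    ⟨v0, hv0, fun h => hc (h.2.2 t htD)⟩
  obtain ⟨z1, hz1, hz1n⟩ : ∃ z ∈ OC (Dd G a y), z ∉ W := by
    by_contra hall
    push Not at hall
    exact OC_not_central S hne hB hy fun z hz m hm => (W_comm S hne hB (hall z hz) hm).symm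
  have cV : Nat.card V = 2 * (2 * Nat.card W) := by
    rw [card_eq_two_mul (OC_le_V S hy) hv1 hv1n fun d hd hdn => hP a y hy v1 hv1 d hd hv1n hdn,
      card_eq_two_mul (fun w hw => W_le_OC S hne hB hy hw) hz1 hz1n
        fun d hd hdn => W_index S hne hB hP hy hz1 hd hz1n hdn]
  have cU : Nat.card U = 4 := by
    have hb : Function.Bijective (fun p : U × W => (⟨p.1 * p.2, mul_mem (hUV p.1.2) p.2.2.1⟩ : V)) := by
      refine ⟨fun p q e => ?_, fun v => ?_⟩
      · have e' : (p.1 : G) * p.2 = q.1 * q.2 := congrArg Subtype.val e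
        have h : (q.1 : G)⁻¹ * p.1 = q.2 * (p.2 : G)⁻¹ := by
          calc (q.1 : G)⁻¹ * p.1 = (q.1 : G)⁻¹ * (p.1 * p.2) * (p.2 : G)⁻¹ := by group
            _ = _ := by rw [e']; group
        have h1 := hUW _ (mul_mem (inv_mem q.1.2) p.1.2) (h ▸ mul_mem q.2.2 (inv_mem p.2.2))
        have e1 : (q.1 : G) = p.1 := inv_mul_eq_one.mp h1
        rw [e1] at e'
        exact Prod.ext (Subtype.ext e1.symm) (Subtype.ext (mul_left_cancel e'))
      · obtain ⟨u, hu, w, hw, e⟩ := hdec v v.2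
        exact ⟨(⟨u, hu⟩, ⟨w, hw⟩), Subtype.ext e.symm⟩
    have := Nat.card_eq_of_bijective _ hb
    rw [Nat.card_prod, cV] at this
    have hpos : 0 < Nat.card W := Nat.card_pos
    nlinarith [this]
  have cSt : Nat.card (stabilizer G a) = 24 * Nat.card W := by
    rw [card_stab_Ker S hne, le_antisymm hKV (V_le_Ker S hne hB a), cV]; ring
  -- the group of order six
  have hto' : ∀ i : ℕ, t * o ^ i = o ^ (2 * i) * t := by
    intro i
    have h1 : t * o ^ i * t⁻¹ = (o⁻¹) ^ i := by rw [← conj_pow, hti, hto]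
    have h2 : o⁻¹ = o ^ 2 := inv_eq_of_mul_eq_one_right (by rw [← pow_succ', ho3])
    rw [h2, ← pow_mul] at h1
    rw [← h1]; group
  let T : Subgroup G :=
    { carrier := {s | ∃ i : ℕ, s = o ^ i ∨ s = o ^ i * t}
      one_mem' := ⟨0, Or.inl (pow_zero o).symm⟩
      mul_mem' := by
        rintro _ _ ⟨i, rfl | rfl⟩ ⟨j, rfl | rfl⟩
        · exact ⟨i + j, Or.inl (pow_add o i j).symm⟩
        · exact ⟨i + j, Or.inr (by rw [pow_add, mul_assoc])⟩
        · exact ⟨i + 2 * j, Or.inr (by rw [mul_assoc, hto', pow_add, mul_assoc])⟩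
        · exact ⟨i + 2 * j, Or.inl (by rw [mul_assoc, ← mul_assoc t, hto', mul_assoc (o ^ (2 * j)), ht2,
            mul_one, pow_add])⟩
      inv_mem' := by
        rintro _ ⟨i, rfl | rfl⟩
        · exact ⟨2 * i, Or.inl (inv_eq_of_mul_eq_one_right (by
            rw [← pow_add, show i + 2 * i = 3 * i by ring, pow_mul, ho3, one_pow]))⟩
        · refine ⟨i, Or.inr (inv_eq_of_mul_eq_one_right ?_)⟩
          rw [mul_assoc, ← mul_assoc t, hto', mul_assoc (o ^ (2 * i)), ht2, mul_one, ← pow_add,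
            show i + 2 * i = 3 * i by ring, pow_mul, ho3, one_pow] }
  have hTmem : ∀ {s}, s ∈ T → ∃ i : ℕ, s = o ^ i ∨ s = o ^ i * t := fun h => h
  have hoT : o ∈ T := ⟨1, Or.inl (pow_one o).symm⟩
  have htT : t ∈ T := ⟨0, Or.inr (by rw [pow_zero, one_mul])⟩
  have hTst : ∀ s ∈ T, s • a = a := by
    intro s hs
    obtain ⟨i, rfl | rfl⟩ := hTmem hs
    · exact stab_pow_mem hox i
    · exact (mul_mem (pow_mem (show o ∈ stabilizer G a from hox) i) (show t ∈ stabilizer G a from htD.1) :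
        o ^ i * t ∈ stabilizer G a)
  have hTV : ∀ s ∈ T, s ∈ V → s = 1 := by
    intro s hs hsV
    have hsD : s ∈ Dd G a y := Ker_le_Dd S hy (V_le_Ker S hne hB a hsV)
    have hpow : ∀ i : ℕ, o ^ i ∈ Dd G a y → o ^ i = 1 := by
      intro i hi
      by_contra h1
      refine not_three_Dd S hy (o := o ^ i) ?_ hi
      haveI : Fact (Nat.Prime 3) := ⟨by norm_num⟩
      exact orderOf_eq_prime (by rw [← pow_mul, mul_comm, pow_mul, ho3, one_pow]) h1
    obtain ⟨i, rfl | rfl⟩ := hTmem hs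
    · exact hpow i hsD
    · have h1 := hpow i (by simpa [mul_assoc, ht2] using mul_mem hsD htD)
      rw [h1, one_mul] at hsV
      exact absurd (V_le_Ker S hne hB a hsV) htk
  have hTU : ∀ s ∈ T, ∀ u ∈ U, s * u * s⁻¹ ∈ U := by
    have h1 : ∀ u ∈ U, o * u * o⁻¹ ∈ U := fun u hu => by
      obtain ⟨v, hv, rfl⟩ := hUmem hu
      exact ⟨o * v * o⁻¹, hconjV hox hv, by group⟩
    have h2 : ∀ u ∈ U, t * u * t⁻¹ ∈ U := fun u hu => by
      obtain ⟨v, hv, rfl⟩ := hUmem hu
      have hw : o⁻¹ * (t * v * t⁻¹) * o ∈ V := by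
        have := hconjV (m := o⁻¹) (inv_smul_eq_iff.mpr hox.symm) (hconjV htD.1 hv)
        rwa [inv_inv] at this
      refine ⟨_, hw, ?_⟩
      have e : t * o * t⁻¹ = o⁻¹ := by rw [hti]; exact hto
      have e2 : o * (o⁻¹ * (t * v * t⁻¹) * o) * o⁻¹ = t * v * t⁻¹ := by group
      rw [e2, ← (hcommV (hconjV htD.1 hv) hw).eq]
      calc t * (v * (o * v * o⁻¹)) * t⁻¹ = (t * v * t⁻¹) * ((t * o * t⁻¹) * (t * v * t⁻¹) * (t * o * t⁻¹)⁻¹) := by
            group
        _ = (t * v * t⁻¹) * (o⁻¹ * (t * v * t⁻¹) * o) := by rw [e, inv_inv]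
    intro s hs
    have hoU : o ∈ Subgroup.normalizer (U : Set G) := Subgroup.mem_normalizer_fintype h1
    have htU : t ∈ Subgroup.normalizer (U : Set G) := Subgroup.mem_normalizer_fintype h2
    have hsU : s ∈ Subgroup.normalizer (U : Set G) := by
      obtain ⟨i, rfl | rfl⟩ := hTmem hs
      · exact pow_mem hoU i
      · exact mul_mem (pow_mem hoU i) htU
    exact fun u hu => (Subgroup.mem_normalizer_iff.mp hsU u).mp hu
  let H0 : Subgroup G :=
    { carrier := {h | ∃ u ∈ U, ∃ s ∈ T, h = u * s}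
      one_mem' := ⟨1, one_mem U, 1, one_mem T, (mul_one 1).symm⟩
      mul_mem' := by
        rintro _ _ ⟨u, hu, s, hs, rfl⟩ ⟨u', hu', s', hs', rfl⟩
        exact ⟨u * (s * u' * s⁻¹), mul_mem hu (hTU s hs u' hu'), s * s', mul_mem hs hs', by group⟩
      inv_mem' := by
        rintro _ ⟨u, hu, s, hs, rfl⟩
        refine ⟨s⁻¹ * u⁻¹ * s⁻¹⁻¹, hTU _ (inv_mem hs) _ (inv_mem hu), s⁻¹, inv_mem hs, by group⟩ }
  have hH0mem : ∀ {h}, h ∈ H0 → ∃ u ∈ U, ∃ s ∈ T, h = u * s := fun h => h
  have hUH : U ≤ H0 := fun u hu => ⟨u, hu, 1, one_mem T, (mul_one u).symm⟩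
  have hTH : T ≤ H0 := fun s hs => ⟨1, one_mem U, s, hs, (one_mul s).symm⟩
  have hH0st : H0 ≤ stabilizer G a := fun h hh => by
    obtain ⟨u, hu, s, hs, rfl⟩ := hH0mem hh
    exact mul_mem (mem_Ker.mp (V_le_Ker S hne hB a (hUV hu))).1 (hTst s hs)
  have hHW : ∀ h ∈ H0, h ∈ W → h = 1 := by
    intro h hh hw
    obtain ⟨u, hu, s, hs, rfl⟩ := hH0mem hh
    have : s ∈ V := by
      have := mul_mem (inv_mem (hUV hu)) hw.1
      rwa [inv_mul_cancel_left] at this
    rw [hTV s hs this, mul_one] at hw ⊢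
    exact hUW u hu hw
  -- `W × H0`
  let Φ : W × H0 →* stabilizer G a :=
    { toFun := fun p => ⟨p.1 * p.2, mul_mem (mem_Ker.mp (V_le_Ker S hne hB a p.1.2.1)).1 (hH0st p.2.2)⟩
      map_one' := Subtype.ext (mul_one 1)
      map_mul' := fun p q => Subtype.ext (by
        have e := (W_comm S hne hB q.1.2 (hH0st p.2.2)).eq
        show (p.1 : G) * q.1 * (p.2 * q.2) = p.1 * p.2 * (q.1 * q.2)
        calc (p.1 : G) * q.1 * (p.2 * q.2) = p.1 * (q.1 * p.2) * q.2 := by group
          _ = p.1 * (p.2 * q.1) * q.2 := by rw [e]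
          _ = _ := by group) }
  have hΦi : Function.Injective Φ := by
    rw [injective_iff_map_eq_one]
    rintro ⟨w, h⟩ e
    have e' : (w : G) * h = 1 := congrArg Subtype.val e
    have hh : (h : G) ∈ W := by rw [eq_inv_of_mul_eq_one_right e']; exact inv_mem w.2
    have h1 := hHW h h.2 hh
    rw [h1, mul_one] at e'
    exact Prod.ext (Subtype.ext e') (Subtype.ext h1)
  have hΦs : Function.Surjective Φ := by
    have hle : stabilizer G a ≤ Φ.range.map (stabilizer G a).subtype := by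
      have hW' : ∀ w ∈ W, w ∈ Φ.range.map (stabilizer G a).subtype := fun w hw =>
        ⟨_, ⟨(⟨w, hw⟩, 1), rfl⟩, mul_one w⟩
      have hH' : ∀ h ∈ H0, h ∈ Φ.range.map (stabilizer G a).subtype := fun h hh =>
        ⟨_, ⟨(1, ⟨h, hh⟩), rfl⟩, one_mul h⟩
      have hV' : ∀ v ∈ V, v ∈ Φ.range.map (stabilizer G a).subtype := fun v hv => by
        obtain ⟨u, hu, w, hw, rfl⟩ := hdec v hv
        exact mul_mem (hH' u (hUH hu)) (hW' w hw)
      refine stab_le_of_mem S hy (fun d hd => ?_) hox hoD (hH' o (hTH hoT))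
      by_cases hdk : d ∈ Ker G a b a
      · exact hV' d (hKV hdk)
      · have := mul_mem (hH' t (hTH htT)) (hV' _ (hKV (mul_mem_Ker S hy htD hd htk hdk)))
        rwa [mul_inv_cancel_left] at this
    intro m
    obtain ⟨_, ⟨p, rfl⟩, hp⟩ := hle m.2
    exact ⟨p, Subtype.ext hp⟩
  let e1 : W × H0 ≃* stabilizer G a := MulEquiv.ofBijective Φ ⟨hΦi, hΦs⟩
  have cH0 : Nat.card H0 = 24 := by
    have := Nat.card_congr e1.toEquiv
    rw [Nat.card_prod, cSt, mul_comm 24] at this
    exact Nat.eq_of_mul_eq_mul_left Nat.card_pos this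
  -- `H0` is the symmetric group of degree four
  let Q : Subgroup H0 := T.subgroupOf H0
  have cQ : Q.index = 4 := by
    have hb : Function.Bijective (fun p : U × T =>
        (⟨p.1 * p.2, mul_mem (hUH p.1.2) (hTH p.2.2)⟩ : H0)) := by
      refine ⟨fun p q e => ?_, fun h => ?_⟩
      · have e' : (p.1 : G) * p.2 = q.1 * q.2 := congrArg Subtype.val e
        have h : (q.1 : G)⁻¹ * p.1 = q.2 * (p.2 : G)⁻¹ := by
          calc (q.1 : G)⁻¹ * p.1 = (q.1 : G)⁻¹ * (p.1 * p.2) * (p.2 : G)⁻¹ := by group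
            _ = _ := by rw [e']; group
        have h1 := hTV _ (h ▸ mul_mem q.2.2 (inv_mem p.2.2)) (hUV (mul_mem (inv_mem q.1.2) p.1.2))
        have e2 : (q.1 : G) = p.1 := inv_mul_eq_one.mp h1
        rw [e2] at e'
        exact Prod.ext (Subtype.ext e2.symm) (Subtype.ext (mul_left_cancel e'))
      · obtain ⟨u, hu, s, hs, e⟩ := hH0mem h.2
        exact ⟨(⟨u, hu⟩, ⟨s, hs⟩), Subtype.ext e.symm⟩
    have h1 := Nat.card_eq_of_bijective _ hb
    rw [Nat.card_prod, cU, cH0] at h1
    have h2 := Q.card_mul_index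
    rw [Nat.card_congr (Subgroup.subgroupOfEquivOfLe hTH).toEquiv, cH0] at h2
    rw [← h1, mul_comm 4] at h2
    exact Nat.eq_of_mul_eq_mul_left Nat.card_pos h2
  let ψ : H0 →* Equiv.Perm (H0 ⧸ Q) := toPermHom H0 (H0 ⧸ Q)
  have hψ : Function.Injective ψ := by
    rw [← MonoidHom.ker_eq_bot_iff, ← Subgroup.normalCore_eq_ker, Subgroup.eq_bot_iff_forall]
    intro s hs
    have hsT : (s : G) ∈ T := Q.normalCore_le hs
    refine Subtype.ext (hTV _ hsT (hKV (cent_V S hne hB (hTst _ hsT) fun v hv => ?_)))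
    obtain ⟨u, hu, w, hw, rfl⟩ := hdec v hv
    refine Commute.mul_right ?_ (W_comm S hne hB hw (hTst _ hsT)).symm
    have hcore := Q.normalCore_le (Q.normalCore_normal.conj_mem s hs ⟨u, hUH hu⟩)
    have h1 : u * (s : G) * u⁻¹ * (s : G)⁻¹ ∈ T := mul_mem hcore (inv_mem hsT)
    have h2 : u * (s : G) * u⁻¹ * (s : G)⁻¹ ∈ V := by
      have := hUV (mul_mem hu (hTU _ hsT _ (inv_mem hu)))
      simpa [mul_assoc] using this
    have h3 := hTV _ h1 h2
    show (s : G) * u = u * s
    calc (s : G) * u = 1 * (s : G) * u := by group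
      _ = (u * (s : G) * u⁻¹ * (s : G)⁻¹) * (s : G) * u := by rw [h3]
      _ = u * s := by group
  let e4 : H0 ⧸ Q ≃ Fin 4 := Finite.equivFinOfCardEq (by rw [← Subgroup.index_eq_card]; exact cQ)
  have hb : Function.Bijective ψ := hψ.bijective_of_nat_card_le (by
    rw [cH0, Nat.card_perm, ← Subgroup.index_eq_card, cQ]; rfl)
  let eH : H0 ≃* Equiv.Perm (Fin 4) := (MulEquiv.ofBijective ψ hb).trans e4.permCongrHom
  by_cases hW1 : ∀ w ∈ W, w = 1
  · left
    have hbij : Function.Bijective (fun h : H0 => ((1 : W), h)) :=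
      ⟨fun _ _ e => (Prod.ext_iff.mp e).2, fun p => ⟨p.2, Prod.ext (Subtype.ext (hW1 _ p.1.2).symm) rfl⟩⟩
    let e0 : H0 ≃* W × H0 := MulEquiv.ofBijective (MonoidHom.inr W H0) hbij
    exact ⟨e1.symm.trans (e0.symm.trans eH)⟩
  · right
    push Not at hW1
    obtain ⟨w, hw, hw1⟩ := hW1
    have cW : Nat.card W = 2 := by
      rw [card_eq_two_mul (H := (⊥ : Subgroup G)) bot_le hw (fun h => hw1 (Subgroup.mem_bot.mp h))
        (fun d hd hdn => by
          rw [W_two S hne hB hP hw hd hw1 fun h => hdn (Subgroup.mem_bot.mpr h), inv_mul_cancel]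
          exact one_mem _), Subgroup.card_bot]
    haveI : Fact (Nat.Prime 2) := ⟨Nat.prime_two⟩
    haveI := isCyclic_of_prime_card cW
    let eW : W ≃* Multiplicative (ZMod 2) := mulEquivOfCyclicCardEq (by rw [cW]; simp)
    exact ⟨e1.symm.trans ((MulEquiv.prodCongr eW eH).trans MulEquiv.prodComm)⟩

end Setting

end H61.Cubic
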