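import Mathlib

set_option autoImplicit false

namespace H61

open MulAction

variable {G Ω : Type*} [Group G] [MulAction G Ω]

/-- A normal subgroup fixing a point of a faithful transitive action is trivial. -/
theorem normal_eq_bot_of_le_stabilizer [FaithfulSMul G Ω] [IsPretransitive G Ω] (N : Subgroup G)
    [N.Normal] (a : Ω) (h : N ≤ stabilizer G a) : N = ⊥ := by
  rw [eq_bot_iff]
  intro n hn
  rw [Subgroup.mem_bot]
  apply eq_of_smul_eq_smul (α := Ω)
  intro x
  obtain ⟨g, rfl⟩ := exists_smul_eq G a x
  have h1 : (g⁻¹ * n * g) • a = a := by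
    have := h (Subgroup.Normal.conj_mem ‹N.Normal› n hn g⁻¹)
    rwa [inv_inv, mem_stabilizer_iff] at this
  rw [one_smul, ← mul_smul]
  conv_rhs => rw [← h1]
  rw [← mul_smul]
  congr 1
  group

/-- In a faithful primitive group, two distinct points with the same stabilizer force the
stabilizer to be trivial. -/
theorem stabilizer_eq_bot_of_le [FaithfulSMul G Ω] (hprim : IsPreprimitive G Ω) {a b : Ω}
    (hab : a ≠ b) (hle : stabilizer G a ≤ stabilizer G b) :
    stabilizer G a = ⊥ := by
  have := hprim.toIsPretransitive
  have := hprim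
  have : Nontrivial Ω := ⟨a, b, hab⟩
  have hco : IsCoatom (stabilizer G a) := (IsPreprimitive.isCoatom_stabilizer_of_isPreprimitive G a)
  have hne : stabilizer G b ≠ ⊤ := ((IsPreprimitive.isCoatom_stabilizer_of_isPreprimitive G b)).ne_top
  have heq : stabilizer G a = stabilizer G b := by
    rcases eq_or_lt_of_le hle with h | h
    · exact h
    · exact absurd (hco.2 _ h) hne
  obtain ⟨g, hg⟩ := exists_smul_eq G a b
  have hgN : g ∈ Subgroup.normalizer ((stabilizer G a : Subgroup G) : Set G) := by
    rw [Subgroup.mem_normalizer_iff]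
    intro h
    conv_rhs => rw [heq]
    simp only [mem_stabilizer_iff, mul_smul]
    rw [← hg, inv_smul_smul, smul_left_cancel_iff]
  have hN : Subgroup.normalizer ((stabilizer G a : Subgroup G) : Set G) = ⊤ := by
    rcases eq_or_lt_of_le (Subgroup.le_normalizer (H := stabilizer G a)) with h | h
    · rw [← h, mem_stabilizer_iff, hg] at hgN
      exact absurd hgN.symm hab
    · exact hco.2 _ h
  have : (stabilizer G a).Normal := Subgroup.normalizer_eq_top_iff.mp hN
  exact normal_eq_bot_of_le_stabilizer _ a le_rfl

/-- A group whose trivial subgroup is maximal has prime order. -/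
theorem card_prime_of_isCoatom_bot [Finite G] (h : IsCoatom (⊥ : Subgroup G)) :
    (Nat.card G).Prime := by
  have hnt : Nontrivial G := by
    rcases subsingleton_or_nontrivial G with hs | hn
    · exact absurd (Subsingleton.elim _ _) h.1
    · exact hn
  obtain ⟨p, hp, hdvd⟩ := Nat.exists_prime_and_dvd (Finite.one_lt_card (α := G)).ne'
  haveI := Fact.mk hp
  obtain ⟨x, hx⟩ := exists_prime_orderOf_dvd_card' p hdvd
  have : Subgroup.zpowers x = ⊤ := by
    apply h.2
    rw [bot_lt_iff_ne_bot, Ne, Subgroup.zpowers_eq_bot]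
    rintro rfl
    rw [orderOf_one] at hx
    exact hp.one_lt.ne hx
  rw [← Subgroup.card_top, ← this, Nat.card_zpowers, hx]
  exact hp

end H61
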