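import Mathlib
import Cfsg.Agent.H61.PrimBasic

/-!
Local structure of a primitive group with a suborbit of length three.
-/

set_option autoImplicit false

namespace H61.Cubic

open MulAction

variable {G Ω : Type*} [Group G] [MulAction G Ω]

/-- `(x, y)` is a translate of `(a, b)`. -/
def Arc (G : Type*) {Ω : Type*} [Group G] [MulAction G Ω] (a b x y : Ω) : Prop :=
  ∃ g : G, g • a = x ∧ g • b = y

/-- Adjacency. -/
def Nb (G : Type*) {Ω : Type*} [Group G] [MulAction G Ω] (a b x y : Ω) : Prop :=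
  Arc G a b x y ∨ Arc G a b y x

/-- The two-point stabiliser. -/
def Dd (G : Type*) {Ω : Type*} [Group G] [MulAction G Ω] (x y : Ω) : Subgroup G :=
  stabilizer G x ⊓ stabilizer G y

/-- The kernel of the action of the stabiliser of `x` on the orbit of `y`. -/
def kerO (G : Type*) {Ω : Type*} [Group G] [MulAction G Ω] (x y : Ω) : Subgroup G :=
  stabilizer G x ⊓ ⨅ m ∈ stabilizer G x, stabilizer G (m • y)

theorem mem_Dd {x y : Ω} {h : G} : h ∈ Dd G x y ↔ h • x = x ∧ h • y = y := Iff.rfl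

theorem Dd_comm (x y : Ω) : Dd G x y = Dd G y x := inf_comm _ _

theorem mem_kerO {x y : Ω} {h : G} :
    h ∈ kerO G x y ↔ h • x = x ∧ ∀ m : G, m • x = x → h • m • y = m • y := by
  simp [kerO, Subgroup.mem_iInf]

theorem conj_smul (g h : G) (x : Ω) : (g * h * g⁻¹) • g • x = g • h • x := by
  simp [mul_smul]

theorem conj_mem_stab {x : Ω} {h : G} (g : G) (hh : h • x = x) : (g * h * g⁻¹) • g • x = g • x := by
  rw [conj_smul, hh]

theorem conj_mem_Dd {x y : Ω} {h : G} (g : G) (hh : h ∈ Dd G x y) :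
    g * h * g⁻¹ ∈ Dd G (g • x) (g • y) :=
  ⟨conj_mem_stab g hh.1, conj_mem_stab g hh.2⟩

theorem kerO_le_Dd (x y : Ω) : kerO G x y ≤ Dd G x y := fun h hh => by
  obtain ⟨h1, h2⟩ := mem_kerO.mp hh
  exact ⟨h1, by simpa using h2 1 (one_smul G x)⟩

theorem conj_mem_kerO {x y : Ω} {h m : G} (hm : m • x = x) (hh : h ∈ kerO G x y) :
    m * h * m⁻¹ ∈ kerO G x y := by
  obtain ⟨h1, h2⟩ := mem_kerO.mp hh
  refine mem_kerO.mpr ⟨by simpa [hm] using conj_mem_stab m h1, fun k hk => ?_⟩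
  have hm' : m⁻¹ • x = x := inv_smul_eq_iff.mpr hm.symm
  have := h2 (m⁻¹ * k) (by rw [mul_smul, hk, hm'])
  rw [mul_smul] at this
  rw [mul_smul, mul_smul, this, smul_inv_smul]

/-- The action on a suborbit of length three. -/
theorem exists_perm (x y : Ω) (h3 : Nat.card (orbit (stabilizer G x) y) = 3) :
    ∃ f : stabilizer G x →* Equiv.Perm (Fin 3),
      (∀ h, f h = 1 ↔ (h : G) ∈ kerO G x y) ∧ (∀ h, f h 0 = 0 ↔ (h : G) • y = y) ∧
        ∀ p, ∃ h, f h 0 = p := by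
  classical
  haveI : Finite (orbit (stabilizer G x) y) := Nat.finite_of_card_ne_zero (by omega)
  let e0 : orbit (stabilizer G x) y ≃ Fin 3 := Finite.equivFinOfCardEq h3
  let y0 : orbit (stabilizer G x) y := ⟨y, mem_orbit_self y⟩
  let e := e0.trans (Equiv.swap (e0 y0) 0)
  have he : e y0 = 0 := by simp [e]
  let f : stabilizer G x →* Equiv.Perm (Fin 3) :=
    e.permCongrHom.toMonoidHom.comp (toPermHom (stabilizer G x) (orbit (stabilizer G x) y))
  have hf : ∀ h p, f h p = e (h • e.symm p) := fun h p => rfl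
  refine ⟨f, fun h => ⟨fun hh => mem_kerO.mpr ⟨h.2, fun m hm => ?_⟩, fun hh => ?_⟩, fun h => ?_, fun p => ?_⟩
  · have := hf h (e ⟨m • y, ⟨⟨m, hm⟩, rfl⟩⟩)
    rw [hh, Equiv.symm_apply_apply, Equiv.Perm.one_apply, EmbeddingLike.apply_eq_iff_eq] at this
    exact (congrArg Subtype.val this).symm
  · refine Equiv.ext fun p => ?_
    obtain ⟨⟨z, m, hm⟩, rfl⟩ := e.surjective p
    rw [hf, Equiv.symm_apply_apply, Equiv.Perm.one_apply, EmbeddingLike.apply_eq_iff_eq]
    refine Subtype.ext ?_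
    show (h : G) • z = z
    rw [← hm]
    exact (mem_kerO.mp hh).2 m m.2
  · rw [hf, show e.symm 0 = y0 by rw [← he, Equiv.symm_apply_apply], ← he, EmbeddingLike.apply_eq_iff_eq,
      Subtype.ext_iff]
    rfl
  · obtain ⟨⟨z, m, hm⟩, rfl⟩ := e.surjective p
    refine ⟨m, ?_⟩
    rw [hf, show e.symm 0 = y0 by rw [← he, Equiv.symm_apply_apply]]
    exact congrArg e (Subtype.ext hm)

theorem perm3_sq : ∀ σ : Equiv.Perm (Fin 3), σ 0 = 0 → σ * σ = 1 := by decide

theorem perm3_fix : ∀ σ τ : Equiv.Perm (Fin 3), σ 0 = 0 → τ 0 = 0 → σ ≠ 1 → τ ≠ 1 → σ = τ := by decide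

set_option maxRecDepth 20000 in
theorem perm3_cube_conj : ∀ σ ρ : Equiv.Perm (Fin 3), σ ≠ 1 → ρ * ρ * ρ = 1 → ρ ≠ 1 →
    σ * σ * σ = 1 ∨ (σ * (ρ * σ * ρ⁻¹)) * (σ * (ρ * σ * ρ⁻¹)) * (σ * (ρ * σ * ρ⁻¹)) = 1 ∧
      σ * (ρ * σ * ρ⁻¹) ≠ 1 := by decide

set_option maxRecDepth 4000 in
theorem perm3_invert : ∀ σ τ : Equiv.Perm (Fin 3), σ * σ * σ = 1 → τ * τ = 1 → τ ≠ 1 →
    τ * σ * τ⁻¹ * σ = 1 := by decide

set_option synthInstance.maxSize 2000 in
set_option maxRecDepth 4000 in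
theorem perm3_no_two : ∀ σ τ : Equiv.Perm (Fin 3), σ * σ = 1 → τ * τ = 1 → σ ≠ 1 → τ ≠ 1 → σ ≠ τ →
    (σ * τ) * (σ * τ) * (σ * τ) = 1 ∧ σ * τ ≠ 1 := by decide

theorem perm3_two_fix : ∀ σ : Equiv.Perm (Fin 3), σ * σ = 1 → ∃ p, σ p = p := by decide

theorem perm3_odd : ∀ σ : Equiv.Perm (Fin 3), σ * σ = 1 → σ * σ * σ = 1 → σ = 1 := by decide

/-- An element whose image has order three yields an element of order three among its powers. -/
theorem exists_order_three [Finite G] {H : Subgroup G} (f : H →* Equiv.Perm (Fin 3)) {c : H}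
    (h1 : f c * f c * f c = 1) (h2 : f c ≠ 1) : ∃ n : ℕ, orderOf ((c : G) ^ n) = 3 := by
  have h3 : orderOf (f c) = 3 := by
    haveI : Fact (Nat.Prime 3) := ⟨by norm_num⟩
    exact orderOf_eq_prime (by rw [pow_succ, pow_succ, pow_one, h1]) h2
  have hd : 3 ∣ orderOf (c : G) := by
    rw [Subgroup.orderOf_coe, ← h3]
    exact orderOf_map_dvd f c
  exact ⟨orderOf (c : G) / 3, orderOf_pow_orderOf_div (orderOf_pos _).ne' hd⟩

section Setting

variable [Finite G] [FaithfulSMul G Ω]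

variable (G) in
/-- A primitive group with a suborbit of length three. -/
structure Setup (a b : Ω) : Prop where
  prim : IsPreprimitive G Ω
  card3 : Nat.card (orbit (stabilizer G a) b) = 3

variable {a b : Ω} (S : Setup G a b)
include S

theorem smul_surj (x y : Ω) : ∃ g : G, g • x = y :=
  haveI := S.prim.toIsPretransitive
  exists_smul_eq G x y

omit [FaithfulSMul G Ω] [Finite G] in
theorem arc_translate {x y : Ω} (g : G) (h : Arc G a b x y) : Arc G a b (g • x) (g • y) := by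
  obtain ⟨k, rfl, rfl⟩ := h
  exact ⟨g * k, mul_smul g k a, mul_smul g k b⟩

omit [FaithfulSMul G Ω] [Finite G] in
theorem nb_translate {x y : Ω} (g : G) (h : Nb G a b x y) : Nb G a b (g • x) (g • y) :=
  h.imp (arc_translate S g) (arc_translate S g)

omit S [FaithfulSMul G Ω] [Finite G] in
theorem nb_symm {x y : Ω} (h : Nb G a b x y) : Nb G a b y x := h.symm

theorem card_stab (x y : Ω) : Nat.card (stabilizer G x) = Nat.card (stabilizer G y) := by
  haveI := S.prim.toIsPretransitive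
  obtain ⟨g, rfl⟩ := exists_smul_eq G x y
  rw [stabilizer_smul_eq_stabilizer_map_conj, Subgroup.card_map_of_injective (MulAut.conj g).injective]

theorem stab_eq_mul {x y : Ω} (h3 : Nat.card (orbit (stabilizer G x) y) = 3) :
    Nat.card (stabilizer G x) = 3 * Nat.card (Dd G x y) := by
  rw [← (stabilizer (stabilizer G x) y).index_mul_card, index_stabilizer, ← Nat.card_coe_set_eq, h3]
  congr 1
  refine Nat.card_congr ⟨fun h => ⟨(h.1 : G), h.1.2, h.2⟩, fun h => ⟨⟨h.1, h.2.1⟩, h.2.2⟩, fun _ => rfl, fun _ => rfl⟩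

theorem card_orbit {x y : Ω} (h : Nb G a b x y) : Nat.card (orbit (stabilizer G x) y) = 3 := by
  have key : ∀ g : G, Nat.card (Dd G (g • a) (g • b)) = Nat.card (Dd G a b) := fun g => by
    refine Nat.card_congr ⟨fun h => ⟨g⁻¹ * (h : G) * g, ?_⟩, fun h => ⟨g * (h : G) * g⁻¹, conj_mem_Dd g h.2⟩,
      fun h => Subtype.ext (by simp [mul_assoc]), fun h => Subtype.ext (by simp [mul_assoc])⟩
    simpa using conj_mem_Dd g⁻¹ h.2
  have hd : Nat.card (Dd G x y) = Nat.card (Dd G a b) := by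
    rcases h with ⟨g, rfl, rfl⟩ | ⟨g, rfl, rfl⟩
    · exact key g
    · rw [Dd_comm]; exact key g
  have h1 := stab_eq_mul S S.card3
  have h2 := (stabilizer (stabilizer G x) y).index_mul_card
  rw [index_stabilizer, ← Nat.card_coe_set_eq, card_stab S x a, h1, ← hd] at h2
  have e : Nat.card (stabilizer (stabilizer G x) y) = Nat.card (Dd G x y) :=
    Nat.card_congr ⟨fun h => ⟨(h.1 : G), h.1.2, h.2⟩, fun h => ⟨⟨h.1, h.2.1⟩, h.2.2⟩, fun _ => rfl, fun _ => rfl⟩
  rw [e] at h2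
  exact Nat.eq_of_mul_eq_mul_right Nat.card_pos h2

theorem card_Dd {x y : Ω} (h : Nb G a b x y) : Nat.card (Dd G x y) = Nat.card (Dd G a b) := by
  have h1 := stab_eq_mul S (card_orbit S h)
  have h2 := stab_eq_mul S S.card3
  rw [card_stab S x a, h2] at h1
  omega

theorem ne_of_nb {x y : Ω} (h : Nb G a b x y) : x ≠ y := by
  rintro rfl
  have := card_orbit S h
  haveI : Subsingleton (orbit (stabilizer G x) x) := ⟨fun ⟨p, m, hm⟩ ⟨q, k, hk⟩ => by
    apply Subtype.ext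
    have hm' : (m : G) • x = p := hm
    have hk' : (k : G) • x = q := hk
    exact ((hm'.symm.trans (mem_stabilizer_iff.mp m.2))).trans ((hk'.symm.trans (mem_stabilizer_iff.mp k.2)).symm)⟩
  have := Finite.card_le_one_iff_subsingleton.mpr ‹Subsingleton (orbit (stabilizer G x) x)›
  omega

theorem stab_ne_bot (x : Ω) : stabilizer G x ≠ ⊥ := by
  intro h
  have h1 := stab_eq_mul S S.card3
  rw [card_stab S a x, h, Subgroup.card_bot] at h1
  omega

theorem eq_of_stab_eq {x y : Ω} (h : stabilizer G x ≤ stabilizer G y) : x = y := by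
  by_contra hne
  exact stab_ne_bot S x (H61.stabilizer_eq_bot_of_le S.prim hne h)

/-- A subgroup normalised by two adjacent stabilisers and inside one of them is trivial. -/
theorem eq_bot_of_normalized {x y : Ω} (h : Nb G a b x y) {X : Subgroup G} (hX : X ≤ stabilizer G x)
    (h1 : ∀ m : G, m • x = x → ∀ z ∈ X, m * z * m⁻¹ ∈ X) (h2 : ∀ m : G, m • y = y → ∀ z ∈ X, m * z * m⁻¹ ∈ X) :
    X = ⊥ := by
  haveI := S.prim
  haveI : Nontrivial Ω := ⟨x, y, ne_of_nb S h⟩
  have hn : ∀ (w : Ω), (∀ m : G, m • w = w → ∀ z ∈ X, m * z * m⁻¹ ∈ X) →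
      stabilizer G w ≤ Subgroup.normalizer (X : Set G) := by
    intro w hw m hm
    rw [Subgroup.mem_normalizer_iff]
    refine fun z => ⟨hw m hm z, fun hz => ?_⟩
    have := hw m⁻¹ (inv_smul_eq_iff.mpr hm.symm) _ hz
    simpa [mul_assoc] using this
  have htop : Subgroup.normalizer (X : Set G) = ⊤ := by
    refine (IsPreprimitive.isCoatom_stabilizer_of_isPreprimitive G x).2 _ (lt_of_le_of_ne (hn x h1) fun e => ?_)
    exact ne_of_nb S h (eq_of_stab_eq S ((hn y h2).trans e.ge)).symm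
  haveI : X.Normal := Subgroup.normalizer_eq_top_iff.mp htop
  exact H61.normal_eq_bot_of_le_stabilizer X x hX

/-- The two-point stabiliser is a 2-group. -/
theorem two_pow_Dd {x y : Ω} (h : Nb G a b x y) {d : G} (hd : d ∈ Dd G x y) : ∃ k : ℕ, d ^ 2 ^ k = 1 := by
  classical
  let O : Set G := {z | z ∈ Dd G x y ∧ Odd (orderOf z)}
  have hker : ∀ p q : Ω, Nb G a b p q → ∀ z ∈ Dd G p q, Odd (orderOf z) → z ∈ kerO G p q := by
    intro p q hpq z hz hodd
    obtain ⟨f, hf1, hf2, -⟩ := exists_perm p q (card_orbit S hpq)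
    have hsq := perm3_sq _ ((hf2 ⟨z, hz.1⟩).mpr hz.2)
    refine (hf1 ⟨z, hz.1⟩).mp ?_
    have h2 : orderOf (f ⟨z, hz.1⟩) ∣ 2 := orderOf_dvd_of_pow_eq_one (by rw [pow_two, hsq])
    have h3 : orderOf (f ⟨z, hz.1⟩) ∣ orderOf z := by
      rw [← Subgroup.orderOf_mk (H := stabilizer G p) z hz.1]
      exact orderOf_map_dvd f _
    have h4 : orderOf (f ⟨z, hz.1⟩) ∣ 1 := by
      have := Nat.dvd_gcd h2 h3
      rwa [Nat.coprime_two_left.mpr hodd] at this
    exact orderOf_eq_one_iff.mp (Nat.dvd_one.mp h4)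
  have hinv : ∀ p q : Ω, Nb G a b p q → Dd G p q = Dd G x y → ∀ m : G, m • p = p →
      ∀ z ∈ Subgroup.closure O, m * z * m⁻¹ ∈ Subgroup.closure O := by
    intro p q hpq he m hm z hz
    induction hz using Subgroup.closure_induction with
    | mem z hz =>
      refine Subgroup.subset_closure ⟨he ▸ kerO_le_Dd p q (conj_mem_kerO hm (hker p q hpq z (he ▸ hz.1) hz.2)), ?_⟩
      rw [← MulAut.conj_apply, MulEquiv.orderOf_eq]
      exact hz.2
    | one => simp
    | mul u v _ _ hu hv => simpa [mul_assoc] using mul_mem hu hv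
    | inv u _ hu => simpa [mul_assoc] using inv_mem hu
  have hbot := eq_bot_of_normalized S h
    ((Subgroup.closure_le _).mpr fun z hz => hz.1.1) (hinv x y h rfl) (hinv y x (nb_symm h) (Dd_comm y x))
  obtain ⟨k, m, hm, hkm⟩ := Nat.exists_eq_two_pow_mul_odd (orderOf_pos d).ne'
  refine ⟨k, ?_⟩
  have : d ^ 2 ^ k ∈ (⊥ : Subgroup G) := hbot ▸ Subgroup.subset_closure ⟨pow_mem hd _, by
    rw [orderOf_pow_of_dvd (by positivity) (hkm ▸ dvd_mul_right _ _), hkm,
      Nat.mul_div_cancel_left _ (by positivity)]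
    exact hm⟩
  exact Subgroup.mem_bot.mp this

theorem not_three_Dd {x y : Ω} (h : Nb G a b x y) {o : G} (ho : orderOf o = 3) : o ∉ Dd G x y := by
  intro hd
  obtain ⟨k, hk⟩ := two_pow_Dd S h hd
  have h3 := orderOf_dvd_of_pow_eq_one hk
  rw [ho] at h3
  have := (Nat.prime_dvd_prime_iff_eq Nat.prime_three Nat.prime_two).mp (Nat.prime_three.dvd_of_dvd_pow h3)
  omega

/-- A 2-subgroup of the stabiliser of `x` fixes a point of each suborbit of length three. -/
theorem two_sub_fix {x y : Ω} (h : Nb G a b x y) {P : Subgroup G} (hP : ∀ z ∈ P, z • x = x)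
    (h2 : ∀ z ∈ P, ∃ k : ℕ, z ^ 2 ^ k = 1) : ∃ m : G, m • x = x ∧ P ≤ Dd G x (m • y) := by
  classical
  obtain ⟨f, hf1, hf2, hf3⟩ := exists_perm x y (card_orbit S h)
  have himg : ∀ z (hz : z • x = x), z ∈ P → f ⟨z, hz⟩ * f ⟨z, hz⟩ = 1 := by
    intro z hz hzP
    obtain ⟨k, hk⟩ := h2 z hzP
    have hd : orderOf (f ⟨z, hz⟩) ∣ 2 ^ k := by
      refine orderOf_dvd_of_pow_eq_one ?_
      rw [← map_pow, show (⟨z, hz⟩ : stabilizer G x) ^ 2 ^ k = 1 from Subtype.ext (by simpa using hk), map_one]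
    have h6 : orderOf (f ⟨z, hz⟩) ∣ 6 := by
      have := orderOf_dvd_natCard (f ⟨z, hz⟩)
      rwa [Nat.card_eq_fintype_card, Fintype.card_perm, Fintype.card_fin] at this
    have hg : orderOf (f ⟨z, hz⟩) ∣ 2 := by
      obtain ⟨i, -, hi⟩ := (Nat.dvd_prime_pow Nat.prime_two).mp hd
      rw [hi] at h6 ⊢
      rcases i with _ | _ | i
      · norm_num
      · norm_num
      · exfalso
        have : 4 ∣ 6 := dvd_trans ⟨2 ^ i, by ring⟩ h6
        norm_num at this
    rw [← pow_two]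
    exact orderOf_dvd_iff_pow_eq_one.mp hg
  by_cases hex : ∃ z, ∃ hz : z • x = x, z ∈ P ∧ f ⟨z, hz⟩ ≠ 1
  · obtain ⟨z, hz, hzP, hne⟩ := hex
    obtain ⟨p, hp⟩ := perm3_two_fix _ (himg z hz hzP)
    obtain ⟨m, hm⟩ := hf3 p
    refine ⟨m, m.2, fun w hw => ?_⟩
    have hwx := hP w hw
    have hfix : f ⟨w, hwx⟩ p = p := by
      by_cases hw1 : f ⟨w, hwx⟩ = 1
      · rw [hw1]; rfl
      by_cases heq : f ⟨w, hwx⟩ = f ⟨z, hz⟩
      · rw [heq]; exact hp
      exfalso
      obtain ⟨e1, e2⟩ := perm3_no_two _ _ (himg w hwx hw) (himg z hz hzP) hw1 hne heq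
      rw [← map_mul] at e1 e2
      have hmul : w * z ∈ P := mul_mem hw hzP
      exact e2 (perm3_odd _ (himg (w * z) (hP _ hmul) hmul) e1)
    have h0 : f (m⁻¹ * ⟨w, hwx⟩ * m) 0 = 0 := by
      rw [map_mul, map_mul, map_inv, Equiv.Perm.mul_apply, Equiv.Perm.mul_apply, hm, hfix,
        Equiv.Perm.inv_eq_iff_eq, hm]
    have := (hf2 _).mp h0
    simp only [Subgroup.coe_mul, Subgroup.coe_inv, mul_smul, inv_smul_eq_iff] at this
    exact ⟨hwx, this⟩
  · push Not at hex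
    refine ⟨1, one_smul G x, fun w hw => ?_⟩
    rw [one_smul]
    exact kerO_le_Dd x y ((hf1 ⟨w, hP w hw⟩).mp (hex w (hP w hw) hw))

/-- Every two-point stabiliser at `x` is one along a given suborbit. -/
theorem exists_Dd_eq {x y z : Ω} (h : Nb G a b x y) (h' : Nb G a b x z) :
    ∃ m : G, m • x = x ∧ Dd G x z = Dd G x (m • y) := by
  obtain ⟨m, hm, hle⟩ := two_sub_fix S h (P := Dd G x z) (fun w hw => hw.1) (fun w hw => two_pow_Dd S h' hw)
  refine ⟨m, hm, Subgroup.eq_of_le_of_card_ge hle (le_of_eq ?_)⟩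
  rw [card_Dd S h', card_Dd S (hm ▸ nb_translate S m h)]

/-- Every 2-element of the stabiliser of `b` fixes `a` if `D` is in the kernel at `a`. -/
theorem fix_of_kerO_eq (h0 : ∀ d ∈ Dd G a b, d ∈ kerO G a b) {z : G} (hz : z • b = b) {k : ℕ}
    (hk : z ^ 2 ^ k = 1) : z • a = a := by
  obtain ⟨g, hg⟩ := smul_surj S a b
  have hnb : Nb G a b a b := Or.inl ⟨1, one_smul G a, one_smul G b⟩
  -- every 2-element at `a` is in `D`
  have hall : ∀ w : G, w • a = a → (∃ k : ℕ, w ^ 2 ^ k = 1) → w ∈ Dd G a b := by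
    intro w hw hw2
    obtain ⟨m, hm, hle⟩ := two_sub_fix S hnb (P := Subgroup.zpowers w) (fun u hu => by
        obtain ⟨i, rfl⟩ := Subgroup.mem_zpowers_iff.mp hu
        exact (zpow_mem (show w ∈ stabilizer G a from hw) i : w ^ i ∈ stabilizer G a))
      (fun u hu => by
        obtain ⟨i, rfl⟩ := Subgroup.mem_zpowers_iff.mp hu
        obtain ⟨k, hk⟩ := hw2
        exact ⟨k, by rw [← zpow_natCast, ← zpow_mul, mul_comm, zpow_mul, zpow_natCast, hk, one_zpow]⟩)
    have hwm := hle (Subgroup.mem_zpowers w)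
    have hm' : m⁻¹ • a = a := inv_smul_eq_iff.mpr hm.symm
    have h1 : m⁻¹ * w * m⁻¹⁻¹ ∈ Dd G a b := by
      have := conj_mem_Dd m⁻¹ hwm
      rwa [hm', inv_smul_smul] at this
    have h2 := conj_mem_kerO hm (h0 _ h1)
    exact kerO_le_Dd a b (by simpa [mul_assoc] using h2)
  -- hence `g` normalises `D`
  have hsub : ∀ w ∈ Dd G a b, g⁻¹ * w * g ∈ Dd G a b := by
    intro w hw
    obtain ⟨j, hj⟩ := two_pow_Dd S hnb hw
    refine hall _ ?_ ⟨j, ?_⟩
    · rw [mul_smul, mul_smul, hg, hw.2, inv_smul_eq_iff, hg]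
    · have := conj_pow (i := 2 ^ j) (a := g⁻¹) (b := w)
      rw [inv_inv] at this
      rw [this, hj]; simp
  let φ : Dd G a b → Dd G a b := fun w => ⟨g⁻¹ * w * g, hsub w w.2⟩
  have hφ : Function.Surjective φ := Finite.injective_iff_surjective.mp fun u v huv => by
    have e : g⁻¹ * (u : G) * g = g⁻¹ * (v : G) * g := congrArg Subtype.val huv
    exact Subtype.ext (mul_left_cancel (mul_right_cancel e))
  have hz' : g⁻¹ * z * g ∈ Dd G a b := by
    refine hall _ ?_ ⟨k, ?_⟩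
    · rw [mul_smul, mul_smul, hg, hz, inv_smul_eq_iff, hg]
    · have := conj_pow (i := 2 ^ k) (a := g⁻¹) (b := z)
      rw [inv_inv] at this
      rw [this, hk]; simp
  obtain ⟨w, hw⟩ := hφ ⟨_, hz'⟩
  have : z = (w : G) := by
    have e : g⁻¹ * (w : G) * g = g⁻¹ * z * g := congrArg Subtype.val hw
    exact (mul_left_cancel (mul_right_cancel e)).symm
  rw [this]
  exact w.2.1

/-- Either the two-point stabiliser is trivial or it is never in the kernel of the local action. -/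
theorem exists_not_kerO (hne : Dd G a b ≠ ⊥) {x y : Ω} (h : Nb G a b x y) :
    ∃ d ∈ Dd G x y, d ∉ kerO G x y := by
  by_contra hc
  push Not at hc
  have hsym : ∀ {p q : Ω} {g : G}, Dd G p q ≠ ⊥ → Dd G (g • p) (g • q) ≠ ⊥ := fun {p q g} hpq e => hpq (by
    rw [eq_bot_iff]
    intro w hw
    have := e ▸ conj_mem_Dd g hw
    rw [Subgroup.mem_bot] at this ⊢
    simpa [mul_assoc] using congrArg (fun u => g⁻¹ * u * g) this)
  -- reduce to the standard pair, in either direction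
  have key : ∀ {p q : Ω}, Setup G p q → Dd G p q ≠ ⊥ → (∀ d ∈ Dd G p q, d ∈ kerO G p q) → False := by
    intro p q T hpq h0
    refine hpq (eq_bot_of_normalized T (Or.inl ⟨1, one_smul G p, one_smul G q⟩) inf_le_left ?_ ?_)
    · intro m hm z hz
      exact kerO_le_Dd p q (conj_mem_kerO hm (h0 z hz))
    · intro m hm z hz
      obtain ⟨k, hk⟩ := two_pow_Dd T (Or.inl ⟨1, one_smul G p, one_smul G q⟩) hz
      have hq : (m * z * m⁻¹) • q = q := by simpa [hm] using conj_mem_stab m hz.2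
      exact ⟨fix_of_kerO_eq T h0 hq (k := k) (by rw [conj_pow, hk]; simp), hq⟩
  refine key ⟨S.prim, card_orbit S h⟩ ?_ hc
  rcases h with ⟨g, rfl, rfl⟩ | ⟨g, rfl, rfl⟩
  · exact hsym hne
  · rw [Dd_comm]; exact hsym hne

end Setting

end H61.Cubic
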