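import Cfsg.Agent.H61.CubicLocal

/-!
The kernel, the module `V` and the fixed part `W` at a point of a cubic suborbit.
-/

set_option autoImplicit false

namespace H61.Cubic

open MulAction
open scoped commutatorElement

variable {G Ω : Type*} [Group G] [MulAction G Ω]

/-- Fixing `x` and all its neighbours. -/
def Ker (G : Type*) {Ω : Type*} [Group G] [MulAction G Ω] (a b x : Ω) : Subgroup G :=
  stabilizer G x ⊓ ⨅ (y : Ω) (_ : Nb G a b x y), stabilizer G y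

theorem mem_Ker {a b x : Ω} {h : G} :
    h ∈ Ker G a b x ↔ h • x = x ∧ ∀ y, Nb G a b x y → h • y = y := by
  simp [Ker, Subgroup.mem_iInf]

/-- Central elements of square one. -/
def OC (H : Subgroup G) : Subgroup G where
  carrier := {z | z ∈ H ∧ z * z = 1 ∧ ∀ d ∈ H, Commute z d}
  mul_mem' {u v} hu hv := ⟨mul_mem hu.1 hv.1, by
    have := hu.2.2 v hv.1
    rw [mul_assoc, ← mul_assoc v u v, ← this.eq, mul_assoc u v v, hv.2.1, mul_one, hu.2.1],
    fun d hd => (hu.2.2 d hd).mul_left (hv.2.2 d hd)⟩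
  one_mem' := ⟨one_mem H, mul_one 1, fun d _ => Commute.one_left d⟩
  inv_mem' {u} hu := ⟨inv_mem hu.1, by rw [← mul_inv_rev, hu.2.1, inv_one], fun d hd => (hu.2.2 d hd).inv_left⟩

theorem conj_mem_OC {H H' : Subgroup G} (g : G) (h : ∀ d, d ∈ H ↔ g * d * g⁻¹ ∈ H') {z : G}
    (hz : z ∈ OC H) : g * z * g⁻¹ ∈ OC H' := by
  refine ⟨(h z).mp hz.1, ?_, fun d hd => ?_⟩
  · calc g * z * g⁻¹ * (g * z * g⁻¹) = g * (z * z) * g⁻¹ := by group
      _ = 1 := by rw [hz.2.1]; group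
  · have hd' : g⁻¹ * d * g ∈ H := (h _).mpr (by simpa [mul_assoc] using hd)
    have := (hz.2.2 _ hd').map (MulAut.conj g).toMonoidHom
    simpa [mul_assoc] using this

/-- The module. -/
def Vmod (G : Type*) {Ω : Type*} [Group G] [MulAction G Ω] (a b x : Ω) : Subgroup G :=
  Subgroup.closure {z | ∃ y, Nb G a b x y ∧ z ∈ OC (Dd G x y)}

/-- The fixed part. -/
def Wfix (G : Type*) {Ω : Type*} [Group G] [MulAction G Ω] (a b x : Ω) : Subgroup G :=
  Vmod G a b x ⊓ Subgroup.centralizer (stabilizer G x : Set G)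

theorem conj_mem_iff_Dd (g : G) (x y : Ω) (d : G) :
    d ∈ Dd G x y ↔ g * d * g⁻¹ ∈ Dd G (g • x) (g • y) := by
  refine ⟨conj_mem_Dd g, fun h => ?_⟩
  have := conj_mem_Dd g⁻¹ h
  rw [inv_smul_smul, inv_smul_smul] at this
  simpa [mul_assoc] using this

section Setting

variable [Finite G] [FaithfulSMul G Ω] {a b : Ω} (S : Setup G a b)
include S

theorem exists_nb (x : Ω) : ∃ y, Nb G a b x y := by
  obtain ⟨g, rfl⟩ := smul_surj S a x
  exact ⟨g • b, Or.inl ⟨g, rfl, rfl⟩⟩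

theorem Ker_le_Dd {x y : Ω} (h : Nb G a b x y) : Ker G a b x ≤ Dd G x y := fun z hz =>
  ⟨(mem_Ker.mp hz).1, (mem_Ker.mp hz).2 y h⟩

theorem Ker_eq {x y : Ω} (h : Nb G a b x y) : Ker G a b x = kerO G x y := by
  refine le_antisymm (fun z hz => ?_) fun z hz => ?_
  · obtain ⟨h1, h2⟩ := mem_Ker.mp hz
    exact mem_kerO.mpr ⟨h1, fun m hm => h2 _ (hm ▸ nb_translate S m h)⟩
  · obtain ⟨h1, h2⟩ := mem_kerO.mp hz
    refine mem_Ker.mpr ⟨h1, fun w hw => ?_⟩
    obtain ⟨m, hm, he⟩ := exists_Dd_eq S h hw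
    have : z ∈ Dd G x w := he ▸ ⟨h1, h2 m hm⟩
    exact this.2

theorem conj_mem_Ker (g : G) {x : Ω} {z : G} (hz : z ∈ Ker G a b x) :
    g * z * g⁻¹ ∈ Ker G a b (g • x) := by
  obtain ⟨h1, h2⟩ := mem_Ker.mp hz
  refine mem_Ker.mpr ⟨conj_mem_stab g h1, fun y hy => ?_⟩
  have := h2 (g⁻¹ • y) (by simpa using nb_translate S g⁻¹ hy)
  rw [mul_smul, mul_smul, this, smul_inv_smul]

theorem conj_mem_V (g : G) {x : Ω} {z : G} (hz : z ∈ Vmod G a b x) :
    g * z * g⁻¹ ∈ Vmod G a b (g • x) := by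
  induction hz using Subgroup.closure_induction with
  | mem z hz =>
    obtain ⟨y, hy, hzy⟩ := hz
    exact Subgroup.subset_closure ⟨g • y, nb_translate S g hy, conj_mem_OC g (conj_mem_iff_Dd g x y) hzy⟩
  | one => simp
  | mul u v _ _ hu hv => simpa [mul_assoc] using mul_mem hu hv
  | inv u _ hu => simpa [mul_assoc] using inv_mem hu

theorem conj_mem_W (g : G) {x : Ω} {z : G} (hz : z ∈ Wfix G a b x) :
    g * z * g⁻¹ ∈ Wfix G a b (g • x) := by
  refine ⟨conj_mem_V S g hz.1, Subgroup.mem_centralizer_iff.mpr fun m hm => ?_⟩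
  have hm' : g⁻¹ * m * g ∈ stabilizer G x := by
    rw [mem_stabilizer_iff, mul_smul, mul_smul, mem_stabilizer_iff.mp hm, inv_smul_smul]
  have e := Subgroup.mem_centralizer_iff.mp hz.2 _ hm'
  calc m * (g * z * g⁻¹) = g * ((g⁻¹ * m * g) * z) * g⁻¹ := by group
    _ = g * (z * (g⁻¹ * m * g)) * g⁻¹ := by rw [e]
    _ = g * z * g⁻¹ * m := by group

omit S in
theorem stab_pow_mem {x : Ω} {c : G} (hc : c • x = x) (n : ℕ) : (c ^ n) • x = x :=
  mem_stabilizer_iff.mp (pow_mem (mem_stabilizer_iff.mpr hc) n)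

theorem exists_o (x : Ω) : ∃ o : G, o • x = x ∧ orderOf o = 3 := by
  haveI : Fact (Nat.Prime 3) := ⟨by norm_num⟩
  obtain ⟨y, hy⟩ := exists_nb S x
  obtain ⟨o, ho⟩ := exists_prime_orderOf_dvd_card' (G := stabilizer G x) 3
    (by rw [stab_eq_mul S (card_orbit S hy)]; exact dvd_mul_right 3 _)
  exact ⟨o, o.2, by rw [Subgroup.orderOf_coe]; exact ho⟩

theorem sq_mem_Ker {x y : Ω} (h : Nb G a b x y) {d : G} (hd : d ∈ Dd G x y) : d * d ∈ Ker G a b x := by
  obtain ⟨f, hf1, hf2, -⟩ := exists_perm x y (card_orbit S h)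
  rw [Ker_eq S h]
  have := perm3_sq _ ((hf2 ⟨d, hd.1⟩).mpr hd.2)
  rw [← map_mul] at this
  exact (hf1 _).mp this

theorem mul_mem_Ker {x y : Ω} (h : Nb G a b x y) {d d' : G} (hd : d ∈ Dd G x y) (hd' : d' ∈ Dd G x y)
    (hk : d ∉ Ker G a b x) (hk' : d' ∉ Ker G a b x) : d⁻¹ * d' ∈ Ker G a b x := by
  obtain ⟨f, hf1, hf2, -⟩ := exists_perm x y (card_orbit S h)
  rw [Ker_eq S h] at hk hk' ⊢
  have := perm3_fix _ _ ((hf2 ⟨d, hd.1⟩).mpr hd.2) ((hf2 ⟨d', hd'.1⟩).mpr hd'.2)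
    (fun e => hk ((hf1 _).mp e)) (fun e => hk' ((hf1 _).mp e))
  refine (hf1 (⟨d, hd.1⟩⁻¹ * ⟨d', hd'.1⟩)).mp ?_
  rw [map_mul, map_inv, this, inv_mul_cancel]

theorem not_three_Ker {x : Ω} {o : G} (ho : orderOf o = 3) : o ∉ Ker G a b x := fun h => by
  obtain ⟨y, hy⟩ := exists_nb S x
  exact not_three_Dd S hy ho (Ker_le_Dd S hy h)

/-- A subgroup normalised by the stabiliser and outside the kernel has an element of order three. -/
theorem exists_three_mem {x : Ω} {C : Subgroup G} (hC : ∀ c ∈ C, c • x = x)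
    (hn : ∀ m : G, m • x = x → ∀ c ∈ C, m * c * m⁻¹ ∈ C) {c : G} (hc : c ∈ C) (hk : c ∉ Ker G a b x) :
    ∃ o ∈ C, orderOf o = 3 := by
  obtain ⟨y, hy⟩ := exists_nb S x
  obtain ⟨f, hf1, -, -⟩ := exists_perm x y (card_orbit S hy)
  rw [Ker_eq S hy] at hk
  have hne : f ⟨c, hC c hc⟩ ≠ 1 := fun e => hk ((hf1 _).mp e)
  obtain ⟨o, hox, ho⟩ := exists_o S x
  have hρ : f ⟨o, hox⟩ * f ⟨o, hox⟩ * f ⟨o, hox⟩ = 1 := by
    rw [← map_mul, ← map_mul]
    convert map_one f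
    refine Subtype.ext ?_
    have := pow_orderOf_eq_one o
    rw [ho] at this
    simpa [pow_succ] using this
  have hρ1 : f ⟨o, hox⟩ ≠ 1 := fun e => not_three_Ker S ho (Ker_eq S hy ▸ (hf1 _).mp e)
  rcases perm3_cube_conj _ _ hne hρ hρ1 with h | ⟨h, h'⟩
  · obtain ⟨k, hk⟩ := exists_order_three f h hne
    exact ⟨_, pow_mem hc k, hk⟩
  · rw [← map_inv, ← map_mul, ← map_mul, ← map_mul] at h'
    rw [← map_inv, ← map_mul, ← map_mul, ← map_mul] at h
    obtain ⟨k, hk⟩ := exists_order_three f h h'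
    exact ⟨_, pow_mem (show c * (o * c * o⁻¹) ∈ C from mul_mem hc (hn o hox c hc)) k, hk⟩

variable (hne : Dd G a b ≠ ⊥)
include hne

theorem exists_not_Ker {x y : Ω} (h : Nb G a b x y) : ∃ d ∈ Dd G x y, d ∉ Ker G a b x := by
  obtain ⟨d, hd, hd'⟩ := exists_not_kerO S hne h
  exact ⟨d, hd, Ker_eq S h ▸ hd'⟩

theorem Dd_move_ne {x y : Ω} (h : Nb G a b x y) {o : G} (ho : o • x = x) (ho3 : orderOf o = 3) :
    Dd G x (o • y) ≠ Dd G x y := by
  intro he
  obtain ⟨d, hd, hdk⟩ := exists_not_Ker S hne h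
  obtain ⟨f, hf1, hf2, -⟩ := exists_perm x y (card_orbit S h)
  have hfo : f ⟨o, ho⟩ 0 ≠ 0 := fun e => not_three_Dd S h ho3 ⟨ho, (hf2 _).mp e⟩
  have h0 := (hf2 ⟨d, hd.1⟩).mpr hd.2
  have h1 : d ∈ Dd G x (o • y) := he ▸ hd
  have h2 : f (⟨o, ho⟩⁻¹ * ⟨d, hd.1⟩ * ⟨o, ho⟩) 0 = 0 := (hf2 _).mpr (by
    simp only [Subgroup.coe_mul, Subgroup.coe_inv, mul_smul, (mem_Dd.mp h1).2, inv_smul_smul])
  rw [map_mul, map_mul, map_inv, Equiv.Perm.mul_apply, Equiv.Perm.mul_apply, Equiv.Perm.inv_eq_iff_eq] at h2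
  have key : ∀ (σ : Equiv.Perm (Fin 3)) (p : Fin 3), σ 0 = 0 → p ≠ 0 → σ p = p → σ = 1 := by decide
  exact hdk (Ker_eq S h ▸ (hf1 _).mp (key _ _ h0 hfo h2))

theorem exists_ne_conj {x y z : Ω} (hy : Nb G a b x y) (hz : Nb G a b x z) :
    ∃ m : G, m • x = x ∧ Dd G x (m • z) ≠ Dd G x y := by
  by_cases h : Dd G x z = Dd G x y
  · obtain ⟨o, ho, ho3⟩ := exists_o S x
    exact ⟨o, ho, h ▸ Dd_move_ne S hne hz ho ho3⟩
  · exact ⟨1, one_smul G x, by rwa [one_smul]⟩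

theorem inf_le_Ker {x y z : Ω} (hy : Nb G a b x y) (hz : Nb G a b x z) (h : Dd G x y ≠ Dd G x z)
    {w : G} (h1 : w ∈ Dd G x y) (h2 : w ∈ Dd G x z) : w ∈ Ker G a b x := by
  by_contra hw
  refine h (Subgroup.eq_of_le_of_card_ge (fun d hd => ?_) (by rw [card_Dd S hy, card_Dd S hz]))
  by_cases hdk : d ∈ Ker G a b x
  · exact Ker_le_Dd S hz hdk
  · have := Ker_le_Dd S hz (mul_mem_Ker S hy h1 hd hw hdk)
    simpa using mul_mem h2 this

omit hne in
theorem stab_le_of_mem {x y : Ω} (h : Nb G a b x y) {H : Subgroup G} (hD : Dd G x y ≤ H) {t : G}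
    (ht : t • x = x) (htD : t ∉ Dd G x y) (htH : t ∈ H) : stabilizer G x ≤ H := by
  have h1 : Dd G x y ≤ H ⊓ stabilizer G x := le_inf hD inf_le_left
  have hd1 := Subgroup.card_dvd_of_le h1
  have hd2 := Subgroup.card_dvd_of_le (inf_le_right : H ⊓ stabilizer G x ≤ stabilizer G x)
  rw [stab_eq_mul S (card_orbit S h)] at hd2
  obtain ⟨c, hc⟩ := hd1
  rw [hc, mul_comm 3] at hd2
  have hc3 : c ∣ 3 := Nat.dvd_of_mul_dvd_mul_left Nat.card_pos hd2
  rcases (Nat.dvd_prime Nat.prime_three).mp hc3 with rfl | rfl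
  · exfalso
    rw [mul_one] at hc
    have := Subgroup.eq_of_le_of_card_ge h1 hc.le
    exact htD (this.symm ▸ ⟨htH, ht⟩)
  · have := Subgroup.eq_of_le_of_card_ge (inf_le_right : H ⊓ stabilizer G x ≤ stabilizer G x)
      (by rw [hc, stab_eq_mul S (card_orbit S h), mul_comm])
    rw [← this]
    exact inf_le_left

omit hne in
theorem exists_swap {x y : Ω} (h : Nb G a b x y) :
    ∃ g : G, g • x = y ∧ ∀ d, d ∈ Dd G x y ↔ g * d * g⁻¹ ∈ Dd G x y := by
  obtain ⟨g0, hg0⟩ := smul_surj S x y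
  have hnb : Nb G a b y (g0 • y) := by
    have := nb_translate S g0 h
    rwa [hg0] at this
  obtain ⟨m, hm, he⟩ := exists_Dd_eq S hnb (nb_symm h)
  refine ⟨m * g0, by rw [mul_smul, hg0, hm], fun d => ?_⟩
  rw [conj_mem_iff_Dd (m * g0) x y d, mul_smul, mul_smul, hg0, hm, ← he, Dd_comm y x]

omit hne in
theorem exists_move {x x' z z' : Ω} (h : Nb G a b x x') (h' : Nb G a b z z') :
    ∃ g : G, g • x = z ∧ ∀ d, d ∈ Dd G x x' ↔ g * d * g⁻¹ ∈ Dd G z z' := by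
  obtain ⟨g0, hg0⟩ := smul_surj S x z
  have hnb : Nb G a b z (g0 • x') := hg0 ▸ nb_translate S g0 h
  obtain ⟨m, hm, he⟩ := exists_Dd_eq S hnb h'
  refine ⟨m * g0, by rw [mul_smul, hg0, hm], fun d => ?_⟩
  rw [conj_mem_iff_Dd (m * g0) x x' d, mul_smul, mul_smul, hg0, hm, ← he]

theorem exists_OC_ne {x y : Ω} (h : Nb G a b x y) : ∃ z ∈ OC (Dd G x y), z ≠ 1 := by
  classical
  haveI : Fact (Nat.Prime 2) := ⟨Nat.prime_two⟩
  have hP : IsPGroup 2 (Dd G x y) := fun d => by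
    obtain ⟨k, hk⟩ := two_pow_Dd S h d.2
    exact ⟨k, Subtype.ext (by simpa using hk)⟩
  obtain ⟨d, hd, hdk⟩ := exists_not_Ker S hne h
  haveI : Nontrivial (Dd G x y) := ⟨⟨d, hd⟩, 1, fun e => hdk (by
    rw [show d = 1 from congrArg Subtype.val e]; exact one_mem _)⟩
  haveI := hP.center_nontrivial
  have hPc := hP.to_subgroup (Subgroup.center (Dd G x y))
  obtain ⟨n, hn0, hn⟩ := hPc.nontrivial_iff_card.mp inferInstance
  obtain ⟨z, hz⟩ := exists_prime_orderOf_dvd_card' (G := Subgroup.center (Dd G x y)) 2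
    (hn ▸ dvd_pow_self 2 hn0.ne')
  have h2 : z * z = 1 := by rw [← pow_two, ← hz, pow_orderOf_eq_one]
  refine ⟨((z : Dd G x y) : G), ⟨(z : Dd G x y).2, congrArg (fun u : Subgroup.center (Dd G x y) => ((u : Dd G x y) : G)) h2,
    fun e he => ?_⟩, fun e => ?_⟩
  · exact (congrArg Subtype.val (Subgroup.mem_center_iff.mp z.2 ⟨e, he⟩)).symm
  · rw [show z = 1 from Subtype.ext (Subtype.ext e), orderOf_one] at hz
    exact absurd hz (by norm_num)

/-- No element of order three centralises the kernel. -/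
def NoCent (G : Type*) {Ω : Type*} [Group G] [MulAction G Ω] (a b : Ω) : Prop :=
  ∀ x : Ω, ∀ o : G, o • x = x → orderOf o = 3 → ∃ k ∈ Ker G a b x, ¬ Commute o k

variable (hB : NoCent G a b)
include hB

theorem cent_Ker {x : Ω} {h : G} (hx : h • x = x) (hc : ∀ k ∈ Ker G a b x, Commute h k) :
    h ∈ Ker G a b x := by
  by_contra hk
  let C : Subgroup G := Subgroup.centralizer (Ker G a b x : Set G) ⊓ stabilizer G x
  have hn : ∀ m : G, m • x = x → ∀ c ∈ C, m * c * m⁻¹ ∈ C := fun m hm c hc' => by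
    refine ⟨Subgroup.mem_centralizer_iff.mpr fun k hk => ?_, ?_⟩
    · have hm' : m⁻¹ • x = x := inv_smul_eq_iff.mpr hm.symm
      have hk' : m⁻¹ * k * m ∈ Ker G a b x := by
        have := conj_mem_Ker S m⁻¹ hk
        rwa [inv_inv, hm'] at this
      have e := Subgroup.mem_centralizer_iff.mp hc'.1 _ hk'
      calc k * (m * c * m⁻¹) = m * ((m⁻¹ * k * m) * c) * m⁻¹ := by group
        _ = m * (c * (m⁻¹ * k * m)) * m⁻¹ := by rw [e]
        _ = m * c * m⁻¹ * k := by group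
    · show (m * c * m⁻¹) • x = x
      have := conj_mem_stab m (show c • x = x from hc'.2)
      rwa [hm] at this
  obtain ⟨o, ho, ho3⟩ := exists_three_mem S (C := C) (fun c hc => hc.2) hn
    (c := h) ⟨Subgroup.mem_centralizer_iff.mpr fun k hk => ((hc k hk).eq).symm, hx⟩ hk
  obtain ⟨k, hkk, hnc⟩ := hB x o ho.2 ho3
  exact hnc (Subgroup.mem_centralizer_iff.mp ho.1 k hkk).symm

theorem OC_le_Ker {x y : Ω} (h : Nb G a b x y) : OC (Dd G x y) ≤ Ker G a b x := fun z hz =>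
  cent_Ker S hne hB hz.1.1 fun k hk => hz.2.2 k (Ker_le_Dd S h hk)

theorem V_le_OC_Ker (x : Ω) : Vmod G a b x ≤ OC (Ker G a b x) :=
  (Subgroup.closure_le _).mpr fun z ⟨_, hy, hz⟩ =>
    ⟨OC_le_Ker S hne hB hy hz, hz.2.1, fun k hk => hz.2.2 k (Ker_le_Dd S hy hk)⟩

theorem V_le_Ker (x : Ω) : Vmod G a b x ≤ Ker G a b x := fun _ hz => (V_le_OC_Ker S hne hB x hz).1

theorem V_sq {x : Ω} {v : G} (hv : v ∈ Vmod G a b x) : v * v = 1 := (V_le_OC_Ker S hne hB x hv).2.1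

theorem V_inv {x : Ω} {v : G} (hv : v ∈ Vmod G a b x) : v⁻¹ = v :=
  inv_eq_of_mul_eq_one_right (V_sq S hne hB hv)

theorem V_comm {x : Ω} {v k : G} (hv : v ∈ Vmod G a b x) (hk : k ∈ Ker G a b x) : Commute v k :=
  (V_le_OC_Ker S hne hB x hv).2.2 k hk

omit hne hB in
theorem OC_le_V {x y : Ω} (h : Nb G a b x y) : OC (Dd G x y) ≤ Vmod G a b x := fun _ hz =>
  Subgroup.subset_closure ⟨y, h, hz⟩

theorem V_ne_bot (x : Ω) : ∃ v ∈ Vmod G a b x, v ≠ 1 := by
  obtain ⟨y, hy⟩ := exists_nb S x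
  obtain ⟨z, hz, hz1⟩ := exists_OC_ne S hne hy
  exact ⟨z, OC_le_V S hy hz, hz1⟩

theorem OC_not_central {x y : Ω} (h : Nb G a b x y) :
    ¬ ∀ z ∈ OC (Dd G x y), ∀ m : G, m • x = x → Commute m z := by
  intro hall
  obtain ⟨g, hg, hgD⟩ := exists_swap S h
  have hbot := eq_bot_of_normalized S h (X := OC (Dd G x y)) (fun z hz => hz.1.1) (fun m hm z hz => by
      rwa [(hall z hz m hm).eq, mul_inv_cancel_right]) (fun m hm z hz => by
      have hm' : (g⁻¹ * m * g) • x = x := by rw [mul_smul, mul_smul, hg, hm, inv_smul_eq_iff, hg]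
      have hgD' : ∀ d, d ∈ Dd G x y ↔ g⁻¹ * d * g⁻¹⁻¹ ∈ Dd G x y := fun d => by
        rw [hgD (g⁻¹ * d * g⁻¹⁻¹)]; simp [mul_assoc]
      have hz' : g⁻¹ * z * g⁻¹⁻¹ ∈ OC (Dd G x y) := conj_mem_OC g⁻¹ hgD' hz
      rw [inv_inv] at hz'
      have e := (hall _ hz' _ hm').eq
      have : m * z * m⁻¹ = z := by
        calc m * z * m⁻¹ = g * ((g⁻¹ * m * g) * (g⁻¹ * z * g)) * g⁻¹ * m⁻¹ := by group
          _ = g * ((g⁻¹ * z * g) * (g⁻¹ * m * g)) * g⁻¹ * m⁻¹ := by rw [e]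
          _ = z := by group
      rwa [this])
  obtain ⟨z, hz, hz1⟩ := exists_OC_ne S hne h
  exact hz1 (Subgroup.mem_bot.mp (hbot ▸ hz))

theorem cent_V {x : Ω} {h : G} (hx : h • x = x) (hc : ∀ v ∈ Vmod G a b x, Commute h v) :
    h ∈ Ker G a b x := by
  by_contra hk
  let C : Subgroup G := Subgroup.centralizer (Vmod G a b x : Set G) ⊓ stabilizer G x
  have hn : ∀ m : G, m • x = x → ∀ c ∈ C, m * c * m⁻¹ ∈ C := fun m hm c hc' => by
    refine ⟨Subgroup.mem_centralizer_iff.mpr fun k hk => ?_, ?_⟩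
    · have hm' : m⁻¹ • x = x := inv_smul_eq_iff.mpr hm.symm
      have hk' : m⁻¹ * k * m ∈ Vmod G a b x := by
        have := conj_mem_V S m⁻¹ hk
        rwa [inv_inv, hm'] at this
      have e := Subgroup.mem_centralizer_iff.mp hc'.1 _ hk'
      calc k * (m * c * m⁻¹) = m * ((m⁻¹ * k * m) * c) * m⁻¹ := by group
        _ = m * (c * (m⁻¹ * k * m)) * m⁻¹ := by rw [e]
        _ = m * c * m⁻¹ * k := by group
    · show (m * c * m⁻¹) • x = x
      have := conj_mem_stab m (show c • x = x from hc'.2)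
      rwa [hm] at this
  obtain ⟨o, ho, ho3⟩ := exists_three_mem S (C := C) (fun c hc => hc.2) hn
    (c := h) ⟨Subgroup.mem_centralizer_iff.mpr fun k hk => ((hc k hk).eq).symm, hx⟩ hk
  obtain ⟨y, hy⟩ := exists_nb S x
  refine OC_not_central S hne hB hy fun z hz m hm => ?_
  have hle : stabilizer G x ≤ Subgroup.centralizer ({z} : Set G) :=
    stab_le_of_mem S hy (fun d hd => Subgroup.mem_centralizer_singleton_iff.mpr (hz.2.2 d hd).eq.symm) ho.2
      (not_three_Dd S hy ho3)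
      (Subgroup.mem_centralizer_singleton_iff.mpr
        ((Subgroup.mem_centralizer_iff.mp ho.1 z (OC_le_V S hy hz)).symm))
  exact Subgroup.mem_centralizer_singleton_iff.mp (hle hm)

theorem mem_stab_of_cent {x : Ω} {h : G} (hc : ∀ v ∈ Vmod G a b x, Commute h v) : h • x = x := by
  haveI := S.prim
  haveI : Nontrivial Ω := ⟨x, _, ne_of_nb S (exists_nb S x).choose_spec⟩
  by_contra hx
  let N : Subgroup G := Subgroup.normalizer (Vmod G a b x : Set G)
  have h1 : stabilizer G x ≤ N := by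
    intro m hm
    rw [Subgroup.mem_normalizer_iff]
    intro z
    constructor
    · intro hz
      have := conj_mem_V S m hz
      rwa [mem_stabilizer_iff.mp hm] at this
    · intro hz
      have := conj_mem_V S m⁻¹ hz
      rw [inv_smul_eq_iff.mpr (mem_stabilizer_iff.mp hm).symm] at this
      simpa [mul_assoc] using this
  have h2 : h ∈ N := by
    rw [Subgroup.mem_normalizer_iff]
    intro z
    constructor
    · intro hz
      rwa [(hc z hz).eq, mul_inv_cancel_right]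
    · intro hz
      have e := (hc _ hz).eq
      have : z = h * z * h⁻¹ := by
        have e' : h * (h * z * h⁻¹) = h * z := by rw [e]; group
        exact (mul_left_cancel e').symm
      rwa [this]
  have htop : N = ⊤ := (IsPreprimitive.isCoatom_stabilizer_of_isPreprimitive G x).2 _
    (lt_of_le_of_ne h1 fun e => hx (e.ge h2))
  haveI : (Vmod G a b x).Normal := Subgroup.normalizer_eq_top_iff.mp htop
  have hbot := H61.normal_eq_bot_of_le_stabilizer (Vmod G a b x) x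
    ((V_le_Ker S hne hB x).trans fun z hz => (mem_Ker.mp hz).1)
  obtain ⟨v, hv, hv1⟩ := V_ne_bot S hne hB x
  exact hv1 (Subgroup.mem_bot.mp (hbot ▸ hv))

/-- Commuting modules: each lies in the kernel of the other. -/
theorem le_Ker_of_comm {x y : Ω} (hc : ∀ u ∈ Vmod G a b x, ∀ v ∈ Vmod G a b y, Commute u v) :
    Vmod G a b x ≤ Ker G a b y := fun u hu =>
  cent_V S hne hB (mem_stab_of_cent S hne hB (hc u hu)) (hc u hu)

theorem mem_OC_of_comm {x y : Ω} (h : Nb G a b x y) {v t : G} (hv : v ∈ Vmod G a b x)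
    (ht : t ∈ Dd G x y) (htk : t ∉ Ker G a b x) (hc : Commute v t) : v ∈ OC (Dd G x y) := by
  refine ⟨Ker_le_Dd S h (V_le_Ker S hne hB x hv), V_sq S hne hB hv, fun d hd => ?_⟩
  by_cases hdk : d ∈ Ker G a b x
  · exact V_comm S hne hB hv hdk
  · have := hc.mul_right (V_comm S hne hB hv (mul_mem_Ker S h ht hd htk hdk))
    rwa [mul_inv_cancel_left] at this

end Setting

end H61.Cubic
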