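import Mathlib

/-!
Monomial elements of determinant one, and elementary transvections in their overgroups.
-/

set_option autoImplicit false

namespace H61.Monomial

open Matrix

variable {F : Type*} [Field F] {n : ℕ}

/-- Every column has all its weight in one row. -/
def IsMono (g : GL (Fin n) F) : Prop :=
  ∃ σ : Fin n → Fin n, ∀ r c, r ≠ σ c → g.val r c = 0

theorem mul_val_apply (g h : GL (Fin n) F) (r c : Fin n) :
    (g * h).val r c = ∑ x, g.val r x * h.val x c := by
  rw [Units.val_mul, Matrix.mul_apply]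

theorem IsMono.mul {g h : GL (Fin n) F} (hg : IsMono g) (hh : IsMono h) : IsMono (g * h) := by
  obtain ⟨σ, hσ⟩ := hg
  obtain ⟨τ, hτ⟩ := hh
  refine ⟨σ ∘ τ, fun r c hrc => ?_⟩
  rw [mul_val_apply]
  refine Finset.sum_eq_zero fun x _ => ?_
  by_cases hx : x = τ c
  · rw [hσ r x (fun e => hrc (e.trans (by rw [hx]; rfl))), zero_mul]
  · rw [hτ x c hx, mul_zero]

theorem IsMono.one : IsMono (1 : GL (Fin n) F) :=
  ⟨id, fun r c h => Matrix.one_apply_ne h⟩

theorem IsMono.inv [Finite F] {g : GL (Fin n) F} (hg : IsMono g) : IsMono g⁻¹ := by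
  obtain ⟨m, hm⟩ := (isOfFinOrder_of_finite g).mem_powers_iff_mem_zpowers.mpr
    (Subgroup.mem_zpowers_iff.mpr ⟨-1, zpow_neg_one g⟩)
  have : ∀ k : ℕ, IsMono (g ^ k) := by
    intro k
    induction k with
    | zero => simpa using IsMono.one
    | succ k ih => rw [pow_succ]; exact ih.mul hg
  exact hm ▸ this m

/-- A monomial matrix. -/
def monGL (σ : Equiv.Perm (Fin n)) (d : Fin n → Fˣ) : GL (Fin n) F where
  val := Matrix.of fun r c => if r = σ c then (d c : F) else 0
  inv := Matrix.of fun r c => if σ r = c then ((d r)⁻¹ : Fˣ).val else 0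
  val_inv := by
    ext r c
    simp only [Matrix.mul_apply, Matrix.of_apply]
    rw [Finset.sum_eq_single (σ.symm r)]
    · by_cases h : r = c <;> simp [Matrix.one_apply, h]
    · intro x _ hx
      rw [if_neg (fun e => hx (by rw [e, Equiv.symm_apply_apply])), zero_mul]
    · simp
  inv_val := by
    ext r c
    simp only [Matrix.mul_apply, Matrix.of_apply]
    rw [Finset.sum_eq_single (σ r)]
    · by_cases h : r = c <;> simp [Matrix.one_apply, h]
    · intro x _ hx
      rw [if_neg (fun e => hx e.symm), zero_mul]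
    · simp

theorem monGL_val (σ : Equiv.Perm (Fin n)) (d : Fin n → Fˣ) (r c : Fin n) :
    (monGL σ d).val r c = if r = σ c then (d c : F) else 0 := rfl

theorem monGL_inv_val (σ : Equiv.Perm (Fin n)) (d : Fin n → Fˣ) (r c : Fin n) :
    (monGL σ d)⁻¹.val r c = if σ r = c then ((d r)⁻¹ : Fˣ).val else 0 := rfl

theorem monGL_mulVec_single (σ : Equiv.Perm (Fin n)) (d : Fin n → Fˣ) (c : Fin n) :
    (monGL σ d).val *ᵥ Pi.single c 1 = Pi.single (σ c) (d c : F) := by
  ext r
  rw [Matrix.mulVec_single_one, Matrix.col_apply, monGL_val]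
  simp [Pi.single_apply]

theorem isMono_monGL (σ : Equiv.Perm (Fin n)) (d : Fin n → Fˣ) : IsMono (monGL σ d) :=
  ⟨σ, fun r c h => by rw [monGL_val, if_neg h]⟩

theorem det_monGL (σ : Equiv.Perm (Fin n)) (d : Fin n → Fˣ) :
    (monGL σ d).val.det = ((Equiv.Perm.sign σ : ℤ) : F) * ∏ c, (d c : F) := by
  have : (monGL σ d).val = (σ⁻¹).permMatrix F * Matrix.diagonal (fun c => (d c : F)) := by
    ext r c
    rw [Matrix.mul_diagonal, monGL_val, Equiv.Perm.permMatrix, PEquiv.toMatrix_apply]
    by_cases h : r = σ c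
    · subst h; simp
    · rw [if_neg h]
      have h' : ¬ σ.symm r = c := fun e => h (by rw [← e, Equiv.apply_symm_apply])
      simp [h']
  rw [this, Matrix.det_mul, Matrix.det_permutation, Matrix.det_diagonal, Equiv.Perm.sign_inv]

/-- A monomial element of determinant one with prescribed weights off one coordinate. -/
theorem exists_monGL_det_one (σ : Equiv.Perm (Fin n)) (d : Fin n → Fˣ) (z : Fin n) :
    ∃ d' : Fin n → Fˣ, (∀ c, c ≠ z → d' c = d c) ∧ (monGL σ d').val.det = 1 := by
  classical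
  let D : Fˣ := Units.map (Int.castRingHom F : ℤ →* F) (Equiv.Perm.sign σ) * ∏ c, d c
  refine ⟨Function.update d z (d z * D⁻¹), fun c hc => Function.update_of_ne hc _ _, ?_⟩
  have key : Units.map (Int.castRingHom F : ℤ →* F) (Equiv.Perm.sign σ) *
      ∏ c, Function.update d z (d z * D⁻¹) c = 1 := by
    rw [Finset.prod_update_of_mem (Finset.mem_univ z), mul_comm (d z), mul_assoc,
      ← Finset.prod_eq_mul_prod_sdiff_singleton_of_mem (Finset.mem_univ z),
      mul_left_comm, ← mul_assoc]
    simp [D]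
  have := congrArg Units.val key
  rw [det_monGL]
  simpa using this

/-- `λ` at `i` and `λ⁻¹` at `j`. -/
def pairGL (i j : Fin n) (a : Fˣ) : GL (Fin n) F :=
  monGL 1 fun c => if c = i then a else if c = j then a⁻¹ else 1

theorem pairGL_val (i j : Fin n) (a : Fˣ) (r c : Fin n) :
    (pairGL i j a).val r c =
      if r = c then (if c = i then (a : F) else if c = j then ((a⁻¹ : Fˣ) : F) else 1) else 0 := by
  rw [pairGL, monGL_val]
  by_cases h : r = c
  · rw [if_pos (show r = (1 : Equiv.Perm (Fin n)) c from h), if_pos h]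
    split_ifs <;> simp
  · rw [if_neg (show ¬ r = (1 : Equiv.Perm (Fin n)) c from h), if_neg h]

theorem pairGL_det {i j : Fin n} (hij : i ≠ j) (a : Fˣ) : (pairGL i j a).val.det = 1 := by
  rw [pairGL, det_monGL, Equiv.Perm.sign_one]
  rw [Finset.prod_eq_mul i j hij (fun c _ hc => by simp [hc.1, hc.2]) (by simp) (by simp)]
  simp [hij.symm]

theorem isMono_pairGL (i j : Fin n) (a : Fˣ) : IsMono (pairGL i j a) := isMono_monGL _ _

theorem pairGL_inv {i j : Fin n} (a : Fˣ) : (pairGL i j a : GL (Fin n) F)⁻¹ = pairGL i j a⁻¹ := by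
  refine Units.ext (Matrix.ext fun r c => ?_)
  rw [pairGL_val]
  show (monGL _ _)⁻¹.val r c = _
  rw [monGL_inv_val]
  by_cases h : r = c
  · subst h
    rw [if_pos (show (1 : Equiv.Perm (Fin n)) r = r from rfl), if_pos rfl]
    split_ifs <;> simp
  · rw [if_neg (show ¬ (1 : Equiv.Perm (Fin n)) r = c from h), if_neg h]

theorem pairGL_mul (i j : Fin n) (a b : Fˣ) :
    (pairGL i j (a * b) : GL (Fin n) F) = pairGL i j a * pairGL i j b := by
  refine Units.ext (Matrix.ext fun r c => ?_)
  rw [mul_val_apply, Finset.sum_eq_single r (fun x _ hx => by rw [pairGL_val, if_neg (Ne.symm hx), zero_mul])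
    (by simp), pairGL_val, pairGL_val, pairGL_val, if_pos rfl]
  by_cases h : r = c
  · subst h
    simp only [if_true]
    by_cases h1 : r = i
    · simp [h1]
    · by_cases h2 : r = j
      · subst h2; simp [h1, mul_comm]
      · simp [h1, h2]
  · simp [h]

theorem inv_mul_val (g : GL (Fin n) F) (r c : Fin n) :
    ∑ x, g⁻¹.val r x * g.val x c = if r = c then 1 else 0 := by
  rw [← mul_val_apply, inv_mul_cancel]
  exact Matrix.one_apply

theorem mul_inv_val (g : GL (Fin n) F) (r c : Fin n) :
    ∑ x, g.val r x * g⁻¹.val x c = if r = c then 1 else 0 := by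
  rw [← mul_val_apply, mul_inv_cancel]
  exact Matrix.one_apply

/-- The conjugate of `pairGL`. -/
def biRefl (g : GL (Fin n) F) (i j : Fin n) (a : Fˣ) : GL (Fin n) F := g * pairGL i j a * g⁻¹

theorem biRefl_val (g : GL (Fin n) F) {i j : Fin n} (hij : i ≠ j) (a : Fˣ) (r c : Fin n) :
    (biRefl g i j a).val r c = (if r = c then 1 else 0) + ((a : F) - 1) * (g.val r i * g⁻¹.val i c)
      + (((a⁻¹ : Fˣ) : F) - 1) * (g.val r j * g⁻¹.val j c) := by
  rw [biRefl, mul_val_apply]
  have e : ∀ x, (g * pairGL i j a).val r x =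
      g.val r x * (if x = i then (a : F) else if x = j then ((a⁻¹ : Fˣ) : F) else 1) := fun x => by
    rw [mul_val_apply, Finset.sum_eq_single x (fun y _ hy => by rw [pairGL_val, if_neg hy, mul_zero])
      (by simp), pairGL_val, if_pos rfl]
  simp only [e]
  rw [← mul_inv_val g r c]
  have e2 : ∀ x, g.val r x * (if x = i then (a : F) else if x = j then ((a⁻¹ : Fˣ) : F) else 1) * g⁻¹.val x c =
      g.val r x * g⁻¹.val x c + ((if x = i then ((a : F) - 1) * (g.val r i * g⁻¹.val i c) else 0)
        + (if x = j then (((a⁻¹ : Fˣ) : F) - 1) * (g.val r j * g⁻¹.val j c) else 0)) := by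
    intro x
    by_cases h1 : x = i
    · subst h1; simp [hij]; ring
    · by_cases h2 : x = j
      · subst h2; simp [h1]; ring
      · simp [h1, h2]
  simp only [e2, Finset.sum_add_distrib, Finset.sum_ite_eq', Finset.mem_univ, if_true]
  ring

theorem biRefl_inv (g : GL (Fin n) F) (i j : Fin n) (a : Fˣ) :
    (biRefl g i j a)⁻¹ = biRefl g i j a⁻¹ := by
  rw [biRefl, biRefl, ← pairGL_inv]; group

/-- `g` fixes the `m`th basis vector. -/
def Fixes (g : GL (Fin n) F) (m : Fin n) : Prop := ∀ r, g.val r m = if r = m then 1 else 0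

theorem Fixes.inv {g : GL (Fin n) F} {m : Fin n} (h : Fixes g m) : Fixes g⁻¹ m := by
  intro r
  have := inv_mul_val g r m
  rwa [Finset.sum_eq_single m (fun x _ hx => by rw [h x, if_neg hx, mul_zero]) (by simp), h m,
    if_pos rfl, mul_one] at this

theorem Fixes.mul {g g' : GL (Fin n) F} {m : Fin n} (h : Fixes g m) (h' : Fixes g' m) :
    Fixes (g * g') m := by
  intro r
  rw [mul_val_apply, Finset.sum_eq_single m (fun x _ hx => by rw [h' x, if_neg hx, mul_zero]) (by simp),
    h' m, if_pos rfl, mul_one, h r]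

theorem fixes_pairGL {i j m : Fin n} (h1 : m ≠ i) (h2 : m ≠ j) (a : Fˣ) :
    Fixes (pairGL i j a : GL (Fin n) F) m := by
  intro r
  rw [pairGL_val, if_neg h1, if_neg h2]

theorem fixes_biRefl {g : GL (Fin n) F} {i j m : Fin n} (h : Fixes g m) (h1 : m ≠ i) (h2 : m ≠ j)
    (a : Fˣ) : Fixes (biRefl g i j a) m :=
  (h.mul (fixes_pairGL h1 h2 a)).mul h.inv

/-- Two zeros in a column of `G` give an element fixing a basis vector. -/
theorem fixes_biRefl_inv {G : GL (Fin n) F} {k l x : Fin n} (hk : G.val k x = 0) (hl : G.val l x = 0)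
    (a : Fˣ) : Fixes (biRefl G⁻¹ k l a) x := by
  rcases eq_or_ne k l with rfl | hkl
  · intro r
    rw [biRefl, inv_inv, mul_val_apply]
    have e : ∀ z, (G⁻¹ * pairGL k k a).val r z * G.val z x = G⁻¹.val r z * G.val z x := by
      intro z
      rw [mul_val_apply, Finset.sum_eq_single z (fun y _ hy => by rw [pairGL_val, if_neg hy, mul_zero])
        (by simp), pairGL_val, if_pos rfl]
      by_cases hz : z = k
      · subst hz; simp [hk]
      · simp [hz]
    simp only [e]
    exact inv_mul_val G r x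
  intro r
  rw [biRefl_val _ hkl, inv_inv, hk, hl]
  ring

end H61.Monomial
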