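import Cfsg.Agent.H61.MonomialBasic
import Cfsg.Agent.H49.Transvec

/-!
Overgroups of the monomial group containing an element fixing two basis vectors.
-/

set_option autoImplicit false

namespace H61.Monomial

open Matrix

variable {F : Type*} [Field F] {n : ℕ}

/-- All elementary transvections lie in `X`. -/
def Full (X : Subgroup (GL (Fin n) F)) : Prop :=
  ∀ i j (hij : i ≠ j) c, H49.elem i j hij c ∈ X

/-- `X` contains every monomial element of determinant one. -/
def HasMono (X : Subgroup (GL (Fin n) F)) : Prop :=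
  ∀ g, IsMono g → g.val.det = 1 → g ∈ X

theorem exists_ne₄ (hn : 5 ≤ n) (a b c d : Fin n) : ∃ x, x ≠ a ∧ x ≠ b ∧ x ≠ c ∧ x ≠ d := by
  obtain ⟨x, -, hx⟩ := Finset.exists_mem_notMem_of_card_lt_card (s := ({a, b, c, d} : Finset (Fin n)))
    (t := Finset.univ) (lt_of_le_of_lt Finset.card_le_four (by simp; omega))
  simp only [Finset.mem_insert, Finset.mem_singleton, not_or] at hx
  exact ⟨x, hx⟩

theorem exists_unit_not_mem [Fintype F] (s : Finset F) (h : s.card + 2 ≤ Fintype.card F) :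
    ∃ a : Fˣ, (a : F) ∉ s := by
  classical
  obtain ⟨x, -, hx⟩ := Finset.exists_mem_notMem_of_card_lt_card (s := insert (0 : F) s)
    (t := Finset.univ) (lt_of_le_of_lt (Finset.card_insert_le _ _) (by simp; omega))
  rw [Finset.mem_insert, not_or] at hx
  exact ⟨Units.mk0 x hx.1, hx.2⟩

theorem monGL_conj_val (σ : Equiv.Perm (Fin n)) (d : Fin n → Fˣ) (g : GL (Fin n) F) (r c : Fin n) :
    (monGL σ d * g * (monGL σ d)⁻¹).val (σ r) (σ c) = (d r : F) * g.val r c * ((d c)⁻¹ : Fˣ).val := by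
  rw [mul_val_apply, Finset.sum_eq_single c, mul_val_apply, Finset.sum_eq_single r, monGL_val,
    if_pos rfl, monGL_inv_val, if_pos rfl]
  · intro x _ hx
    rw [monGL_val, if_neg (fun e => hx (σ.injective e).symm), zero_mul]
  · simp
  · intro x _ hx
    rw [monGL_inv_val, if_neg (fun e => hx (σ.injective e)), mul_zero]
  · simp

section

variable (X : Subgroup (GL (Fin n) F))

/-- `1 + eᵢ ⊗ φ + eⱼ ⊗ χ`. -/
def rowsM (i j : Fin n) (φ χ : Fin n → F) : Matrix (Fin n) (Fin n) F :=
  Matrix.of fun r c => if r = i then φ c else if r = j then χ c else 0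

/-- `1 + eᵢ ⊗ φ + eⱼ ⊗ χ` is the matrix of a member of `X`. -/
def RowsIn (i j : Fin n) (φ χ : Fin n → F) : Prop :=
  (φ i = 0 ∧ φ j = 0 ∧ χ i = 0 ∧ χ j = 0) ∧ ∃ g ∈ X, g.val = 1 + rowsM i j φ χ

variable {X}

theorem RowsIn.symm {i j : Fin n} (hij : i ≠ j) {φ χ : Fin n → F} (h : RowsIn X i j φ χ) :
    RowsIn X j i χ φ := by
  obtain ⟨⟨a, b, c, d⟩, g, hg, e⟩ := h
  refine ⟨⟨d, c, b, a⟩, g, hg, e.trans ?_⟩
  ext r x
  simp only [rowsM, Matrix.add_apply, Matrix.of_apply]
  by_cases h1 : r = i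
  · subst h1; simp [hij]
  · by_cases h2 : r = j <;> simp [h1, h2, hij.symm]

theorem rowsM_mul {i j : Fin n} {φ χ φ' χ' : Fin n → F} (h1 : φ i = 0) (h2 : φ j = 0) (h3 : χ i = 0)
    (h4 : χ j = 0) : rowsM i j φ χ * rowsM i j φ' χ' = 0 := by
  ext r c
  rw [Matrix.mul_apply]
  refine Finset.sum_eq_zero fun x _ => ?_
  simp only [rowsM, Matrix.of_apply]
  split_ifs <;> subst_vars <;> simp_all

theorem RowsIn.add {i j : Fin n} {φ χ φ' χ' : Fin n → F} (h : RowsIn X i j φ χ)
    (h' : RowsIn X i j φ' χ') : RowsIn X i j (φ + φ') (χ + χ') := by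
  obtain ⟨⟨a, b, c, d⟩, g, hg, e⟩ := h
  obtain ⟨⟨a', b', c', d'⟩, g', hg', e'⟩ := h'
  refine ⟨⟨by simp [a, a'], by simp [b, b'], by simp [c, c'], by simp [d, d']⟩, g * g', mul_mem hg hg', ?_⟩
  rw [Units.val_mul, e, e', mul_add, add_mul, add_mul, one_mul, mul_one, one_mul, rowsM_mul a b c d,
    add_zero, add_assoc]
  congr 1
  ext r x
  simp only [rowsM, Matrix.add_apply, Matrix.of_apply, Pi.add_apply]
  split_ifs <;> simp

theorem RowsIn.neg {i j : Fin n} {φ χ : Fin n → F} (h : RowsIn X i j φ χ) :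
    RowsIn X i j (-φ) (-χ) := by
  obtain ⟨⟨a, b, c, d⟩, g, hg, e⟩ := h
  refine ⟨⟨by simp [a], by simp [b], by simp [c], by simp [d]⟩, g⁻¹, inv_mem hg, ?_⟩
  refine Units.inv_eq_of_mul_eq_one_right ?_
  have hneg : rowsM i j (-φ) (-χ) = - rowsM i j φ χ := by
    ext r x
    simp only [rowsM, Matrix.neg_apply, Matrix.of_apply, Pi.neg_apply]
    split_ifs <;> simp
  rw [e, hneg, mul_add, add_mul, add_mul, one_mul, mul_one, one_mul, mul_neg, rowsM_mul a b c d]
  abel

theorem RowsIn.torus (hN : HasMono X) {i j : Fin n} {φ χ : Fin n → F} (h : RowsIn X i j φ χ)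
    {k m : Fin n} (hkm : k ≠ m) (a : Fˣ) :
    RowsIn X i j
      (fun c => (if i = k then (a : F) else if i = m then ((a⁻¹ : Fˣ) : F) else 1) * φ c *
        (if c = k then ((a⁻¹ : Fˣ) : F) else if c = m then (a : F) else 1))
      (fun c => (if j = k then (a : F) else if j = m then ((a⁻¹ : Fˣ) : F) else 1) * χ c *
        (if c = k then ((a⁻¹ : Fˣ) : F) else if c = m then (a : F) else 1)) := by
  obtain ⟨⟨p, q, r, s⟩, g, hg, e⟩ := h
  have hD : (pairGL k m a : GL (Fin n) F) ∈ X := hN _ (isMono_pairGL ..) (pairGL_det hkm a)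
  refine ⟨⟨by simp [p], by simp [q], by simp [r], by simp [s]⟩, _,
    mul_mem (mul_mem hD hg) (inv_mem hD), Matrix.ext fun x y => ?_⟩
  have := monGL_conj_val (1 : Equiv.Perm (Fin n))
    (fun c => if c = k then a else if c = m then a⁻¹ else 1) g x y
  rw [Equiv.Perm.coe_one, id_eq, id_eq] at this
  refine this.trans ?_
  rw [e]
  simp only [rowsM, Matrix.add_apply, Matrix.of_apply]
  have key : ∀ z : Fin n, ((if z = k then a else if z = m then a⁻¹ else 1 : Fˣ) : F) =
      if z = k then (a : F) else if z = m then ((a⁻¹ : Fˣ) : F) else 1 := fun z => by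
    split_ifs <;> simp
  have key2 : ∀ z : Fin n, (((if z = k then a else if z = m then a⁻¹ else 1 : Fˣ))⁻¹ : Fˣ).val =
      if z = k then ((a⁻¹ : Fˣ) : F) else if z = m then (a : F) else 1 := fun z => by
    split_ifs <;> simp
  rw [mul_add, add_mul]
  congr 1
  · by_cases hxy : x = y
    · subst hxy; simp [Matrix.one_apply]
    · simp [Matrix.one_apply, hxy]
  · rw [key, key2]
    by_cases hx : x = i
    · subst hx; simp
    · by_cases hx' : x = j
      · subst hx'; simp [hx]
      · simp [hx, hx']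

variable [Fintype F]

theorem full_of_rowsIn (hn : 5 ≤ n) (hq : 5 ≤ Fintype.card F) (hN : HasMono X) {i j k : Fin n}
    (hij : i ≠ j) {φ χ : Fin n → F} (h : RowsIn X i j φ χ) (hk : φ k ≠ 0) : Full X := by
  classical
  have hki : k ≠ i := fun e => hk (e ▸ h.1.1)
  have hkj : k ≠ j := fun e => hk (e ▸ h.1.2.1)
  obtain ⟨a, ha⟩ := exists_unit_not_mem ({1} : Finset F) (by simp; omega)
  rw [Finset.mem_singleton] at ha
  obtain ⟨m, hmi, hmj, hmk, -⟩ := exists_ne₄ hn i j k k
  obtain ⟨m', hmi', hmj', hmk', hmm'⟩ := exists_ne₄ hn i j k m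
  have ha' : ((a⁻¹ : Fˣ) : F) - 1 ≠ 0 := fun e => ha (by
    have : a⁻¹ = 1 := Units.ext (sub_eq_zero.mp e)
    rw [inv_eq_one.mp this, Units.val_one])
  -- isolate two columns, then one
  have h1 := (h.torus hN hmk.symm a).add h.neg
  have h2 := (h1.torus hN hmk'.symm a).add h1.neg
  -- isolate one row
  have h3 := (h2.torus hN hmi.symm a).add h2.neg
  obtain ⟨-, g, hg, e⟩ := h3
  have hX0 : ∃ c0 : F, c0 ≠ 0 ∧ H49.elem i k hki.symm c0 ∈ X := by
    refine ⟨((a : F) - 1) * (((a⁻¹ : Fˣ) : F) - 1) ^ 2 * φ k, ?_, ?_⟩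
    · exact mul_ne_zero (mul_ne_zero (sub_ne_zero.mpr ha) (pow_ne_zero _ ha')) hk
    convert hg using 1
    refine Units.ext ?_
    rw [e]
    ext r c
    simp only [H49.elem, H49.tr_val, H49.trM, Matrix.add_apply, rowsM, Matrix.of_apply,
      Matrix.vecMulVec_apply, Pi.add_apply, Pi.neg_apply]
    congr 1
    by_cases hr : r = i
    · subst hr
      simp only [Pi.single_eq_same, one_mul, if_true]
      by_cases hc : c = k
      · subst hc
        simp [hki.symm, hki, hmi.symm, hmk, hmi'.symm, hmk', hmk.symm, hmk'.symm]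
        ring
      · by_cases hc2 : c = m
        · subst hc2
          simp [hki.symm, hki, hmi.symm, hmi, hmk, hmm'.symm, hmi'.symm]
        · by_cases hc3 : c = r
          · subst hc3
            simp [h.1.1, hki.symm]
          · simp [hki.symm, hc, hc2, hc3, hmi.symm, hmi'.symm]
    · rw [Pi.single_eq_of_ne hr, zero_mul, if_neg hr]
      by_cases hr' : r = j
      · subst hr'
        by_cases hc : c = i
        · subst hc; simp [h.1.2.2.1]
        · by_cases hc2 : c = m
          · subst hc2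
            simp [hr, hkj.symm, hmj.symm, hmj'.symm, hmk, hmm'.symm, hmi]
          · simp [hr, hkj.symm, hmj.symm, hmj'.symm, hc, hc2]
            ring
      · simp [hr']
  obtain ⟨c0, hc0, hel⟩ := hX0
  intro p q hpq c
  by_cases hc : c = 0
  · subst hc
    convert X.one_mem using 1
    refine H49.gl_ext_mulVec fun x => funext fun z => ?_
    rw [H49.elem_mulVec]
    simp
  obtain ⟨σ, hσi, hσk⟩ : ∃ σ : Equiv.Perm (Fin n), σ i = p ∧ σ k = q := by
    refine ⟨Equiv.swap (Equiv.swap i p k) q * Equiv.swap i p, ?_, ?_⟩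
    · rw [Equiv.Perm.mul_apply, Equiv.swap_apply_left, Equiv.swap_apply_of_ne_of_ne _ hpq]
      intro e
      have := congrArg (Equiv.swap i p) e
      rw [Equiv.swap_apply_self, Equiv.swap_apply_right] at this
      exact hki this.symm
    · rw [Equiv.Perm.mul_apply, Equiv.swap_apply_left]
  obtain ⟨d, hd, hdet⟩ := exists_monGL_det_one σ
    (fun z => if z = i then Units.mk0 (c / c0) (div_ne_zero hc hc0) else 1) m
  have hM := hN _ (isMono_monGL σ d) hdet
  convert mul_mem (mul_mem hM hel) (inv_mem hM) using 1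
  refine Units.ext (Matrix.ext fun r s => ?_)
  obtain ⟨r', rfl⟩ := σ.surjective r
  obtain ⟨s', rfl⟩ := σ.surjective s
  rw [monGL_conj_val]
  simp only [H49.elem, H49.tr_val, H49.trM, Matrix.add_apply, Matrix.vecMulVec_apply,
    Matrix.one_apply, σ.injective.eq_iff]
  rw [← hσi, ← hσk]
  simp only [Pi.single_apply, σ.injective.eq_iff]
  by_cases hr : r' = i
  · subst hr
    by_cases hs : s' = k
    · subst hs
      rw [hd r' hmi.symm, hd s' hmk.symm]
      simp [hki, hki.symm, hc0]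
    · by_cases hs' : r' = s'
      · subst hs'; simp [hki.symm]
      · simp [hs, hs']
  · by_cases hs' : r' = s'
    · subst hs'; simp [hr]
    · simp [hr, hs']

/-- An element of `X` fixing two basis vectors has trivial rows there, unless `X` is full. -/
theorem full_of_fix_two_row (hn : 5 ≤ n) (hq : 5 ≤ Fintype.card F) (hN : HasMono X)
    {y : GL (Fin n) F} (hy : y ∈ X) {i j : Fin n} (hij : i ≠ j) (hi : Fixes y i) (hj : Fixes y j)
    {k : Fin n} (hki : k ≠ i) (hkj : k ≠ j) (hk : y.val i k ≠ 0) : Full X := by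
  classical
  obtain ⟨a, ha⟩ := exists_unit_not_mem ({1} : Finset F) (by simp; omega)
  rw [Finset.mem_singleton] at ha
  have hD : (pairGL i j a : GL (Fin n) F) ∈ X := hN _ (isMono_pairGL ..) (pairGL_det hij a)
  let φ : Fin n → F := fun c => if c = i ∨ c = j then 0 else ((a : F) - 1) * y⁻¹.val i c
  let χ : Fin n → F := fun c => if c = i ∨ c = j then 0 else (((a⁻¹ : Fˣ) : F) - 1) * y⁻¹.val j c
  have h : RowsIn X i j φ χ := by
    refine ⟨⟨by simp [φ], by simp [φ], by simp [χ], by simp [χ]⟩, _,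
      mul_mem (mul_mem (mul_mem hy hD) (inv_mem hy)) (inv_mem hD), Matrix.ext fun r c => ?_⟩
    change (biRefl y i j a * (pairGL i j a)⁻¹).val r c = _
    rw [mul_val_apply, pairGL_inv, Finset.sum_eq_single c
      (fun x _ hx => by rw [pairGL_val, if_neg hx, mul_zero]) (by simp), pairGL_val, if_pos rfl,
      biRefl_val y hij, hi r, hj r]
    simp only [rowsM, Matrix.add_apply, Matrix.of_apply, Matrix.one_apply, φ, χ]
    by_cases hci : c = i
    · subst hci
      rw [hi.inv c, hi.inv j]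
      by_cases hr : r = c
      · subst hr; simp [hij]
      · by_cases hr' : r = j <;> simp [hr, hr', hij, hij.symm]
    · by_cases hcj : c = j
      · subst hcj
        rw [hj.inv c, hj.inv i]
        by_cases hr : r = c
        · subst hr; simp [hij, hij.symm]
        · by_cases hr' : r = i <;> simp [hr, hr', hij, hij.symm]
      · by_cases hr : r = i
        · subst hr; simp [hci, hcj, hij, Ne.symm hci]
        · by_cases hr' : r = j
          · subst hr'; simp [hr, hci, hcj, Ne.symm hcj]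
          · simp [hr, hr', hci, hcj]
  -- some row of the inverse is non-trivial
  by_cases hall : ∀ c, c ≠ i → c ≠ j → y⁻¹.val i c = 0
  · exfalso
    have := inv_mul_val y i k
    rw [Finset.sum_eq_single i (fun x _ hx => by
      by_cases hxj : x = j
      · subst hxj; rw [hj.inv i, if_neg hij, zero_mul]
      · rw [hall x hx hxj, zero_mul]) (by simp), hi.inv i, if_pos rfl, one_mul, if_neg hki.symm] at this
    exact hk this
  · push Not at hall
    obtain ⟨c, hci, hcj, hc⟩ := hall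
    refine full_of_rowsIn hn hq hN hij h (k := c) ?_
    simp only [φ, hci, hcj, or_self, if_false]
    exact mul_ne_zero (sub_ne_zero.mpr ha) hc

theorem exists_two_of_not_mono {g : GL (Fin n) F} (h : ¬ IsMono g) :
    ∃ k a b, a ≠ b ∧ g.val a k ≠ 0 ∧ g.val b k ≠ 0 := by
  classical
  by_contra hc
  push Not at hc
  refine h ⟨fun c => if hex : ∃ r, g.val r c ≠ 0 then hex.choose else c, fun r c hrc => ?_⟩
  by_contra hr
  have hex : ∃ r, g.val r c ≠ 0 := ⟨r, hr⟩
  simp only [dif_pos hex] at hrc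
  exact hex.choose_spec (hc c r hex.choose hrc hr)

/-- The column and inverse row have constant product on the support, and the same support. -/
def Bal (y : GL (Fin n) F) (k : Fin n) (π : F) : Prop :=
  π ≠ 0 ∧ (∀ r, y.val r k ≠ 0 → y.val r k * y⁻¹.val k r = π) ∧
    ∀ r, y.val r k = 0 → y⁻¹.val k r = 0

section NotFull

variable (hn : 5 ≤ n) (hq : 5 ≤ Fintype.card F) (hN : HasMono X) (hF : ¬ Full X)
include hn hq hN hF

theorem row_trivial {y : GL (Fin n) F} (hy : y ∈ X) {i j : Fin n} (hij : i ≠ j) (hi : Fixes y i)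
    (hj : Fixes y j) (c : Fin n) : y.val i c = if i = c then 1 else 0 := by
  by_cases hci : c = i
  · subst hci; exact hi c
  by_cases hcj : c = j
  · subst hcj; exact hj i
  rw [if_neg (Ne.symm hci)]
  by_contra h
  exact hF (full_of_fix_two_row hn hq hN hy hij hi hj hci hcj h)

theorem exists_bal {y : GL (Fin n) F} (hy : y ∈ X) {i j : Fin n} (hij : i ≠ j) (hi : Fixes y i)
    (hj : Fixes y j) {k : Fin n} (hki : k ≠ i) (hkj : k ≠ j) : ∃ π, Bal y k π := by
  classical
  have hui : y.val i k = 0 := by rw [row_trivial hn hq hN hF hy hij hi hj, if_neg hki.symm]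
  have huj : y.val j k = 0 := by rw [row_trivial hn hq hN hF hy hij.symm hj hi, if_neg hkj.symm]
  have key : ∀ (σ : Equiv.Perm (Fin n)) (d : Fin n → Fˣ), (monGL σ d).val.det = 1 → σ i = i → d i = 1 →
      (∀ c, y.val (σ c) k = (d c : F) * y.val c k) →
      ∀ c, y⁻¹.val k (σ c) * (d c : F) = y⁻¹.val k c := by
    intro σ d hdet hσ hd hu c
    have hM := hN _ (isMono_monGL σ d) hdet
    set z := y⁻¹ * (monGL σ d * y) with hz
    have hMi : Fixes (monGL σ d) i := fun r => by rw [monGL_val, hσ, hd, Units.val_one]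
    have hzi : Fixes z i := hi.inv.mul (hMi.mul hi)
    have hzk : Fixes z k := by
      intro r
      rw [hz, mul_val_apply, ← inv_mul_val y r k]
      refine Finset.sum_congr rfl fun x _ => ?_
      obtain ⟨c', rfl⟩ := σ.surjective x
      rw [mul_val_apply, Finset.sum_eq_single c'
        (fun w _ hw => by rw [monGL_val, if_neg (fun e => hw (σ.injective e).symm), zero_mul]) (by simp),
        monGL_val, if_pos rfl, hu]
    have hrow := row_trivial hn hq hN hF (mul_mem (inv_mem hy) (mul_mem hM hy)) hki hzk hzi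
    have e1 : (z * y⁻¹).val k c = y⁻¹.val k c := by
      rw [mul_val_apply, Finset.sum_eq_single k
        (fun x _ hx => by rw [hrow, if_neg (Ne.symm hx), zero_mul]) (by simp), hrow, if_pos rfl, one_mul]
    have e2 : z * y⁻¹ = y⁻¹ * monGL σ d := by rw [hz]; group
    rw [e2, mul_val_apply, Finset.sum_eq_single (σ c)
      (fun x _ hx => by rw [monGL_val, if_neg hx, mul_zero]) (by simp), monGL_val, if_pos rfl] at e1
    exact e1
  have hsum := inv_mul_val y k k
  rw [if_pos rfl] at hsum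
  obtain ⟨r0, -, hr0⟩ := Finset.exists_ne_zero_of_sum_ne_zero (hsum.trans_ne one_ne_zero)
  obtain ⟨a, ha⟩ := exists_unit_not_mem ({1} : Finset F) (by simp; omega)
  rw [Finset.mem_singleton] at ha
  have off : ∀ r, y.val r k = 0 → y⁻¹.val k r = 0 := by
    intro r hr
    by_cases hri : r = i
    · subst hri; rw [hi.inv k, if_neg hki]
    by_cases hrj : r = j
    · subst hrj; rw [hj.inv k, if_neg hkj]
    have := key 1 (fun c => if c = r then a else if c = j then a⁻¹ else 1)
      (pairGL_det hrj a) rfl (by simp [Ne.symm hri, hij])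
      (fun c => by
        rw [Equiv.Perm.one_apply]
        by_cases hc : c = r
        · subst hc; simp [hr]
        · by_cases hc' : c = j
          · subst hc'; simp [huj]
          · simp [hc, hc']) r
    rw [Equiv.Perm.one_apply, if_pos rfl] at this
    by_contra h
    exact ha ((mul_eq_left₀ h).mp this)
  have hur0 : y.val r0 k ≠ 0 := right_ne_zero_of_mul hr0
  refine ⟨y.val r0 k * y⁻¹.val k r0, by rwa [mul_comm], fun r hr => ?_, off⟩
  by_cases hrr : r = r0
  · rw [hrr]
  have hri : r ≠ i := fun e => hr (e ▸ hui)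
  have hrj : r ≠ j := fun e => hr (e ▸ huj)
  have hr0i : r0 ≠ i := fun e => hur0 (e ▸ hui)
  have hr0j : r0 ≠ j := fun e => hur0 (e ▸ huj)
  obtain ⟨d, hd, hdet⟩ := exists_monGL_det_one (Equiv.swap r r0)
    (fun c => if c = r then Units.mk0 (y.val r0 k / y.val r k) (div_ne_zero hur0 hr)
      else if c = r0 then Units.mk0 (y.val r k / y.val r0 k) (div_ne_zero hr hur0) else 1) j
  have := key (Equiv.swap r r0) d hdet (Equiv.swap_apply_of_ne_of_ne hri.symm hr0i.symm)
    (by rw [hd i hij]; simp [hri.symm, hr0i.symm]) (fun c => by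
      by_cases hc : c = r
      · subst hc
        rw [Equiv.swap_apply_left, hd c hrj, if_pos rfl, Units.val_mk0, div_mul_cancel₀ _ hr]
      by_cases hc' : c = r0
      · subst hc'
        rw [Equiv.swap_apply_right, hd c hr0j, if_neg hc, if_pos rfl, Units.val_mk0,
          div_mul_cancel₀ _ hur0]
      rw [Equiv.swap_apply_of_ne_of_ne hc hc']
      by_cases hcj : c = j
      · subst hcj; simp [huj]
      · rw [hd c hcj]; simp [hc, hc']) r
  rw [Equiv.swap_apply_left, hd r hrj, if_pos rfl, Units.val_mk0] at this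
  rw [← this]
  field_simp

theorem twist {y : GL (Fin n) F} (hy : y ∈ X) {i j : Fin n} (hij : i ≠ j) (hi : Fixes y i)
    (hj : Fixes y j) {k : Fin n} (hki : k ≠ i) (hkj : k ≠ j) {a b : Fin n} (hab : a ≠ b) (hai : a ≠ i)
    (hbi : b ≠ i) (hbj : b ≠ j) (μ : Fˣ) :
    ∃ y2 ∈ X, Fixes y2 i ∧ Fixes y2 j ∧
      (∀ r, y2.val r a = (if r = a then 1 else 0) + ((μ : F) - 1) * (y.val r k * y⁻¹.val k a)) ∧
      ∀ r, y2⁻¹.val a r = (if a = r then 1 else 0) +
        (((μ⁻¹ : Fˣ) : F) - 1) * (y.val a k * y⁻¹.val k r) := by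
  have hrowinv := row_trivial hn hq hN hF (inv_mem hy) hij hi.inv hj.inv
  refine ⟨biRefl y i k μ⁻¹ * pairGL i b μ, mul_mem (mul_mem (mul_mem hy
    (hN _ (isMono_pairGL ..) (pairGL_det hki.symm _))) (inv_mem hy))
    (hN _ (isMono_pairGL ..) (pairGL_det hbi.symm _)), fun r => ?_,
    (fixes_biRefl hj hij.symm hkj.symm _).mul (fixes_pairGL hij.symm hbj.symm _), fun r => ?_, fun r => ?_⟩
  · rw [mul_val_apply, Finset.sum_eq_single i
      (fun x _ hx => by rw [pairGL_val, if_neg hx, mul_zero]) (by simp), pairGL_val, if_pos rfl, if_pos rfl,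
      biRefl_val _ hki.symm, inv_inv, hi r, hi.inv i, hi.inv k, if_pos rfl, if_neg hki]
    by_cases hr : r = i
    · simp [hr]
    · simp [hr]
  · rw [mul_val_apply, Finset.sum_eq_single a
      (fun x _ hx => by rw [pairGL_val, if_neg hx, mul_zero]) (by simp), pairGL_val, if_pos rfl,
      if_neg hai, if_neg hab, mul_one, biRefl_val _ hki.symm, inv_inv, hrowinv a, if_neg hai.symm]
    ring
  · rw [_root_.mul_inv_rev, pairGL_inv, biRefl_inv, inv_inv, mul_val_apply, Finset.sum_eq_single a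
      (fun x _ hx => by rw [pairGL_val, if_neg (Ne.symm hx), zero_mul]) (by simp), pairGL_val,
      if_pos rfl, if_neg hai, if_neg hab, one_mul, biRefl_val _ hki.symm, hi a, if_neg hai]
    ring

theorem twist_cases {y : GL (Fin n) F} (hy : y ∈ X) {i j : Fin n} (hij : i ≠ j) (hi : Fixes y i)
    (hj : Fixes y j) {k : Fin n} (hki : k ≠ i) (hkj : k ≠ j) {a b : Fin n} (hab : a ≠ b)
    (hua : y.val a k ≠ 0) (hub : y.val b k ≠ 0) {π : F} (hB : Bal y k π) (μ : Fˣ) (hμ : (μ : F) ≠ 1) :
    π * (μ : F) ^ 2 + (1 - 2 * π) * (μ : F) + π = 0 ∨ ((μ : F) = -1 ∧ 2 * π = 1) := by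
  obtain ⟨hπ, hon, -⟩ := hB
  have hrow := row_trivial hn hq hN hF hy hij hi hj
  have hrow' := row_trivial hn hq hN hF hy hij.symm hj hi
  have hai : a ≠ i := fun e => hua (by rw [e, hrow, if_neg hki.symm])
  have haj : a ≠ j := fun e => hua (by rw [e, hrow', if_neg hkj.symm])
  have hbi : b ≠ i := fun e => hub (by rw [e, hrow, if_neg hki.symm])
  have hbj : b ≠ j := fun e => hub (by rw [e, hrow', if_neg hkj.symm])
  obtain ⟨y2, hy2, h2i, h2j, hc, hr⟩ := twist hn hq hN hF hy hij hi hj hki hkj hab hai hbi hbj μ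
  obtain ⟨π', hπ', hon', hoff'⟩ := exists_bal hn hq hN hF hy2 hij h2i h2j hai haj
  have hμi : ((μ⁻¹ : Fˣ) : F) = (μ : F)⁻¹ := Units.val_inv_eq_inv_val μ
  have h0 : (μ : F) ≠ 0 := μ.ne_zero
  have hψa : y⁻¹.val k a ≠ 0 := fun e => hπ (by rw [← hon a hua, e, mul_zero])
  have hd0 : (μ : F) - 1 ≠ 0 := sub_ne_zero.mpr hμ
  have ea := hon a hua
  have eb := hon b hub
  have hb' : y2.val b a ≠ 0 := by
    rw [hc, if_neg hab.symm, zero_add]
    exact mul_ne_zero hd0 (mul_ne_zero hub hψa)
  have e1 := hon' b hb'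
  rw [hc, hr, if_neg hab.symm, if_neg hab, zero_add, zero_add, hμi] at e1
  by_cases hu' : y2.val a a = 0
  · have hψ' := hoff' a hu'
    rw [hc, if_pos rfl, ea] at hu'
    rw [hr, if_pos rfl, ea, hμi] at hψ'
    have h3 : ((μ : F) - 1) * ((μ : F) + 1) = 0 := by
      have h4 : π * ((μ : F) - (μ : F)⁻¹) = 0 := by linear_combination hu' - hψ'
      have h5 := (mul_eq_zero.mp h4).resolve_left hπ
      field_simp at h5
      linear_combination h5
    have h6 := eq_neg_of_add_eq_zero_left ((mul_eq_zero.mp h3).resolve_left hd0)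
    refine Or.inr ⟨h6, ?_⟩
    rw [h6] at hu'
    linear_combination -hu'
  · left
    have e2 := hon' a hu'
    rw [hc, hr, if_pos rfl, ea, hμi] at e2
    have e3 : (1 + ((μ : F) - 1) * π) * (1 + ((μ : F)⁻¹ - 1) * π) =
        ((μ : F) - 1) * ((μ : F)⁻¹ - 1) * (π * π) := by
      rw [e2, ← e1]
      linear_combination ((μ : F) - 1) * ((μ : F)⁻¹ - 1) * (π * eb + y.val b k * y⁻¹.val k b * ea)
    field_simp at e3
    linear_combination e3

theorem two_pi_eq {y : GL (Fin n) F} (hy : y ∈ X) {i j : Fin n} (hij : i ≠ j) (hi : Fixes y i)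
    (hj : Fixes y j) {k : Fin n} (hki : k ≠ i) (hkj : k ≠ j) {a b : Fin n} (hab : a ≠ b)
    (hua : y.val a k ≠ 0) (hub : y.val b k ≠ 0) {π : F} (hB : Bal y k π) : 2 * π = 1 := by
  classical
  by_contra h
  have A : ∀ μ : Fˣ, (μ : F) ≠ 1 → π * (μ : F) ^ 2 + (1 - 2 * π) * (μ : F) + π = 0 := fun μ hμ =>
    (twist_cases hn hq hN hF hy hij hi hj hki hkj hab hua hub hB μ hμ).resolve_right fun e => h e.2
  obtain ⟨m1, h1⟩ := exists_unit_not_mem ({1} : Finset F) (by simp; omega)
  obtain ⟨m2, h2⟩ := exists_unit_not_mem ({1, (m1 : F)} : Finset F)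
    (le_trans (Nat.add_le_add_right Finset.card_le_two 2) (by omega))
  obtain ⟨m3, h3⟩ := exists_unit_not_mem ({1, (m1 : F), (m2 : F)} : Finset F)
    (le_trans (Nat.add_le_add_right Finset.card_le_three 2) (by omega))
  simp only [Finset.mem_singleton, Finset.mem_insert, not_or] at h1 h2 h3
  have d12 : π * ((m1 : F) + m2) + (1 - 2 * π) = 0 := by
    have : ((m2 : F) - m1) * (π * ((m1 : F) + m2) + (1 - 2 * π)) = 0 := by
      linear_combination A m2 h2.1 - A m1 h1
    exact (mul_eq_zero.mp this).resolve_left (sub_ne_zero.mpr h2.2)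
  have d13 : π * ((m1 : F) + m3) + (1 - 2 * π) = 0 := by
    have : ((m3 : F) - m1) * (π * ((m1 : F) + m3) + (1 - 2 * π)) = 0 := by
      linear_combination A m3 h3.1 - A m1 h1
    exact (mul_eq_zero.mp this).resolve_left (sub_ne_zero.mpr h3.2.1)
  have : π * ((m3 : F) - m2) = 0 := by linear_combination d13 - d12
  exact h3.2.2 (sub_eq_zero.mp ((mul_eq_zero.mp this).resolve_left hB.1))

end NotFull

/-- A non-monomial element of `X` fixing two basis vectors makes `X` full. -/
theorem full_of_fix_two (hn : 6 ≤ n) (hq : 5 ≤ Fintype.card F) (hN : HasMono X)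
    {y : GL (Fin n) F} (hy : y ∈ X) (hmono : ¬ IsMono y) {i j : Fin n} (hij : i ≠ j)
    (hi : Fixes y i) (hj : Fixes y j) : Full X := by
  classical
  by_contra hF
  have hn5 : 5 ≤ n := by omega
  have hrow := row_trivial hn5 hq hN hF hy hij hi hj
  have hrow' := row_trivial hn5 hq hN hF hy hij.symm hj hi
  obtain ⟨k, a, b, hab, hua, hub⟩ := exists_two_of_not_mono hmono
  have hki : k ≠ i := by
    rintro rfl
    rw [hi] at hua hub
    exact hab ((ite_ne_right_iff.mp hua).1.trans (ite_ne_right_iff.mp hub).1.symm)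
  have hkj : k ≠ j := by
    rintro rfl
    rw [hj] at hua hub
    exact hab ((ite_ne_right_iff.mp hua).1.trans (ite_ne_right_iff.mp hub).1.symm)
  have hai : a ≠ i := fun e => hua (by rw [e, hrow, if_neg hki.symm])
  have haj : a ≠ j := fun e => hua (by rw [e, hrow', if_neg hkj.symm])
  have hbi : b ≠ i := fun e => hub (by rw [e, hrow, if_neg hki.symm])
  have hbj : b ≠ j := fun e => hub (by rw [e, hrow', if_neg hkj.symm])
  obtain ⟨π, hB⟩ := exists_bal hn5 hq hN hF hy hij hi hj hki hkj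
  obtain ⟨hπ, hon, hoff⟩ := hB
  have h2π := two_pi_eq hn5 hq hN hF hy hij hi hj hki hkj hab hua hub ⟨hπ, hon, hoff⟩
  have h20 : (2 : F) ≠ 0 := left_ne_zero_of_mul_eq_one h2π
  have ea := hon a hua
  have eb := hon b hub
  by_cases hc : ∃ c, c ≠ a ∧ c ≠ b ∧ y.val c k ≠ 0
  · obtain ⟨c, hca, hcb, huc⟩ := hc
    obtain ⟨y2, hy2, h2i, h2j, hcol, hrw⟩ := twist hn5 hq hN hF hy hij hi hj hki hkj hab hai hbi hbj (-1)
    obtain ⟨π', hB'⟩ := exists_bal hn5 hq hN hF hy2 hij h2i h2j hai haj
    have hd : ((-1 : Fˣ) : F) - 1 ≠ 0 := by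
      rw [Units.val_neg, Units.val_one]
      intro e
      exact h20 (by linear_combination -e)
    have hψa : y⁻¹.val k a ≠ 0 := fun e => hπ (by rw [← ea, e, mul_zero])
    have hb' : y2.val b a ≠ 0 := by
      rw [hcol, if_neg hab.symm, zero_add]
      exact mul_ne_zero hd (mul_ne_zero hub hψa)
    have hc' : y2.val c a ≠ 0 := by
      rw [hcol, if_neg hca, zero_add]
      exact mul_ne_zero hd (mul_ne_zero huc hψa)
    have h2π' := two_pi_eq hn5 hq hN hF hy2 hij h2i h2j hai haj (Ne.symm hcb) hb' hc' hB'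
    have e1 := hB'.2.1 b hb'
    rw [hcol, hrw, if_neg hab.symm, if_neg hab, zero_add, zero_add, inv_neg, inv_one, Units.val_neg,
      Units.val_one] at e1
    have e2 : π' = 1 := by
      rw [← e1]
      linear_combination 4 * (π * eb + y.val b k * y⁻¹.val k b * ea) + (2 * π + 1) * h2π
    rw [e2] at h2π'
    exact one_ne_zero (α := F) (by linear_combination h2π')
  · push Not at hc
    obtain ⟨μ, hμ⟩ := exists_unit_not_mem ({1, -1} : Finset F)
      (le_trans (Nat.add_le_add_right Finset.card_le_two 2) (by omega))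
    simp only [Finset.mem_singleton, Finset.mem_insert, not_or] at hμ
    have hsq : (μ : F) ^ 2 = -1 := by
      have := (twist_cases hn5 hq hN hF hy hij hi hj hki hkj hab hua hub ⟨hπ, hon, hoff⟩ μ hμ.1).resolve_right
        fun e => hμ.2 e.1
      linear_combination 2 * this - ((μ : F) ^ 2 - 2 * (μ : F) + 1) * h2π
    obtain ⟨c, hci, hcj, hca, hcb⟩ := exists_ne₄ hn5 i j a b
    have huc : y.val c k = 0 := hc c hca hcb
    have hψc := hoff c huc
    let σ : Equiv.Perm (Fin n) := Equiv.swap a b * Equiv.swap b c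
    have σa : σ a = b := by
      show Equiv.swap a b (Equiv.swap b c a) = b
      rw [Equiv.swap_apply_of_ne_of_ne hab hca.symm, Equiv.swap_apply_left]
    have σb : σ b = c := by
      show Equiv.swap a b (Equiv.swap b c b) = c
      rw [Equiv.swap_apply_left, Equiv.swap_apply_of_ne_of_ne hca hcb]
    have σfix : ∀ x, x ≠ a → x ≠ b → x ≠ c → σ x = x := fun x h1 h2 h3 => by
      show Equiv.swap a b (Equiv.swap b c x) = x
      rw [Equiv.swap_apply_of_ne_of_ne h2 h3, Equiv.swap_apply_of_ne_of_ne h1 h2]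
    have σi := σfix i hai.symm hbi.symm hci.symm
    have σj := σfix j haj.symm hbj.symm hcj.symm
    let P : GL (Fin n) F := monGL σ fun _ => 1
    have hP : P ∈ X := hN _ (isMono_monGL ..) (by
      rw [det_monGL]
      simp [σ, hab, Ne.symm hcb])
    have hPc : ∀ (g : GL (Fin n) F) r s, (P * g * P⁻¹).val (σ r) (σ s) = g.val r s := fun g r s => by
      rw [monGL_conj_val]; simp
    have hPfix : ∀ z, σ z = z → Fixes P z := fun z hz r => by rw [monGL_val, hz, Units.val_one]
    have hrowinv := row_trivial hn5 hq hN hF (inv_mem hy) hij hi.inv hj.inv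
    -- the two conjugates
    let f := biRefl y i k μ⁻¹
    have hfX : f ∈ X := mul_mem (mul_mem hy (hN _ (isMono_pairGL ..) (pairGL_det hki.symm _))) (inv_mem hy)
    have hfv : ∀ r s, s ≠ i →
        f.val r s = (if r = s then 1 else 0) + ((μ : F) - 1) * (y.val r k * y⁻¹.val k s) := fun r s hs => by
      rw [biRefl_val _ hki.symm, inv_inv, hrowinv s, if_neg hs.symm]; ring
    have hfiv : ∀ r s, s ≠ i → f⁻¹.val r s =
        (if r = s then 1 else 0) + (((μ⁻¹ : Fˣ) : F) - 1) * (y.val r k * y⁻¹.val k s) := fun r s hs => by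
      rw [biRefl_inv, inv_inv, biRefl_val _ hki.symm, hrowinv s, if_neg hs.symm]; ring
    have hfi : ∀ r, f.val r i = if r = i then ((μ⁻¹ : Fˣ) : F) else 0 := fun r => by
      rw [biRefl_val _ hki.symm, inv_inv, hi r, hi.inv i, hi.inv k, if_pos rfl, if_neg hki]
      split_ifs <;> simp
    have hfii : ∀ r, f⁻¹.val r i = if r = i then (μ : F) else 0 := fun r => by
      rw [biRefl_inv, inv_inv, biRefl_val _ hki.symm, hi r, hi.inv i, hi.inv k, if_pos rfl, if_neg hki]
      split_ifs <;> simp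
    let y3 := f * (P * f⁻¹ * P⁻¹)
    have hy3 : y3 ∈ X := mul_mem hfX (mul_mem (mul_mem hP (inv_mem hfX)) (inv_mem hP))
    have hf2i : ∀ r, (P * f⁻¹ * P⁻¹).val r i = if r = i then (μ : F) else 0 := fun r => by
      obtain ⟨r', rfl⟩ := σ.surjective r
      have := hPc f⁻¹ r' i
      rw [σi] at this
      rw [this, hfii]
      refine if_congr ⟨fun e => by rw [e, σi], fun e => σ.injective (e.trans σi.symm)⟩ rfl rfl
    have h3i : Fixes y3 i := fun r => by
      rw [mul_val_apply, Finset.sum_eq_single i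
        (fun x _ hx => by rw [hf2i, if_neg hx, mul_zero]) (by simp), hf2i, if_pos rfl, hfi]
      split_ifs <;> simp
    have hfj : Fixes f j := fixes_biRefl hj hij.symm hkj.symm _
    have h3j : Fixes y3 j := hfj.mul (((hPfix j σj).mul hfj.inv).mul (hPfix j σj).inv)
    obtain ⟨π3, hπ3, hon3, hoff3⟩ := exists_bal hn5 hq hN hF hy3 hij h3i h3j hci hcj
    have hf2c : ∀ x, x ≠ b → x ≠ c → (P * f⁻¹ * P⁻¹).val x c = 0 := by
      intro x hxb hxc
      obtain ⟨x', rfl⟩ := σ.surjective x
      have := hPc f⁻¹ x' b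
      rw [σb] at this
      have h1 : x' ≠ a := fun e => hxb (by rw [e, σa])
      have h2 : x' ≠ b := fun e => hxc (by rw [e, σb])
      rw [this, hfiv _ _ hbi, if_neg h2, hc x' h1 h2]
      simp
    have hcol : ∀ r, y3.val r c = f.val r b * (P * f⁻¹ * P⁻¹).val b c +
        f.val r c * (P * f⁻¹ * P⁻¹).val c c := fun r => by
      rw [mul_val_apply]
      refine Finset.sum_eq_add b c hcb.symm (fun x _ hx => ?_) (by simp) (by simp)
      rw [hf2c x hx.1 hx.2, mul_zero]
    have hinv : y3⁻¹ = (P * f * P⁻¹) * f⁻¹ := by show (f * _)⁻¹ = _; group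
    have hg2c : ∀ x, x ≠ b → x ≠ c → (P * f * P⁻¹).val c x = 0 := by
      intro x hxb hxc
      obtain ⟨x', rfl⟩ := σ.surjective x
      have := hPc f b x'
      rw [σb] at this
      have h1 : x' ≠ a := fun e => hxb (by rw [e, σa])
      have h2 : x' ≠ b := fun e => hxc (by rw [e, σb])
      rw [this]
      by_cases h3 : x' = i
      · rw [h3, hfi, if_neg hbi]
      · rw [hfv _ _ h3, if_neg (Ne.symm h2), hoff x' (hc x' h1 h2)]
        simp
    have hrowc : ∀ s, y3⁻¹.val c s = (P * f * P⁻¹).val c b * f⁻¹.val b s +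
        (P * f * P⁻¹).val c c * f⁻¹.val c s := fun s => by
      rw [hinv, mul_val_apply]
      refine Finset.sum_eq_add b c hcb.symm (fun x _ hx => ?_) (by simp) (by simp)
      rw [hg2c x hx.1 hx.2, zero_mul]
    have e_bc : (P * f⁻¹ * P⁻¹).val b c = f⁻¹.val a b := by rw [← hPc f⁻¹ a b, σa, σb]
    have e_cc : (P * f⁻¹ * P⁻¹).val c c = f⁻¹.val b b := by rw [← hPc f⁻¹ b b, σb]
    have g_cb : (P * f * P⁻¹).val c b = f.val b a := by rw [← hPc f b a, σa, σb]
    have g_cc : (P * f * P⁻¹).val c c = f.val b b := by rw [← hPc f b b, σb]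
    have hμi : ((μ⁻¹ : Fˣ) : F) = -(μ : F) := by
      rw [Units.val_inv_eq_inv_val]
      exact inv_eq_of_mul_eq_one_right (by linear_combination -hsq)
    have va : y3.val a c = ((μ : F) - 1) * (-(μ : F) - 1) * (y.val a k * y⁻¹.val k b) ^ 2 := by
      rw [hcol, e_bc, e_cc, hfv _ _ hbi, hfv _ _ hci, hfiv _ _ hbi, if_neg hab, if_neg hca.symm, hψc, hμi]
      ring
    have vc : y3.val c c = 1 + (-(μ : F) - 1) * π := by
      rw [hcol, e_bc, e_cc, hfv _ _ hbi, hfv _ _ hci, hfiv _ _ hbi, hfiv _ _ hbi, if_neg hcb, huc,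
        if_pos rfl, if_pos rfl, eb, hμi]
      ring
    have wa : y3⁻¹.val c a = ((μ : F) - 1) * (-(μ : F) - 1) * (y.val b k * y⁻¹.val k a) ^ 2 := by
      rw [hrowc, g_cb, g_cc, hfv _ _ hai, hfiv _ _ hai, hfiv _ _ hai, if_neg hab.symm, if_neg hca, huc,
        hμi]
      ring
    have wc : y3⁻¹.val c c = 1 + ((μ : F) - 1) * π := by
      rw [hrowc, g_cb, g_cc, hfv _ _ hbi, hfiv _ _ hci, hfiv _ _ hci, if_neg (Ne.symm hcb), if_pos rfl,
        if_pos rfl, huc, hψc, eb]
      ring
    have pa : y3.val a c * y3⁻¹.val c a = 4 * π ^ 4 := by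
      rw [va, wa, ← ea]
      have : (((μ : F) - 1) * (-(μ : F) - 1)) ^ 2 = 4 := by
        linear_combination ((μ : F) ^ 2 - 3) * hsq
      linear_combination (y.val a k * y⁻¹.val k a) ^ 2 * (y.val b k * y⁻¹.val k b) ^ 2 * this +
        4 * (y.val a k * y⁻¹.val k a) ^ 2 * (y.val b k * y⁻¹.val k b + π) * eb -
        4 * (y.val a k * y⁻¹.val k a) ^ 2 * (y.val a k * y⁻¹.val k a + π) * ea
    have pc : y3.val c c * y3⁻¹.val c c = 1 - 2 * π + 2 * π ^ 2 := by
      rw [vc, wc]
      linear_combination -π ^ 2 * hsq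
    have hπ4 : 4 * π ^ 4 ≠ 0 := by
      have : (4 : F) = 2 * 2 := by norm_num
      rw [this]
      exact mul_ne_zero (mul_ne_zero h20 h20) (pow_ne_zero _ hπ)
    have ha3 : y3.val a c ≠ 0 := fun e => hπ4 (by rw [← pa, e, zero_mul])
    have hc3 : y3.val c c ≠ 0 := fun e => by
      have h0 : 1 - 2 * π + 2 * π ^ 2 = 0 := by rw [← pc, e, zero_mul]
      exact one_ne_zero (α := F) (by linear_combination 2 * h0 - (2 * π - 1) * h2π)
    have h1 : 4 * π ^ 4 = 1 - 2 * π + 2 * π ^ 2 := by rw [← pa, ← pc, hon3 a ha3, hon3 c hc3]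
    exact one_ne_zero (α := F) (by
      linear_combination -4 * h1 + ((2 * π) ^ 3 + (2 * π) ^ 2 + (2 * π) + 1 - 2 * (2 * π + 1) + 4) * h2π)

end

end H61.Monomial
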