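import Mathlib

set_option autoImplicit false

namespace H61

/-- If `g` normalises a finite group `Q` acting coprimely on an abelian group `A`, no power
`g^i` (`0 < i < h`) centralises a non-trivial element of `Q`, and the norm `∏_{i<h} g^i`
annihilates `A`, then `Q` acts trivially on `A`. -/
theorem action_trivial_of_norm_eq_one {L A : Type*} [Group L] [CommGroup A] [Finite A]
    (φ : L →* MulAut A) (Q : Subgroup L) [Finite Q] (g : L) (h : ℕ) (hh : 0 < h)
    (hg : g ∈ Subgroup.normalizer (Q : Set L))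
    (hfix : ∀ i, 0 < i → i < h → ∀ a ∈ Q, a * g ^ i = g ^ i * a → a = 1)
    (hcop : (Nat.card Q).Coprime (Nat.card A))
    (hnorm : ∀ v : A, ∏ i ∈ Finset.range h, φ (g ^ i) v = 1) :
    ∀ q ∈ Q, ∀ v : A, φ q v = v := by
  classical
  cases nonempty_fintype Q
  intro q hq v
  have hnormal : ∀ i : ℕ, ∀ a ∈ Q, g ^ i * a * (g ^ i)⁻¹ ∈ Q := fun i a ha =>
    (Subgroup.mem_normalizer_iff.mp (Subgroup.pow_mem _ hg i) a).mp ha
  set P : A → A := fun u => ∏ a : Q, φ (a : L) u with hP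
  have hPq : ∀ r ∈ Q, ∀ u, P (φ r u) = P u := by
    intro r hr u
    rw [hP]
    refine Fintype.prod_equiv (Equiv.mulRight (⟨r, hr⟩ : Q)) _ _ fun a => ?_
    simp [map_mul]
  set w := φ q v * v⁻¹ with hw
  have hPdiff : ∀ r ∈ Q, ∀ u, P (φ r u * u⁻¹) = 1 := by
    intro r hr u
    have h1 := hPq r hr u
    rw [hP] at h1 ⊢
    simp only [map_mul, map_inv, Finset.prod_mul_distrib, Finset.prod_inv_distrib] at h1 ⊢
    rw [h1, mul_inv_cancel]
  -- the double product
  have hD1 : ∏ a : Q, ∏ i ∈ Finset.range h, φ ((a : L) * g ^ i * (a : L)⁻¹) w = 1 := by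
    refine Finset.prod_eq_one fun a _ => ?_
    have := congrArg (φ (a : L)) (hnorm (φ (a : L)⁻¹ w))
    rw [map_prod, map_one] at this
    rw [← this]
    refine Finset.prod_congr rfl fun i _ => ?_
    simp [map_mul]
  rw [Finset.prod_comm, ← Finset.prod_erase_mul (Finset.range h) _ (Finset.mem_range.mpr hh)] at hD1
  have hrest : ∏ i ∈ (Finset.range h).erase 0, ∏ a : Q, φ ((a : L) * g ^ i * (a : L)⁻¹) w = 1 := by
    refine Finset.prod_eq_one fun i hi => ?_
    obtain ⟨hi0, hih⟩ := Finset.mem_erase.mp hi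
    rw [Finset.mem_range] at hih
    let f : Q → Q := fun a => ⟨(a : L) * (g ^ i * (a : L)⁻¹ * (g ^ i)⁻¹), Q.mul_mem a.2 (hnormal i _ (Q.inv_mem a.2))⟩
    have hf : Function.Bijective f := by
      refine Finite.injective_iff_bijective.mp fun a b hab => ?_
      have h' : (a : L) * (g ^ i * (a : L)⁻¹ * (g ^ i)⁻¹) = (b : L) * (g ^ i * (b : L)⁻¹ * (g ^ i)⁻¹) :=
        congrArg Subtype.val hab
      have hc : (b : L)⁻¹ * a * g ^ i = g ^ i * ((b : L)⁻¹ * a) := by
        calc (b : L)⁻¹ * a * g ^ i = (b : L)⁻¹ * ((a : L) * (g ^ i * (a : L)⁻¹ * (g ^ i)⁻¹)) * g ^ i * a := by group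
          _ = (b : L)⁻¹ * ((b : L) * (g ^ i * (b : L)⁻¹ * (g ^ i)⁻¹)) * g ^ i * a := by rw [h']
          _ = g ^ i * ((b : L)⁻¹ * a) := by group
      have := hfix i (Nat.pos_of_ne_zero hi0) hih _ (Q.mul_mem (Q.inv_mem b.2) a.2) hc
      exact Subtype.ext (inv_mul_eq_one.mp this).symm
    have hg' : φ (g ^ i) w = φ (g ^ i * q * (g ^ i)⁻¹) (φ (g ^ i) v) * (φ (g ^ i) v)⁻¹ := by
      simp [hw, map_mul]
    calc ∏ a : Q, φ ((a : L) * g ^ i * (a : L)⁻¹) w = ∏ a : Q, φ (f a : L) (φ (g ^ i) w) := by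
          refine Finset.prod_congr rfl fun a _ => ?_
          rw [← MulAut.mul_apply, ← map_mul]
          congr 2
          simp only [f]
          group
      _ = P (φ (g ^ i) w) := Fintype.prod_bijective f hf _ (fun a => φ (a : L) (φ (g ^ i) w)) (fun _ => rfl)
      _ = 1 := by rw [hg']; exact hPdiff _ (hnormal i q hq) _
  rw [hrest, one_mul] at hD1
  simp only [pow_zero, mul_one, mul_inv_cancel, map_one, MulAut.one_apply, Finset.prod_const,
    Finset.card_univ, ← Nat.card_eq_fintype_card] at hD1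
  have : w = 1 := by
    have h2 := Nat.dvd_gcd (orderOf_dvd_of_pow_eq_one hD1) (orderOf_dvd_natCard w)
    rw [hcop.gcd_eq_one, Nat.dvd_one, orderOf_eq_one_iff] at h2
    exact h2
  exact mul_inv_eq_one.mp this

end H61
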