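import Mathlib

/-! Groups of order `320` with derived subgroup of order `64` whose centre is a four-group:
they are generated by two elements satisfying a fixed list of relations. -/

set_option autoImplicit false

namespace H61.Ord320

variable {G : Type*} [Group G]

/-- The conjugates of `y` by powers of `s`. -/
def cj (s y : G) (i : ℕ) : G := s ^ i * y * (s ^ i)⁻¹

theorem cj_cj (s y : G) (i j : ℕ) : s ^ j * cj s y i * (s ^ j)⁻¹ = cj s y (j + i) := by
  simp only [cj, pow_add, mul_inv_rev, mul_assoc]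

theorem cj_zero (s y : G) : cj s y 0 = y := by simp [cj]

theorem cj_add_five {s : G} (y : G) (h : s ^ 5 = 1) (i : ℕ) : cj s y (i + 5) = cj s y i := by
  simp [cj, pow_add, h]

theorem cj_commute {s y z : G} (hs : Commute z s) (hy : Commute z y) (i : ℕ) :
    Commute z (cj s y i) :=
  ((hs.pow_right i).mul_right hy).mul_right (hs.pow_right i).inv_right

/-- The relations. -/
structure Rel (y s a b : G) : Prop where
  aa : a * a = 1
  bb : b * b = 1
  ay : Commute a y
  as' : Commute a s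
  by' : Commute b y
  bs : Commute b s
  ab : Commute a b
  s5 : s ^ 5 = 1
  sq : y * y = a
  com1 : cj s y 1 * y = y * cj s y 1 * b
  com2 : cj s y 2 * y = y * cj s y 2 * (a * b)
  prod : cj s y 0 * cj s y 1 * cj s y 2 * cj s y 3 * cj s y 4 = 1

/-- A power with exponent zero or one. -/
def pw (x : G) (e : Bool) : G := bif e then x else 1

theorem pw_mul_pw {x : G} (h : x * x = 1) (i j : Bool) : pw x i * pw x j = pw x (xor i j) := by
  cases i <;> cases j <;> simp [pw, h]

theorem pw_toggle {x z : G} (h : x * x = z) (e : Bool) : pw x e * x = pw x (!e) * pw z e := by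
  cases e <;> simp [pw, h]

theorem pw_swap {x w z : G} (h : x * w = w * x * z) (e : Bool) :
    pw x e * w = w * pw x e * pw z e := by
  cases e <;> simp [pw, h]

theorem pw_commute {z x : G} (h : Commute z x) (e : Bool) : Commute z (pw x e) := by
  cases e <;> simp [pw, h]

variable {y s a b : G}

/-- The first four conjugates, in normal form. -/
def Yw (s y : G) (e : Bool × Bool × Bool × Bool) : G :=
  pw (cj s y 0) e.1 * pw (cj s y 1) e.2.1 * pw (cj s y 2) e.2.2.1 * pw (cj s y 3) e.2.2.2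

/-- The central part, in normal form. -/
def Zw (a b : G) (f : Bool × Bool) : G := pw a f.1 * pw b f.2

namespace Rel

theorem comm_a (h : Rel y s a b) (i : ℕ) : Commute a (cj s y i) := cj_commute h.as' h.ay i

theorem comm_b (h : Rel y s a b) (i : ℕ) : Commute b (cj s y i) := cj_commute h.bs h.by' i

theorem sq_cj (h : Rel y s a b) (i : ℕ) : cj s y i * cj s y i = a := by
  have hc : s ^ i * a * (s ^ i)⁻¹ = a := by
    rw [← (h.as'.pow_right i).eq, mul_assoc, mul_inv_cancel, mul_one]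
  conv_rhs => rw [← hc, ← h.sq]
  simp [cj, mul_assoc]

theorem swap1 (h : Rel y s a b) (i : ℕ) :
    cj s y (i + 1) * cj s y i = cj s y i * cj s y (i + 1) * b := by
  have e := congrArg (fun g => s ^ i * g * (s ^ i)⁻¹) h.com1
  have hb : s ^ i * b * (s ^ i)⁻¹ = b := by
    rw [← (h.bs.pow_right i).eq, mul_assoc, mul_inv_cancel, mul_one]
  rw [← cj_cj s y 1 i]
  simp only [cj] at e ⊢
  calc _ = s ^ i * (s ^ 1 * y * (s ^ 1)⁻¹ * y) * (s ^ i)⁻¹ := by group
    _ = _ := e
    _ = _ := by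
      conv_rhs => rw [← hb]
      group

theorem swap2 (h : Rel y s a b) (i : ℕ) :
    cj s y (i + 2) * cj s y i = cj s y i * cj s y (i + 2) * (a * b) := by
  have e := congrArg (fun g => s ^ i * g * (s ^ i)⁻¹) h.com2
  have hb : s ^ i * (a * b) * (s ^ i)⁻¹ = a * b := by
    rw [← ((h.as'.mul_left h.bs).pow_right i).eq, mul_assoc, mul_inv_cancel, mul_one]
  rw [← cj_cj s y 2 i]
  simp only [cj] at e ⊢
  calc _ = s ^ i * (s ^ 2 * y * (s ^ 2)⁻¹ * y) * (s ^ i)⁻¹ := by group
    _ = _ := e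
    _ = _ := by
      conv_rhs => rw [← hb]
      group

theorem ab_sq (h : Rel y s a b) : (a * b) * (a * b) = 1 := by
  rw [h.ab.mul_mul_mul_comm a b |>.symm] <;> simp [h.aa, h.bb]

theorem swap3 (h : Rel y s a b) :
    cj s y 3 * cj s y 0 = cj s y 0 * cj s y 3 * (a * b) := by
  have e := h.swap2 3
  rw [cj_add_five y h.s5 0] at e
  rw [e, mul_assoc, h.ab_sq, mul_one]

theorem zw_mul (h : Rel y s a b) (f g : Bool × Bool) :
    ∃ k, Zw a b f * Zw a b g = Zw a b k := by
  refine ⟨(xor f.1 g.1, xor f.2 g.2), ?_⟩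
  rw [Zw, Zw, Zw, ← pw_mul_pw h.aa, ← pw_mul_pw h.bb]
  exact ((pw_commute (pw_commute h.ab.symm g.1).symm f.2).symm).mul_mul_mul_comm _ _

theorem zw_comm (h : Rel y s a b) {g : G} (ha : Commute a g) (hb : Commute b g)
    (f : Bool × Bool) : Commute (Zw a b f) g :=
  ((pw_commute ha.symm f.1).symm).mul_left (pw_commute hb.symm f.2).symm

theorem zw_cj (h : Rel y s a b) (f : Bool × Bool) (i : ℕ) :
    Zw a b f * cj s y i = cj s y i * Zw a b f :=
  (h.zw_comm (h.comm_a i) (h.comm_b i) f).eq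

theorem pw_ab (h : Rel y s a b) (e : Bool) : pw (a * b) e = Zw a b (e, e) := by
  cases e <;> simp [Zw, pw]

theorem step (h : Rel y s a b) {i : ℕ} (hi : i < 4) (e : Bool × Bool × Bool × Bool) :
    ∃ e' f, Yw s y e * cj s y i = Yw s y e' * Zw a b f := by
  obtain ⟨e0, e1, e2, e3⟩ := e
  have hA : ∀ (x : Bool) (j : ℕ), pw (cj s y j) x * cj s y j
      = pw (cj s y j) (!x) * Zw a b (x, false) := fun x j => by
    rw [pw_toggle (h.sq_cj j)]; simp [Zw, pw]
  have hZ : ∀ (f : Bool × Bool) (x : Bool) (j : ℕ),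
      Zw a b f * pw (cj s y j) x = pw (cj s y j) x * Zw a b f := fun f x j => by
    cases x <;> simp [pw, h.zw_cj]
  have hB : ∀ x : Bool, pw b x = Zw a b (false, x) := fun x => by simp [Zw, pw]
  interval_cases i
  · obtain ⟨f1, hf1⟩ := h.zw_mul (e1 && false, e1) (e2, e2)
    obtain ⟨f2, hf2⟩ := h.zw_mul f1 (e3, e3)
    obtain ⟨f3, hf3⟩ := h.zw_mul (e0, false) f2
    refine ⟨(!e0, e1, e2, e3), f3, ?_⟩
    simp only [Yw]
    calc pw (cj s y 0) e0 * pw (cj s y 1) e1 * pw (cj s y 2) e2 * pw (cj s y 3) e3 * cj s y 0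
        = pw (cj s y 0) e0 * pw (cj s y 1) e1 * pw (cj s y 2) e2 *
            (cj s y 0 * pw (cj s y 3) e3 * Zw a b (e3, e3)) := by
          rw [mul_assoc, pw_swap h.swap3, h.pw_ab]
      _ = pw (cj s y 0) e0 * pw (cj s y 1) e1 * (pw (cj s y 2) e2 * cj s y 0) *
            pw (cj s y 3) e3 * Zw a b (e3, e3) := by simp only [mul_assoc]
      _ = pw (cj s y 0) e0 * (pw (cj s y 1) e1 * cj s y 0) * pw (cj s y 2) e2 *
            (Zw a b (e2, e2) * pw (cj s y 3) e3) * Zw a b (e3, e3) := by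
          rw [pw_swap (h.swap2 0), h.pw_ab]; simp only [mul_assoc]
      _ = (pw (cj s y 0) e0 * cj s y 0) * pw (cj s y 1) e1 *
            (Zw a b (false, e1) * pw (cj s y 2) e2) * pw (cj s y 3) e3 *
            (Zw a b (e2, e2) * Zw a b (e3, e3)) := by
          rw [pw_swap (h.swap1 0), hB, hZ]; simp only [mul_assoc]
      _ = pw (cj s y 0) (!e0) * (Zw a b (e0, false) * pw (cj s y 1) e1) *
            pw (cj s y 2) e2 * (Zw a b (false, e1) * pw (cj s y 3) e3) *
            (Zw a b (e2, e2) * Zw a b (e3, e3)) := by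
          rw [hA, hZ (false, e1)]; simp only [mul_assoc]
      _ = pw (cj s y 0) (!e0) * pw (cj s y 1) e1 * (Zw a b (e0, false) * pw (cj s y 2) e2) *
            pw (cj s y 3) e3 * Zw a b (false, e1) * (Zw a b (e2, e2) * Zw a b (e3, e3)) := by
          rw [hZ, hZ (false, e1)]; simp only [mul_assoc]
      _ = pw (cj s y 0) (!e0) * pw (cj s y 1) e1 * pw (cj s y 2) e2 *
            (Zw a b (e0, false) * pw (cj s y 3) e3) * Zw a b (false, e1) *
            (Zw a b (e2, e2) * Zw a b (e3, e3)) := by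
          rw [hZ]; simp only [mul_assoc]
      _ = _ := by
          rw [hZ, ← hf3, ← hf2, ← hf1, Bool.and_false]; simp only [mul_assoc]
  · obtain ⟨f1, hf1⟩ := h.zw_mul (false, e2) (e3, e3)
    obtain ⟨f3, hf3⟩ := h.zw_mul (e1, false) f1
    refine ⟨(e0, !e1, e2, e3), f3, ?_⟩
    simp only [Yw]
    calc pw (cj s y 0) e0 * pw (cj s y 1) e1 * pw (cj s y 2) e2 * pw (cj s y 3) e3 * cj s y 1
        = pw (cj s y 0) e0 * pw (cj s y 1) e1 * pw (cj s y 2) e2 *
            (cj s y 1 * pw (cj s y 3) e3 * Zw a b (e3, e3)) := by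
          rw [mul_assoc, pw_swap (h.swap2 1), h.pw_ab]
      _ = pw (cj s y 0) e0 * (pw (cj s y 1) e1 * cj s y 1) * pw (cj s y 2) e2 *
            (Zw a b (false, e2) * pw (cj s y 3) e3) * Zw a b (e3, e3) := by
          rw [← mul_assoc, ← mul_assoc, mul_assoc _ (pw (cj s y 2) e2) (cj s y 1),
            pw_swap (h.swap1 1), hB]
          simp only [mul_assoc]
      _ = pw (cj s y 0) e0 * pw (cj s y 1) (!e1) * (Zw a b (e1, false) * pw (cj s y 2) e2) *
            pw (cj s y 3) e3 * Zw a b (false, e2) * Zw a b (e3, e3) := by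
          rw [hA, hZ (false, e2)]; simp only [mul_assoc]
      _ = pw (cj s y 0) e0 * pw (cj s y 1) (!e1) * pw (cj s y 2) e2 *
            (Zw a b (e1, false) * pw (cj s y 3) e3) * Zw a b (false, e2) * Zw a b (e3, e3) := by
          rw [hZ]; simp only [mul_assoc]
      _ = _ := by rw [hZ, ← hf3, ← hf1]; simp only [mul_assoc]
  · obtain ⟨f3, hf3⟩ := h.zw_mul (e2, false) (false, e3)
    refine ⟨(e0, e1, !e2, e3), f3, ?_⟩
    simp only [Yw]
    calc pw (cj s y 0) e0 * pw (cj s y 1) e1 * pw (cj s y 2) e2 * pw (cj s y 3) e3 * cj s y 2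
        = pw (cj s y 0) e0 * pw (cj s y 1) e1 * pw (cj s y 2) e2 *
            (cj s y 2 * pw (cj s y 3) e3 * Zw a b (false, e3)) := by
          rw [mul_assoc, pw_swap (h.swap1 2), hB]
      _ = pw (cj s y 0) e0 * pw (cj s y 1) e1 * (pw (cj s y 2) e2 * cj s y 2) *
            pw (cj s y 3) e3 * Zw a b (false, e3) := by simp only [mul_assoc]
      _ = pw (cj s y 0) e0 * pw (cj s y 1) e1 * pw (cj s y 2) (!e2) *
            (Zw a b (e2, false) * pw (cj s y 3) e3) * Zw a b (false, e3) := by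
          rw [hA]; simp only [mul_assoc]
      _ = _ := by rw [hZ, ← hf3]; simp only [mul_assoc]
  · refine ⟨(e0, e1, e2, !e3), (e3, false), ?_⟩
    simp only [Yw]
    rw [mul_assoc, hA, ← mul_assoc]

/-- The possible elements of the generated group. -/
def Form (y s a b : G) (g : G) : Prop :=
  ∃ e f, ∃ k : Fin 5, g = Yw s y e * Zw a b f * s ^ (k : ℕ)

theorem form_mul_cj (h : Rel y s a b) {i : ℕ} (hi : i < 4) {e f}
    : ∃ e' f', Yw s y e * Zw a b f * cj s y i = Yw s y e' * Zw a b f' := by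
  obtain ⟨e', g, hg⟩ := h.step hi e
  obtain ⟨f', hf'⟩ := h.zw_mul g f
  exact ⟨e', f', by rw [mul_assoc, h.zw_cj, ← mul_assoc, hg, mul_assoc, hf']⟩

theorem cj_four (h : Rel y s a b) :
    cj s y 4 = cj s y 3 * cj s y 2 * cj s y 1 * cj s y 0 := by
  have hp := eq_inv_of_mul_eq_one_right h.prod
  have hinv : ∀ i, (cj s y i)⁻¹ = cj s y i * a := fun i => by
    refine inv_eq_of_mul_eq_one_right ?_
    rw [← mul_assoc, h.sq_cj, h.aa]
  rw [hp, mul_inv_rev, mul_inv_rev, mul_inv_rev, hinv, hinv, hinv, hinv]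
  have c := fun i => (h.comm_a i).eq
  calc _ = cj s y 3 * (a * cj s y 2) * a * (cj s y 1 * (a * cj s y 0)) * a := by
        simp only [mul_assoc]
    _ = cj s y 3 * cj s y 2 * (a * a) * cj s y 1 * cj s y 0 * (a * a) := by
        rw [c, c]; simp only [mul_assoc]
    _ = _ := by simp [h.aa, mul_assoc]

theorem form_mul_y (h : Rel y s a b) {g : G} (hg : Form y s a b g) : Form y s a b (g * y) := by
  obtain ⟨e, f, k, rfl⟩ := hg
  have key : ∃ e' f', Yw s y e * Zw a b f * cj s y (k : ℕ) = Yw s y e' * Zw a b f' := by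
    by_cases hk : (k : ℕ) < 4
    · exact h.form_mul_cj hk
    · rw [show (k : ℕ) = 4 by omega, h.cj_four]
      obtain ⟨e1, f1, h1⟩ := h.form_mul_cj (i := 3) (by omega) (e := e) (f := f)
      obtain ⟨e2, f2, h2⟩ := h.form_mul_cj (i := 2) (by omega) (e := e1) (f := f1)
      obtain ⟨e3, f3, h3⟩ := h.form_mul_cj (i := 1) (by omega) (e := e2) (f := f2)
      obtain ⟨e4, f4, h4⟩ := h.form_mul_cj (i := 0) (by omega) (e := e3) (f := f3)
      exact ⟨e4, f4, by simp only [← mul_assoc]; rw [h1, h2, h3, h4]⟩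
  obtain ⟨e', f', he⟩ := key
  refine ⟨e', f', k, ?_⟩
  rw [← he]
  simp [cj, mul_assoc]

theorem form_mul_s (h : Rel y s a b) {g : G} (hg : Form y s a b g) : Form y s a b (g * s) := by
  obtain ⟨e, f, k, rfl⟩ := hg
  refine ⟨e, f, ⟨((k : ℕ) + 1) % 5, Nat.mod_lt _ (by norm_num)⟩, ?_⟩
  have hp : s ^ (((k : ℕ) + 1) % 5) = s ^ ((k : ℕ) + 1) := by
    conv_rhs => rw [← Nat.mod_add_div ((k : ℕ) + 1) 5, pow_add, pow_mul, h.s5, one_pow, mul_one]
  rw [show s ^ ((⟨((k : ℕ) + 1) % 5, Nat.mod_lt _ (by norm_num)⟩ : Fin 5) : ℕ)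
    = s ^ ((k : ℕ) + 1) from hp, pow_succ]
  simp only [mul_assoc]

theorem form_of_mem (h : Rel y s a b) {g : G} (hg : g ∈ Subgroup.closure ({y, s} : Set G)) :
    Form y s a b g := by
  have hone : Form y s a b 1 :=
    ⟨(false, false, false, false), (false, false), 0, by simp [Yw, Zw, pw]⟩
  have hy4 : y⁻¹ = y * y * y := by
    refine inv_eq_of_mul_eq_one_right ?_
    calc y * (y * y * y) = (y * y) * (y * y) := by simp only [mul_assoc]
      _ = 1 := by rw [h.sq, h.aa]
  have hs4 : s⁻¹ = s * s * s * s := by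
    refine inv_eq_of_mul_eq_one_right ?_
    rw [← h.s5]
    simp [pow_succ, mul_assoc]
  induction hg using Subgroup.closure_induction_right with
  | one => exact hone
  | mul_right x _ z hz ih =>
    rcases hz with rfl | rfl
    · exact h.form_mul_y ih
    · exact h.form_mul_s ih
  | mul_inv_cancel x _ z hz ih =>
    rcases hz with rfl | rfl
    · rw [hy4]; simp only [← mul_assoc]
      exact h.form_mul_y (h.form_mul_y (h.form_mul_y ih))
    · rw [hs4]; simp only [← mul_assoc]
      exact h.form_mul_s (h.form_mul_s (h.form_mul_s (h.form_mul_s ih)))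

theorem card_closure_le (h : Rel y s a b) :
    Finite (Subgroup.closure ({y, s} : Set G)) ∧
      Nat.card (Subgroup.closure ({y, s} : Set G)) ≤ 320 := by
  classical
  let T := (Bool × Bool × Bool × Bool) × (Bool × Bool) × Fin 5
  have hex : ∀ g : Subgroup.closure ({y, s} : Set G), ∃ t : T,
      (g : G) = Yw s y t.1 * Zw a b t.2.1 * s ^ (t.2.2 : ℕ) := fun g => by
    obtain ⟨e, f, k, hk⟩ := h.form_of_mem g.2
    exact ⟨(e, f, k), hk⟩
  choose φ hφ using hex
  have hinj : Function.Injective φ := fun g g' hgg => Subtype.ext (by rw [hφ, hφ g', hgg])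
  refine ⟨Finite.of_injective φ hinj, ?_⟩
  refine (Nat.card_le_card_of_injective φ hinj).trans ?_
  simp [T]

theorem map {H : Type*} [Group H] (f : G →* H) (h : Rel y s a b) :
    Rel (f y) (f s) (f a) (f b) := by
  have hc : ∀ i, cj (f s) (f y) i = f (cj s y i) := fun i => by simp [cj]
  refine ⟨?_, ?_, h.ay.map f, h.as'.map f, h.by'.map f, h.bs.map f, h.ab.map f, ?_, ?_, ?_, ?_, ?_⟩
  all_goals simp only [hc, ← map_mul, ← map_pow]
  · rw [h.aa, map_one]
  · rw [h.bb, map_one]
  · rw [h.s5, map_one]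
  · rw [h.sq]
  · rw [h.com1]
  · rw [h.com2]
  · rw [h.prod, map_one]

theorem pair {H : Type*} [Group H] {y' s' a' b' : H} (h : Rel y s a b) (h' : Rel y' s' a' b') :
    Rel (y, y') (s, s') (a, a') (b, b') := by
  have hc : ∀ i, cj (s, s') (y, y') i = (cj s y i, cj s' y' i) := fun i => by simp [cj]
  refine ⟨?_, ?_, h.ay.prod h'.ay, h.as'.prod h'.as', h.by'.prod h'.by', h.bs.prod h'.bs,
    h.ab.prod h'.ab, ?_, ?_, ?_, ?_, ?_⟩
  all_goals simp only [hc, Prod.mk_mul_mk, Prod.pow_mk, Prod.mk_eq_one, Prod.mk.injEq]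
  exacts [⟨h.aa, h'.aa⟩, ⟨h.bb, h'.bb⟩, ⟨h.s5, h'.s5⟩, ⟨h.sq, h'.sq⟩, ⟨h.com1, h'.com1⟩,
    ⟨h.com2, h'.com2⟩, ⟨h.prod, h'.prod⟩]

end Rel

/-- Two groups of order `320` generated by such pairs are isomorphic. -/
theorem nonempty_equiv {H : Type*} [Group H] {y' s' a' b' : H} (h : Rel y s a b)
    (h' : Rel y' s' a' b') (hG : Subgroup.closure ({y, s} : Set G) = ⊤)
    (hcG : Nat.card G = 320)
    (hcH : Nat.card (Subgroup.closure ({y', s'} : Set H)) = 320) :
    Nonempty (G ≃* Subgroup.closure ({y', s'} : Set H)) := by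
  let D := Subgroup.closure ({(y, y'), (s, s')} : Set (G × H))
  obtain ⟨hfin, hle⟩ := (h.pair h').card_closure_le
  haveI : Finite D := hfin
  let f1 : D →* G := (MonoidHom.fst G H).comp D.subtype
  let f2 : D →* H := (MonoidHom.snd G H).comp D.subtype
  have r1 : f1.range = ⊤ := by
    rw [MonoidHom.range_comp, Subgroup.range_subtype, MonoidHom.map_closure, ← hG]
    congr 1
    simp [Set.image_insert_eq]
  have r2 : f2.range = Subgroup.closure ({y', s'} : Set H) := by
    rw [MonoidHom.range_comp, Subgroup.range_subtype, MonoidHom.map_closure]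
    congr 1
    simp [Set.image_insert_eq]
  have hcD : Nat.card D = 320 := by
    refine le_antisymm hle ?_
    rw [← hcG]
    exact Nat.card_le_card_of_surjective f1 (MonoidHom.range_eq_top.1 r1)
  have b1 : Function.Bijective f1 :=
    (Nat.bijective_iff_surjective_and_card f1).2 ⟨MonoidHom.range_eq_top.1 r1, by rw [hcD, hcG]⟩
  have s2 : Function.Surjective f2.rangeRestrict := f2.rangeRestrict_surjective
  have b2 : Function.Bijective f2.rangeRestrict :=
    (Nat.bijective_iff_surjective_and_card _).2 ⟨s2, by rw [hcD, r2, hcH]⟩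
  exact ⟨((MulEquiv.ofBijective f1 b1).symm.trans (MulEquiv.ofBijective _ b2)).trans
    (MulEquiv.subgroupCongr r2)⟩

end H61.Ord320
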