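import Cfsg.Agent.H61.Order320

/-! A group of order `320` with derived subgroup of order `64` and four-group centre of the
derived subgroup has generators satisfying the relations. -/

set_option autoImplicit false

namespace H61.Ord320

open scoped commutatorElement

variable {G : Type*} [Group G] [Finite G]

/-- Fixed points of an element of order dividing five on an invariant subgroup. -/
theorem card_mod_fixed (t : G) (ht : t ^ 5 = 1) (K : Subgroup G)
    (hK : ∀ k ∈ K, t * k * t⁻¹ ∈ K) :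
    Nat.card K % 5 = Nat.card (K ⊓ Subgroup.centralizer {t} : Subgroup G) % 5 := by
  classical
  haveI : Fact (Nat.Prime 5) := ⟨by norm_num⟩
  haveI := Fintype.ofFinite K
  let σ : Equiv.Perm K :=
    { toFun := fun k => ⟨t * k * t⁻¹, hK k k.2⟩
      invFun := fun k => ⟨t⁻¹ * k * t, by
        have h : ∀ n : ℕ, t ^ n * k * (t ^ n)⁻¹ ∈ K := by
          intro n
          induction n with
          | zero => simp
          | succ n ih =>
            have := hK _ ih
            rw [pow_succ', mul_inv_rev]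
            simpa [mul_assoc] using this
        have h4 := h 4
        rw [show t ^ 4 = t⁻¹ from eq_inv_of_mul_eq_one_left (by rw [← pow_succ, ht]),
          inv_inv] at h4
        exact h4⟩
      left_inv := fun k => Subtype.ext (by simp [mul_assoc])
      right_inv := fun k => Subtype.ext (by simp [mul_assoc]) }
  let σe : Function.End K := ⇑σ
  have hpow : ∀ (n : ℕ) (k : K), ((σe ^ n) k : G) = t ^ n * k * (t ^ n)⁻¹ := by
    intro n
    induction n with
    | zero => intro k; simp [Function.End.one_def]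
    | succ n ih =>
      intro k
      rw [pow_succ' σe]
      show t * ((σe ^ n) k : G) * t⁻¹ = _
      rw [ih, pow_succ', mul_inv_rev]
      simp [mul_assoc]
  have hσ : σe ^ (5 : ℕ) ^ 1 = 1 := funext fun k => Subtype.ext (by
    rw [pow_one, hpow, ht]; simp [Function.End.one_def])
  have hm := Equiv.Perm.card_fixedPoints_modEq hσ
  rw [← Nat.card_eq_fintype_card, ← Nat.card_eq_fintype_card] at hm
  have he : Function.fixedPoints σ ≃ (K ⊓ Subgroup.centralizer {t} : Subgroup G) :=
    { toFun := fun k => ⟨k.1.1, k.1.2, Subgroup.mem_centralizer_singleton_iff.2 (by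
        have h := congrArg (fun k : K => (k : G)) k.2
        change t * (k.1 : G) * t⁻¹ = k.1 at h
        exact (mul_inv_eq_iff_eq_mul.1 h).symm)⟩
      invFun := fun k => ⟨⟨k.1, k.2.1⟩, Subtype.ext (by
        show t * (k.1 : G) * t⁻¹ = k.1
        rw [← Subgroup.mem_centralizer_singleton_iff.1 k.2.2, mul_inv_cancel_right])⟩
      left_inv := fun k => rfl
      right_inv := fun k => rfl }
  rw [Nat.card_congr he] at hm
  exact hm

theorem two_pow_mod_five {m n : ℕ} (hm : m ∣ 16) (hn : n ∣ m) (hne : n ≠ m)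
    (h : m % 5 = n % 5) : m = 16 ∧ n = 1 := by
  obtain ⟨d, hd, rfl⟩ := (Nat.dvd_prime_pow Nat.prime_two).1 (show m ∣ 2 ^ 4 from hm)
  obtain ⟨f, hf, rfl⟩ := (Nat.dvd_prime_pow Nat.prime_two).1 hn
  interval_cases d <;> interval_cases f <;> simp_all

theorem exists_rel (hG : Nat.card G = 320) (hD : Nat.card (commutator G) = 64)
    (hZ : IsKleinFour (Subgroup.center (commutator G))) :
    ∃ y s a b : G, Rel y s a b ∧ Subgroup.closure ({y, s} : Set G) = ⊤ := by
  classical
  haveI : Fact (Nat.Prime 5) := ⟨by norm_num⟩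
  haveI : Fact (Nat.Prime 2) := ⟨Nat.prime_two⟩
  obtain ⟨s, hs⟩ := exists_prime_orderOf_dvd_card' (G := G) 5 (by rw [hG]; norm_num)
  have hs5 : s ^ 5 = 1 := by rw [← hs]; exact pow_orderOf_eq_one s
  set P := commutator G with hPdef
  set Z : Subgroup G := (Subgroup.center P).map P.subtype with hZdef
  have hZc : Nat.card Z = 4 := by
    rw [hZdef, ← Nat.card_congr
      ((Subgroup.center P).equivMapOfInjective P.subtype P.subtype_injective).toEquiv]
    exact hZ.1
  have hZP : Z ≤ P := Subgroup.map_subtype_le _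
  have hZ2 : ∀ z ∈ Z, z * z = 1 := by
    rintro _ ⟨z, hz, rfl⟩
    haveI := hZ
    have h := IsKleinFour.mul_self (⟨z, hz⟩ : Subgroup.center P)
    rw [← map_mul]
    have := congrArg (fun q : Subgroup.center P => (q : P)) h
    simp only [Subgroup.coe_mul, Subgroup.coe_one] at this
    rw [this, map_one]
  have hZP' : ∀ z ∈ Z, ∀ x ∈ P, Commute z x := by
    rintro _ ⟨z, hz, rfl⟩ x hx
    exact congrArg Subtype.val (Subgroup.mem_center_iff.1 hz ⟨x, hx⟩).symm
  -- a subgroup containing the derived subgroup and `s` is everything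
  have htop : ∀ K : Subgroup G, P ≤ K → s ∈ K → K = ⊤ := by
    intro K hPK hsK
    apply Subgroup.eq_top_of_card_eq
    rw [hG]
    refine Nat.dvd_antisymm (hG ▸ Subgroup.card_subgroup_dvd_card K) ?_
    have h64 : 64 ∣ Nat.card K := hD ▸ Subgroup.card_dvd_of_le hPK
    have h5 : 5 ∣ Nat.card K := by
      rw [← hs, ← Nat.card_zpowers]
      exact Subgroup.card_dvd_of_le (Subgroup.zpowers_le.2 hsK)
    exact Nat.Coprime.mul_dvd_of_dvd_of_dvd (show Nat.Coprime 64 5 by decide) h64 h5
  haveI hZn : Z.Normal := inferInstance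
  -- the centre of the derived subgroup is central
  have hZs : ∀ z ∈ Z, Commute z s := by
    intro z hz
    let ρ : G →* Equiv.Perm Z := (MulAut.toPerm (M := Z)).comp MulAut.conjNormal
    have h1 : orderOf (ρ s) ∣ 5 := by rw [← hs]; exact orderOf_map_dvd ρ s
    have h24 : orderOf (ρ s) ∣ 24 := by
      refine orderOf_dvd_natCard (ρ s) |>.trans (dvd_of_eq ?_)
      rw [Nat.card_perm, hZc]; rfl
    have hone : ρ s = 1 := orderOf_eq_one_iff.1
      (Nat.dvd_one.1 (Nat.dvd_gcd h1 h24 |>.trans (dvd_of_eq (by norm_num))))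
    have h := congrArg (fun π : Equiv.Perm Z => ((π ⟨z, hz⟩ : Z) : G)) hone
    simp [ρ, MulAut.conjNormal_apply] at h
    exact (mul_inv_eq_iff_eq_mul.1 h).symm
  have hZc' : ∀ z ∈ Z, ∀ g : G, Commute z g := by
    intro z hz g
    have : Subgroup.centralizer ({z} : Set G) = ⊤ :=
      htop _ (fun x hx => Subgroup.mem_centralizer_singleton_iff.2 (hZP' z hz x hx).symm)
        (Subgroup.mem_centralizer_singleton_iff.2 (hZs z hz).symm)
    exact (Subgroup.mem_centralizer_singleton_iff.1 (this ▸ Subgroup.mem_top g)).symm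
  -- the squares
  set N : Subgroup G := Subgroup.closure ((Z : Set G) ∪ {g | ∃ x ∈ P, x * x = g}) with hN
  haveI hNn : N.Normal := by
    refine ⟨fun n hn g => ?_⟩
    have : (MulAut.conj g).toMonoidHom n ∈ N.map (MulAut.conj g).toMonoidHom := ⟨n, hn, rfl⟩
    have hle : N.map (MulAut.conj g).toMonoidHom ≤ N := by
      rw [hN, MonoidHom.map_closure, Subgroup.closure_le]
      rintro _ ⟨x, hx, rfl⟩
      rcases hx with hx | ⟨u, hu, rfl⟩
      · exact Subgroup.subset_closure (Or.inl (hZn.conj_mem x hx g))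
      · exact Subgroup.subset_closure (Or.inr ⟨g * u * g⁻¹,
          (inferInstance : P.Normal).conj_mem u hu g, by simp [mul_assoc]⟩)
    exact hle this
  have hZN : Z ≤ N := fun z hz => Subgroup.subset_closure (Or.inl hz)
  have hsqN : ∀ x ∈ P, x * x ∈ N := fun x hx => Subgroup.subset_closure (Or.inr ⟨x, hx, rfl⟩)
  have hNP : N ≤ P := by
    rw [hN, Subgroup.closure_le]
    rintro x (hx | ⟨u, hu, rfl⟩)
    · exact hZP hx
    · exact mul_mem hu hu
  have hPne : ¬ P ≤ N := by
    intro hle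
    have hZ' : Nat.card (Z.subgroupOf P) = 2 ^ 2 := by
      rw [Nat.card_congr (Subgroup.subgroupOfEquivOfLe hZP).toEquiv, hZc]; norm_num
    have hP2 : IsPGroup 2 P := IsPGroup.of_card (n := 6) (by rw [hD]; norm_num)
    obtain ⟨M, hMc, hMZ⟩ := Sylow.exists_subgroup_card_pow_prime_le 2 (n := 2) (m := 5)
      (by rw [hD]; norm_num) (Z.subgroupOf P) hZ' (by norm_num)
    have hMi : M.index = 2 := by
      have := M.card_mul_index
      rw [hMc, hD] at this
      omega
    have hNM : N ≤ M.map P.subtype := by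
      rw [hN, Subgroup.closure_le]
      rintro x (hx | ⟨u, hu, rfl⟩)
      · exact ⟨⟨x, hZP hx⟩, hMZ hx, rfl⟩
      · exact ⟨⟨u, hu⟩ * ⟨u, hu⟩, Subgroup.mul_self_mem_of_index_two hMi _, rfl⟩
    have := Subgroup.card_le_of_le (hle.trans hNM)
    rw [hD, ← Nat.card_congr (M.equivMapOfInjective P.subtype P.subtype_injective).toEquiv,
      hMc] at this
    norm_num at this
  -- pass to the quotient by `N`
  set π := QuotientGroup.mk' N with hπ
  set V : Subgroup (G ⧸ N) := P.map π with hV
  have hVn : ∀ v ∈ V, π s * v * (π s)⁻¹ ∈ V := by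
    rintro _ ⟨x, hx, rfl⟩
    exact ⟨s * x * s⁻¹, (inferInstance : P.Normal).conj_mem x hx s, by simp [map_mul]⟩
  have hVsq : ∀ v ∈ V, v * v = 1 := by
    rintro _ ⟨x, hx, rfl⟩
    rw [← map_mul]
    exact (QuotientGroup.eq_one_iff _).2 (hsqN x hx)
  have hVab : ∀ v ∈ V, ∀ w ∈ V, Commute v w := by
    intro v hv w hw
    have hi : ∀ u ∈ V, u⁻¹ = u := fun u hu => inv_eq_of_mul_eq_one_right (hVsq u hu)
    calc v * w = (v * w)⁻¹ := (hi _ (mul_mem hv hw)).symm
      _ = w * v := by rw [mul_inv_rev, hi v hv, hi w hw]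
  have ht5 : π s ^ 5 = 1 := by rw [← map_pow, hs5, map_one]
  have hVdvd : Nat.card V ∣ 16 ∧ (Nat.card V = 16 → N = Z) := by
    have hker : Nat.card V * Nat.card N = 64 := by
      rw [← hD, ← Subgroup.relIndex_mul_relIndex ⊥ N P bot_le hNP |>.trans (Subgroup.relIndex_bot_left P),
        Subgroup.relIndex_bot_left, mul_comm]
      congr 1
      have h := Subgroup.relIndex_ker π (K := P)
      rw [hπ, QuotientGroup.ker_mk'] at h
      exact h.symm
    have h4 : 4 ∣ Nat.card N := hZc ▸ Subgroup.card_dvd_of_le hZN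
    obtain ⟨c, hc⟩ := h4
    refine ⟨⟨c, ?_⟩, fun h16 => (Subgroup.eq_of_le_of_card_ge hZN ?_).symm⟩
    · rw [hc] at hker; linarith
    · rw [h16] at hker; omega
  have hfix : V ⊓ Subgroup.centralizer {π s} ≠ V := by
    intro heq
    have hK : (Subgroup.center (G ⧸ N)).comap π = ⊤ := by
      have hgen : ∀ g : G ⧸ N, ∀ v : G ⧸ N, (v ∈ V ∨ v = π s) → Commute g v := by
        intro g
        obtain ⟨g, rfl⟩ := QuotientGroup.mk'_surjective N g
        have : (Subgroup.centralizer ((V : Set (G ⧸ N)) ∪ {π s})).comap π = ⊤ := by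
          refine htop _ (fun x hx => ?_) ?_
          · refine Subgroup.mem_centralizer_iff.2 fun v hv => ?_
            rcases hv with hv | hv
            · exact (hVab v hv _ ⟨x, hx, rfl⟩).eq
            · rw [show v = π s from hv]
              have hxm : π x ∈ V ⊓ Subgroup.centralizer {π s} := heq.symm ▸ ⟨x, hx, rfl⟩
              exact (Subgroup.mem_centralizer_singleton_iff.1 hxm.2).symm
          · refine Subgroup.mem_centralizer_iff.2 fun v hv => ?_
            rcases hv with hv | hv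
            · have hxm : v ∈ V ⊓ Subgroup.centralizer {π s} := heq.symm ▸ hv
              exact Subgroup.mem_centralizer_singleton_iff.1 hxm.2
            · rw [show v = π s from hv]
        intro v hv
        have hg : g ∈ (Subgroup.centralizer ((V : Set (G ⧸ N)) ∪ {π s})).comap π :=
          this ▸ Subgroup.mem_top g
        exact (Subgroup.mem_centralizer_iff.1 hg v (by simpa using hv.symm)).symm
      refine htop _ (fun x hx => ?_) ?_
      · exact Subgroup.mem_center_iff.2 fun g => hgen g _ (Or.inl ⟨x, hx, rfl⟩)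
      · exact Subgroup.mem_center_iff.2 fun g => hgen g _ (Or.inr rfl)
    apply hPne
    rw [hPdef, commutator_def, Subgroup.commutator_le]
    intro x _ z _
    rw [← QuotientGroup.eq_one_iff]
    have hx : π x ∈ Subgroup.center (G ⧸ N) := by
      have : x ∈ (Subgroup.center (G ⧸ N)).comap π := hK ▸ Subgroup.mem_top x
      exact this
    show π ⁅x, z⁆ = 1
    rw [map_commutatorElement, commutatorElement_eq_one_iff_mul_comm]
    exact (Subgroup.mem_center_iff.1 hx (π z)).symm
  obtain ⟨hV16, hF1⟩ := two_pow_mod_five hVdvd.1 (Subgroup.card_dvd_of_le inf_le_left)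
    (fun h => hfix (Subgroup.eq_of_le_of_card_ge inf_le_left (le_of_eq h.symm)))
    (card_mod_fixed _ ht5 V hVn)
  have hNZ : N = Z := hVdvd.2 hV16
  have hfree : ∀ v ∈ V, π s * v * (π s)⁻¹ = v → v = 1 := by
    intro v hv h
    have hv' : v ∈ V ⊓ Subgroup.centralizer {π s} :=
      ⟨hv, Subgroup.mem_centralizer_singleton_iff.2 (mul_inv_eq_iff_eq_mul.1 h).symm⟩
    rwa [Subgroup.card_eq_one.1 hF1, Subgroup.mem_bot] at hv'
  have hmemZ : ∀ g : G, π g = 1 ↔ g ∈ Z := fun g => by
    rw [← hNZ]; exact QuotientGroup.eq_one_iff g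
  -- the generators
  obtain ⟨x, hxP, hxN⟩ : ∃ x ∈ P, x ∉ N := SetLike.not_le_iff_exists.1 hPne
  have hxi : ∀ i, cj s x i ∈ P := fun i => (inferInstance : P.Normal).conj_mem x hxP _
  have hvi : ∀ i, π (cj s x i) ∈ V := fun i => ⟨_, hxi i, rfl⟩
  set w := cj s x 0 * cj s x 1 * cj s x 2 * cj s x 3 * cj s x 4 with hw
  have hwZ : w ∈ Z := by
    rw [← hmemZ]
    refine hfree _ ⟨w, by
      exact mul_mem (mul_mem (mul_mem (mul_mem (hxi 0) (hxi 1)) (hxi 2)) (hxi 3)) (hxi 4), rfl⟩ ?_
    have hsh : s * w * s⁻¹ = cj s x 1 * cj s x 2 * cj s x 3 * cj s x 4 * cj s x 0 := by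
      have hstep : ∀ i, s * cj s x i * s⁻¹ = cj s x (i + 1) := fun i => by
        rw [add_comm i 1, ← cj_cj s x i 1, pow_one]
      rw [← cj_add_five x hs5 0, ← hstep 0, ← hstep 1, ← hstep 2, ← hstep 3,
        show (0 + 5 : ℕ) = 4 + 1 from rfl, ← hstep 4, hw]
      simp [mul_assoc]
    rw [← map_inv, ← map_mul, ← map_mul, hsh, hw]
    simp only [map_mul]
    have h0 := hVab _ (mul_mem (mul_mem (mul_mem (hvi 1) (hvi 2)) (hvi 3)) (hvi 4)) _ (hvi 0)
    rw [h0.eq]
    simp only [mul_assoc]
  set y := x * w with hy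
  have hyi : ∀ i, cj s y i = cj s x i * w := fun i => by
    simp only [cj, hy]
    have := (hZc' w hwZ (s ^ i)⁻¹).eq
    simp only [mul_assoc]
    rw [← (hZc' w hwZ (s ^ i)⁻¹).eq]
  have hyP : ∀ i, cj s y i ∈ P := fun i => by rw [hyi]; exact mul_mem (hxi i) (hZP hwZ)
  have hcen : ∀ i j, π (cj s y i) * π (cj s y j) = π (cj s y j) * π (cj s y i) :=
    fun i j => (hVab _ ⟨_, hyP i, rfl⟩ _ ⟨_, hyP j, rfl⟩).eq
  set b := (y * cj s y 1)⁻¹ * (cj s y 1 * y) with hb
  set c := (y * cj s y 2)⁻¹ * (cj s y 2 * y) with hc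
  set a := y * y with ha
  have hcom : ∀ i, (y * cj s y i)⁻¹ * (cj s y i * y) ∈ Z := fun i => by
    rw [← hmemZ]
    have h := hcen i 0
    rw [cj_zero] at h
    simp only [map_mul, map_inv]
    rw [h, inv_mul_cancel]
  have haZ : a ∈ Z := by
    rw [← hNZ]
    exact hsqN y (by simpa [cj_zero] using hyP 0)
  have hbZ : b ∈ Z := hcom 1
  have hcZ : c ∈ Z := hcom 2
  have hprod : cj s y 0 * cj s y 1 * cj s y 2 * cj s y 3 * cj s y 4 = 1 := by
    simp only [hyi]
    have hm : ∀ u v : G, u * w * (v * w) = u * v := fun u v => by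
      rw [mul_assoc, ← mul_assoc w v w, (hZc' w hwZ v).eq, mul_assoc v w w, hZ2 w hwZ, mul_one]
    calc _ = cj s x 0 * w * (cj s x 1 * w) * (cj s x 2 * w * (cj s x 3 * w)) * (cj s x 4 * w) := by
          simp only [mul_assoc]
      _ = cj s x 0 * cj s x 1 * (cj s x 2 * cj s x 3) * (cj s x 4 * w) := by rw [hm, hm]
      _ = w * w := by
          rw [show w * w = cj s x 0 * cj s x 1 * cj s x 2 * cj s x 3 * cj s x 4 * w from
            congrArg (· * w) hw]
          simp only [mul_assoc]
      _ = 1 := hZ2 w hwZ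
  -- the relation between the three central elements
  have hcab : c = a * b := by
    have hconj : ∀ (i : ℕ) (g : G), g ∈ Z → s ^ i * g * (s ^ i)⁻¹ = g := fun i g hg => by
      rw [← (hZc' g hg (s ^ i)).eq, mul_inv_cancel_right]
    have hsq : ∀ i, cj s y i * cj s y i = a := fun i => by
      have := hconj i a haZ
      rw [ha] at this ⊢
      rw [← this]; simp [cj, mul_assoc]
    have h1 : ∀ i, cj s y (i + 1) * cj s y i = cj s y i * cj s y (i + 1) * b := fun i => by
      have e : cj s y 1 * y = y * cj s y 1 * b := by rw [hb]; simp [mul_assoc]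
      have e' := congrArg (fun g => s ^ i * g * (s ^ i)⁻¹) e
      rw [← cj_cj s y 1 i]
      simp only [cj] at e' ⊢
      calc _ = s ^ i * (s ^ 1 * y * (s ^ 1)⁻¹ * y) * (s ^ i)⁻¹ := by group
        _ = _ := e'
        _ = _ := by
          conv_rhs => rw [← hconj i b hbZ]
          group
    have h2 : ∀ i, cj s y (i + 2) * cj s y i = cj s y i * cj s y (i + 2) * c := fun i => by
      have e : cj s y 2 * y = y * cj s y 2 * c := by rw [hc]; simp [mul_assoc]
      have e' := congrArg (fun g => s ^ i * g * (s ^ i)⁻¹) e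
      rw [← cj_cj s y 2 i]
      simp only [cj] at e' ⊢
      calc _ = s ^ i * (s ^ 2 * y * (s ^ 2)⁻¹ * y) * (s ^ i)⁻¹ := by group
        _ = _ := e'
        _ = _ := by
          conv_rhs => rw [← hconj i c hcZ]
          group
    have h30 : cj s y 3 * cj s y 0 = cj s y 0 * cj s y 3 * c := by
      have e := h2 3
      rw [cj_add_five y hs5 0] at e
      rw [e, mul_assoc, hZ2 c hcZ, mul_one]
    set A := cj s y 0 * cj s y 1 with hA
    set B := cj s y 2 * cj s y 3 with hB
    have bc := fun g => (hZc' b hbZ g).eq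
    have cc := fun g => (hZc' c hcZ g).eq
    have ac := fun g => (hZc' a haZ g).eq
    have hAA : A * A = b := by
      calc A * A = cj s y 0 * (cj s y (0 + 1) * cj s y 0) * cj s y 1 := by
            simp [hA, mul_assoc]
        _ = (cj s y 0 * cj s y 0) * (cj s y 1 * cj s y 1) * b := by
            rw [h1 0]; simp only [zero_add, mul_assoc, bc]
        _ = b := by rw [hsq, hsq, hZ2 a haZ, one_mul]
    have hBB : B * B = b := by
      calc B * B = cj s y 2 * (cj s y (2 + 1) * cj s y 2) * cj s y 3 := by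
            simp [hB, mul_assoc]
        _ = (cj s y 2 * cj s y 2) * (cj s y 3 * cj s y 3) * b := by
            rw [h1 2]; simp only [mul_assoc, bc]
        _ = b := by rw [hsq, hsq, hZ2 a haZ, one_mul]
    have hBA : B * A = A * B * (b * c) := by
      calc B * A = cj s y 2 * (cj s y 3 * cj s y 0) * cj s y 1 := by simp [hA, hB, mul_assoc]
        _ = (cj s y (0 + 2) * cj s y 0) * (cj s y (1 + 2) * cj s y 1) * c := by
            rw [h30]; simp only [zero_add, mul_assoc]; rw [cc (cj s y 1)]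
        _ = cj s y 0 * (cj s y (1 + 1) * cj s y 1) * cj s y 3 * (c * c * c) := by
            rw [h2 0, h2 1]
            simp only [mul_assoc, zero_add]
            rw [← mul_assoc c (cj s y 1), cc (cj s y 1), mul_assoc (cj s y 1) c,
              ← mul_assoc c (cj s y (1 + 2)), cc (cj s y (1 + 2)), mul_assoc (cj s y (1 + 2)) c]
        _ = A * B * (b * c) := by
            rw [h1 1, hZ2 c hcZ, one_mul]
            simp only [hA, hB, mul_assoc]
            rw [← mul_assoc b (cj s y 3), bc (cj s y 3), mul_assoc (cj s y 3) b]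
    have h4 : (A * B) * (A * B) = a := by
      have hp : A * B * cj s y 4 = 1 := by
        rw [hB]; simpa only [mul_assoc] using hprod
      rw [eq_inv_of_mul_eq_one_left hp, ← mul_inv_rev, hsq]
      exact inv_eq_of_mul_eq_one_right (hZ2 a haZ)
    have h5 : b * c = a := by
      calc b * c = (A * A) * (B * B) * (b * c) := by rw [hAA, hBB, hZ2 b hbZ, one_mul]
        _ = A * (A * B * (b * c)) * B := by
            simp only [mul_assoc]
            rw [← (hZc' (b * c) (mul_mem hbZ hcZ) B).eq]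
            simp only [mul_assoc]
        _ = a := by rw [← hBA, ← h4]; simp only [mul_assoc]
    rw [← h5]
    calc c = b * b * c := by rw [hZ2 b hbZ, one_mul]
      _ = b * c * b := by rw [mul_assoc b b c, mul_assoc b c b, bc c]
  refine ⟨y, s, a, b, ⟨hZ2 a haZ, hZ2 b hbZ, hZc' a haZ y, hZc' a haZ s, hZc' b hbZ y,
    hZc' b hbZ s, hZc' a haZ b, hs5, rfl, ?_, ?_, hprod⟩, ?_⟩
  · rw [hb]; simp [mul_assoc]
  · rw [← hcab, hc]; simp [mul_assoc]
  -- generation
  set L := Subgroup.closure ({y, s} : Set G) with hL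
  have hsL : s ∈ L := Subgroup.subset_closure (by simp)
  have hyL : y ∈ L := Subgroup.subset_closure (by simp)
  have hVL : V ≤ L.map π := by
    set J := L.map π ⊓ V with hJ
    have hJn : ∀ j ∈ J, π s * j * (π s)⁻¹ ∈ J := fun j hj =>
      ⟨(L.map π).mul_mem ((L.map π).mul_mem ⟨s, hsL, rfl⟩ hj.1) ((L.map π).inv_mem ⟨s, hsL, rfl⟩),
        hVn j hj.2⟩
    have hJ1 : J ⊓ Subgroup.centralizer {π s} = ⊥ := by
      rw [eq_bot_iff, ← Subgroup.card_eq_one.1 hF1]
      exact inf_le_inf_right _ inf_le_right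
    have hmod := card_mod_fixed _ ht5 J hJn
    rw [hJ1, Subgroup.card_bot] at hmod
    have hne : Nat.card J ≠ 1 := by
      intro h1
      have hyJ : π y ∈ J := ⟨⟨y, hyL, rfl⟩, ⟨y, by simpa [cj_zero] using hyP 0, rfl⟩⟩
      rw [Subgroup.card_eq_one.1 h1, Subgroup.mem_bot, hmemZ] at hyJ
      apply hxN
      rw [hNZ]
      have : x = y * w := by rw [hy, mul_assoc, hZ2 w hwZ, mul_one]
      rw [this]
      exact mul_mem hyJ hwZ
    have hdiv : Nat.card J ∣ 16 := (Subgroup.card_dvd_of_le inf_le_right).trans hVdvd.1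
    have h16 := (two_pow_mod_five hdiv (one_dvd _) (Ne.symm hne) (by rw [hmod])).1
    have : J = V := Subgroup.eq_of_le_of_card_ge inf_le_right (by rw [h16, hV16])
    exact this ▸ inf_le_left
  have hLZ : L ⊔ Z = ⊤ := by
    refine htop _ (fun p hp => ?_) ((le_sup_left : L ≤ L ⊔ Z) hsL)
    obtain ⟨l, hl, hlp⟩ := hVL ⟨p, hp, rfl⟩
    have hz : l⁻¹ * p ∈ Z := by rw [← hmemZ, map_mul, map_inv, hlp, inv_mul_cancel]
    have := mul_mem ((le_sup_left : L ≤ L ⊔ Z) hl) ((le_sup_right : Z ≤ L ⊔ Z) hz)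
    rwa [mul_inv_cancel_left] at this
  refine htop L ?_ hsL
  rw [hPdef, commutator_def, Subgroup.commutator_le]
  intro u hu v hv
  have hmem : ∀ g : G, ∃ l ∈ L, ∃ z ∈ Z, g = l * z := fun g => by
    obtain ⟨l, hl, z, hz, h⟩ := Subgroup.mem_sup_of_normal_right.1 (hLZ ▸ Subgroup.mem_top g)
    exact ⟨l, hl, z, hz, h.symm⟩
  obtain ⟨l, hl, z, hz, rfl⟩ := hmem u
  obtain ⟨l', hl', z', hz', rfl⟩ := hmem v
  have e : ⁅l * z, l' * z'⁆ = ⁅l, l'⁆ := by
    simp only [commutatorElement_def, mul_inv_rev]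
    have c1 := hZc' z hz
    have c2 := hZc' z' hz'
    calc l * z * (l' * z') * (z⁻¹ * l⁻¹) * (z'⁻¹ * l'⁻¹)
        = l * l' * (z * z' * z⁻¹) * (l⁻¹ * (z'⁻¹ * l'⁻¹)) := by
          simp only [mul_assoc]; rw [← mul_assoc z l', (c1 l').eq, mul_assoc l']
      _ = l * l' * z' * (l⁻¹ * (z'⁻¹ * l'⁻¹)) := by rw [(c1 z').eq, mul_inv_cancel_right]
      _ = l * l' * l⁻¹ * l'⁻¹ := by
          simp only [mul_assoc]
          rw [← mul_assoc z' l⁻¹, (c2 l⁻¹).eq, mul_assoc, mul_inv_cancel_left]
  rw [e]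
  exact L.mul_mem (L.mul_mem (L.mul_mem hl hl') (L.inv_mem hl)) (L.inv_mem hl')

end H61.Ord320
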