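import Cfsg.Prelude.Def_GeometricClasses
import Cfsg.Agent.H49.Transvec
import Cfsg.Agent.H43.Finite

/-!
Overgroups in `GL n F` of the orthogonal group (`10 ≤ n`, odd characteristic).
-/

set_option autoImplicit false

namespace H61.OrthSim

open Matrix

variable {F : Type*} [Field F] {n : ℕ} {B : (Fin n → F) → (Fin n → F) → F}

/-- A non-degenerate symmetric bilinear form in odd characteristic. -/
structure SymForm (B : (Fin n → F) → (Fin n → F) → F) : Prop where
  add_left : ∀ x y v, B (x + y) v = B x v + B y v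
  smul_left : ∀ (c : F) (x v : Fin n → F), B (c • x) v = c * B x v
  symm : ∀ x y, B x y = B y x
  nondeg : ∀ v, v ≠ 0 → ∃ x, B x v ≠ 0
  two_ne : (2 : F) ≠ 0

section Basic

variable (hf : SymForm B)
include hf

theorem add_right (v x y : Fin n → F) : B v (x + y) = B v x + B v y := by
  rw [hf.symm, hf.add_left, hf.symm x, hf.symm y]

theorem smul_right (c : F) (v x : Fin n → F) : B v (c • x) = c * B v x := by
  rw [hf.symm, hf.smul_left, hf.symm x]

theorem zero_left (x : Fin n → F) : B 0 x = 0 := by simpa using hf.smul_left 0 0 x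

theorem zero_right (x : Fin n → F) : B x 0 = 0 := by rw [hf.symm, zero_left hf]

theorem sub_left (x y v : Fin n → F) : B (x - y) v = B x v - B y v := by
  rw [sub_eq_add_neg, ← neg_one_smul F y, hf.add_left, hf.smul_left]; ring

theorem sub_right (v x y : Fin n → F) : B v (x - y) = B v x - B v y := by
  rw [hf.symm, sub_left hf, hf.symm x, hf.symm y]

theorem neg_left (x v : Fin n → F) : B (-x) v = -B x v := by
  rw [← neg_one_smul F x, hf.smul_left, neg_one_mul]

theorem neg_right (v x : Fin n → F) : B v (-x) = -B v x := by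
  rw [hf.symm, neg_left hf, hf.symm]

theorem exists_apply_eq_one {v : Fin n → F} (hv : v ≠ 0) : ∃ y, B y v = 1 := by
  obtain ⟨y, hy⟩ := hf.nondeg v hv
  exact ⟨(B y v)⁻¹ • y, by rw [hf.smul_left, inv_mul_cancel₀ hy]⟩

theorem ext_right {x y : Fin n → F} (h : ∀ z, B z x = B z y) : x = y := by
  by_contra hne
  obtain ⟨z, hz⟩ := hf.nondeg (x - y) (sub_ne_zero.mpr hne)
  exact hz (by rw [sub_right hf, h, sub_self])

/-- `B(·, w)` as a linear functional. -/
def lf : (Fin n → F) →ₗ[F] Module.Dual F (Fin n → F) where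
  toFun w :=
    { toFun := fun x => B x w
      map_add' := fun x y => hf.add_left x y w
      map_smul' := fun c x => hf.smul_left c x w }
  map_add' w w' := LinearMap.ext fun x => H61.OrthSim.add_right hf x w w'
  map_smul' c w := LinearMap.ext fun x => H61.OrthSim.smul_right hf c x w

theorem lf_apply (w x : Fin n → F) : lf hf w x = B x w := rfl

theorem lf_injective : Function.Injective (lf hf) := fun _ _ h =>
  ext_right hf fun z => LinearMap.congr_fun h z

theorem exists_lf (L : Module.Dual F (Fin n → F)) : ∃ w, ∀ x, B x w = L x := by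
  obtain ⟨w, hw⟩ := (LinearMap.injective_iff_surjective_of_finrank_eq_finrank
    Subspace.dual_finrank_eq.symm).mp (lf_injective hf) L
  exact ⟨w, fun x => LinearMap.congr_fun hw x⟩

/-- An anisotropic vector orthogonal to at most six vectors. -/
theorem exists_aniso (hn : 10 ≤ n) {k : ℕ} (hk : k ≤ 4) (vs : Fin k → (Fin n → F)) :
    ∃ y, B y y ≠ 0 ∧ ∀ i, B y (vs i) = 0 := by
  classical
  by_contra hc
  push Not at hc
  set P := LinearMap.ker (LinearMap.pi fun i => lf hf (vs i)) with hP
  have hmem : ∀ x, x ∈ P ↔ ∀ i, B x (vs i) = 0 := fun x => by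
    rw [hP, LinearMap.mem_ker, funext_iff]
    exact Iff.rfl
  have hiso : ∀ x ∈ P, B x x = 0 := fun x hx => by
    by_contra h
    obtain ⟨i, hi⟩ := hc x h
    exact hi ((hmem x).mp hx i)
  have htot : ∀ x ∈ P, ∀ y ∈ P, B x y = 0 := by
    intro x hx y hy
    have h1 := hiso _ (P.add_mem hx hy)
    rw [hf.add_left, add_right hf, add_right hf, hiso x hx, hiso y hy, hf.symm y x] at h1
    exact (mul_eq_zero.mp (show (2 : F) * B x y = 0 by linear_combination h1)).resolve_left hf.two_ne
  -- totally isotropic subspaces are small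
  have hdim : n ≤ Module.finrank F P + k := by
    have h1 := LinearMap.finrank_range_add_finrank_ker (LinearMap.pi fun i => lf hf (vs i))
    have h2 := Submodule.finrank_le (LinearMap.range (LinearMap.pi fun i => lf hf (vs i)))
    rw [Module.finrank_fintype_fun_eq_card, Fintype.card_fin] at h1 h2
    rw [← hP] at h1
    omega
  have hle : P.map (lf hf) ≤ P.dualAnnihilator := by
    rintro _ ⟨p, hp, rfl⟩
    exact (Submodule.mem_dualAnnihilator _).mpr fun x hx => htot x hx p hp
  have h3 := Submodule.finrank_mono hle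
  rw [← (Submodule.equivMapOfInjective _ (lf_injective hf) P).finrank_eq] at h3
  have := Subspace.finrank_add_finrank_dualAnnihilator_eq P
  rw [Module.finrank_fintype_fun_eq_card, Fintype.card_fin] at this
  omega

/-- An anisotropic vector orthogonal to `vs` and to orthogonal anisotropic `ys`, or `vs` is totally singular. -/
theorem exists_aniso_or {k m : ℕ} (vs : Fin k → (Fin n → F)) (ys : Fin m → (Fin n → F))
    (hys : ∀ a, B (ys a) (ys a) ≠ 0) (horth : ∀ a b, a ≠ b → B (ys a) (ys b) = 0)
    (hperp : ∀ a i, B (ys a) (vs i) = 0) :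
    (∃ y, B y y ≠ 0 ∧ (∀ i, B y (vs i) = 0) ∧ ∀ a, B y (ys a) = 0) ∨
      (n ≤ k + m + k ∧ (k + m + k ≤ n → ∀ i j, B (vs i) (vs j) = 0)) := by
  classical
  rw [or_iff_not_imp_left]
  intro hc
  push Not at hc
  set all : Fin k ⊕ Fin m → (Fin n → F) := Sum.elim vs ys with hall
  set P := LinearMap.ker (LinearMap.pi fun c => lf hf (all c)) with hP
  have hmem : ∀ x, x ∈ P ↔ ∀ c, B x (all c) = 0 := fun x => by
    rw [hP, LinearMap.mem_ker, funext_iff]
    exact Iff.rfl
  have hiso : ∀ x ∈ P, B x x = 0 := fun x hx => by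
    by_contra h
    obtain ⟨a, ha⟩ := hc x h fun i => (hmem x).mp hx (Sum.inl i)
    exact ha ((hmem x).mp hx (Sum.inr a))
  have htot : ∀ x ∈ P, ∀ y ∈ P, B x y = 0 := by
    intro x hx y hy
    have h1 := hiso _ (P.add_mem hx hy)
    rw [hf.add_left, add_right hf, add_right hf, hiso x hx, hiso y hy, hf.symm y x] at h1
    exact (mul_eq_zero.mp (show (2 : F) * B x y = 0 by linear_combination h1)).resolve_left hf.two_ne
  have hle : P ≤ Submodule.span F (Set.range vs) := by
    intro x hx
    have hspan := FiniteDimensional.mem_span_of_iInf_ker_le_ker (L := fun c => lf hf (all c)) (K := lf hf x)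
      (fun y hy => by
        simp only [Submodule.mem_iInf, LinearMap.mem_ker] at hy
        exact htot y ((hmem y).mpr hy) x hx)
    obtain ⟨c, hcx⟩ := (Submodule.mem_span_range_iff_exists_fun F).mp hspan
    have hxe : ∀ z, B z x = ∑ i, c (Sum.inl i) * B z (vs i) + ∑ a, c (Sum.inr a) * B z (ys a) := fun z => by
      have := LinearMap.congr_fun hcx z
      simp only [Fintype.sum_sum_type, hall, Sum.elim_inl, Sum.elim_inr, LinearMap.add_apply, LinearMap.sum_apply,
        LinearMap.smul_apply, smul_eq_mul, lf_apply] at this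
      exact this.symm
    have hzero : ∀ a, c (Sum.inr a) = 0 := fun a => by
      have h0 : B (ys a) x = 0 := by rw [hf.symm]; exact (hmem x).mp hx (Sum.inr a)
      rw [hxe, Finset.sum_eq_zero (fun i _ => by rw [hperp, mul_zero]), zero_add,
        Finset.sum_eq_single a (fun b _ hb => by rw [horth a b hb.symm, mul_zero]) (by simp)] at h0
      exact (mul_eq_zero.mp h0).resolve_right (hys a)
    have hx' : x = ∑ i, c (Sum.inl i) • vs i := by
      apply lf_injective hf
      rw [map_sum, ← hcx, Fintype.sum_sum_type,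
        Finset.sum_eq_zero (s := (Finset.univ : Finset (Fin m))) (fun a _ => by rw [hzero, zero_smul]), add_zero]
      simp [hall]
    rw [hx']
    exact Submodule.sum_mem _ fun i _ => Submodule.smul_mem _ _ (Submodule.subset_span ⟨i, rfl⟩)
  have hdim : n ≤ Module.finrank F P + (k + m) := by
    have h1 := LinearMap.finrank_range_add_finrank_ker (LinearMap.pi fun c => lf hf (all c))
    have h2 := Submodule.finrank_le (LinearMap.range (LinearMap.pi fun c => lf hf (all c)))
    rw [Module.finrank_fintype_fun_eq_card, Fintype.card_fin] at h1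
    rw [Module.finrank_fintype_fun_eq_card, Fintype.card_sum, Fintype.card_fin, Fintype.card_fin] at h2
    rw [← hP] at h1
    omega
  have h3 := Submodule.finrank_mono hle
  have h4 : Module.finrank F (Submodule.span F (Set.range vs)) ≤ k :=
    (finrank_range_le_card vs).trans (by rw [Fintype.card_fin])
  refine ⟨by omega, fun hk i j => ?_⟩
  have heq := Submodule.eq_of_le_of_finrank_le hle (by omega)
  exact htot _ (heq ▸ Submodule.subset_span ⟨i, rfl⟩) _ (heq ▸ Submodule.subset_span ⟨j, rfl⟩)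

variable [Fintype F] (hn : 10 ≤ n)
include hn

/-- Every value is taken on the orthogonal of at most five vectors. -/
theorem exists_rep {k : ℕ} (hk : k ≤ 4) (vs : Fin k → (Fin n → F)) (t : F) :
    ∃ y, B y y = t ∧ ∀ i, B y (vs i) = 0 := by
  obtain ⟨y1, h1, h1'⟩ := exists_aniso hf hn (by omega) vs
  obtain ⟨y2, h2, h2i, h2y⟩ := (exists_aniso_or hf vs ![y1] (fun a => by fin_cases a; simpa using h1)
    (fun a b hab => absurd (Subsingleton.elim a b) hab) (fun a i => by fin_cases a; simpa using h1' i)).resolve_right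
    (fun h => by omega)
  have h21 : B y2 y1 = 0 := by simpa using h2y 0
  obtain ⟨a, b, hab⟩ := H43.exists_sum_sq_eq h1 h2 t
  refine ⟨a • y1 + b • y2, ?_, fun i => ?_⟩
  · rw [hf.add_left, add_right hf, add_right hf, hf.smul_left, hf.smul_left, hf.smul_left, hf.smul_left,
      smul_right hf, smul_right hf, smul_right hf, smul_right hf, hf.symm y1 y2, h21]
    linear_combination hab
  · rw [hf.add_left, hf.smul_left, hf.smul_left, h1', show B y2 (vs i) = 0 from h2i i]
    ring

/-- Singular vectors with prescribed products against at most four vectors. -/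
theorem exists_iso {k : ℕ} (hk : k ≤ 3) (y : Fin n → F) (vs : Fin k → (Fin n → F)) :
    ∃ z, B z z = 0 ∧ ∀ i, B z (vs i) = B y (vs i) := by
  obtain ⟨y', hy', hperp⟩ := exists_rep hf hn (k := k + 1) (by omega) (Fin.cons y vs) (-B y y)
  have hy0 : B y' y = 0 := by simpa using hperp 0
  refine ⟨y + y', ?_, fun i => ?_⟩
  · rw [hf.add_left, add_right hf, add_right hf, hy', hy0, hf.symm y y', hy0]; ring
  · rw [hf.add_left, show B y' (vs i) = 0 by simpa using hperp i.succ, add_zero]

omit hn in
theorem hyp_of_orth {k : ℕ} (vs : Fin k → (Fin n → F)) {y1 y2 : Fin n → F} (h1 : B y1 y1 ≠ 0)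
    (h2 : B y2 y2 = -B y1 y1) (h21 : B y2 y1 = 0) (h1' : ∀ i, B y1 (vs i) = 0) (h2i : ∀ i, B y2 (vs i) = 0) :
    ∃ e f, B e e = 0 ∧ B f f = 0 ∧ B e f = 1 ∧ ∀ i, B e (vs i) = 0 ∧ B f (vs i) = 0 := by
  have h12 : B y1 y2 = 0 := by rw [hf.symm, h21]
  have htwo := hf.two_ne
  refine ⟨y1 + y2, (2 * B y1 y1)⁻¹ • (y1 - y2), ?_, ?_, ?_, fun i => ⟨?_, ?_⟩⟩
  · rw [hf.add_left, add_right hf, add_right hf, h2, h21, h12]; ring
  · rw [hf.smul_left, smul_right hf, sub_left hf, sub_right hf, sub_right hf, h2, h21, h12]; ring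
  · rw [smul_right hf, hf.add_left, sub_right hf, sub_right hf, h2, h21, h12]
    field_simp
    ring
  · rw [hf.add_left, h1', h2i, add_zero]
  · rw [hf.smul_left, sub_left hf, h1', h2i, sub_zero, mul_zero]

/-- A hyperbolic pair orthogonal to at most four vectors. -/
theorem exists_hyp {k : ℕ} (hk : k ≤ 3) (vs : Fin k → (Fin n → F)) :
    ∃ e f, B e e = 0 ∧ B f f = 0 ∧ B e f = 1 ∧ ∀ i, B e (vs i) = 0 ∧ B f (vs i) = 0 := by
  obtain ⟨y1, h1, h1'⟩ := exists_aniso hf hn (by omega) vs
  obtain ⟨y2, h2, h2'⟩ := exists_rep hf hn (k := k + 1) (by omega) (Fin.cons y1 vs) (-B y1 y1)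
  have h21 : B y2 y1 = 0 := by simpa using h2' 0
  exact hyp_of_orth hf vs h1 h2 h21 h1' (fun i => by simpa using h2' i.succ)

/-- A hyperbolic pair orthogonal to four vectors, unless they span a totally singular space. -/
theorem exists_hyp_four (vs : Fin 4 → (Fin n → F)) :
    (∃ e f, B e e = 0 ∧ B f f = 0 ∧ B e f = 1 ∧ ∀ i, B e (vs i) = 0 ∧ B f (vs i) = 0) ∨
      ∀ i j, B (vs i) (vs j) = 0 := by
  obtain ⟨y1, h1, h1'⟩ := exists_aniso hf hn (by omega) vs
  obtain ⟨y2, h2, h2i, h2y⟩ := (exists_aniso_or hf vs ![y1] (fun a => by fin_cases a; simpa using h1)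
    (fun a b hab => absurd (Subsingleton.elim a b) hab) (fun a i => by fin_cases a; simpa using h1' i)).resolve_right
    (fun h => by omega)
  have h21 : B y2 y1 = 0 := by simpa using h2y 0
  rcases exists_aniso_or hf vs ![y1, y2] (fun a => by fin_cases a <;> simpa using by assumption)
      (fun a b hab => by fin_cases a <;> fin_cases b <;> first | exact absurd rfl hab | simpa using h21 | (rw [hf.symm]; simpa using h21))
      (fun a i => by fin_cases a; exacts [by simpa using h1' i, by simpa using h2i i]) with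
    ⟨y3, h3, h3i, h3y⟩ | ⟨hle, htot⟩
  · left
    have h31 : B y3 y1 = 0 := by simpa using h3y 0
    have h32 : B y3 y2 = 0 := by simpa using h3y 1
    obtain ⟨a, b, hab⟩ := H43.exists_sum_sq_eq h2 h3 (-B y1 y1)
    refine hyp_of_orth hf vs (y2 := a • y2 + b • y3) h1 ?_ ?_ h1' (fun i => ?_) |> id
    · rw [hf.add_left, add_right hf, add_right hf, hf.smul_left, hf.smul_left, hf.smul_left, hf.smul_left,
        smul_right hf, smul_right hf, smul_right hf, smul_right hf, hf.symm y2 y3, h32]
      linear_combination hab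
    · rw [hf.add_left, hf.smul_left, hf.smul_left, h21, h31]; ring
    · rw [hf.add_left, hf.smul_left, hf.smul_left, h2i, h3i]; ring
  · exact Or.inr (htot (by omega))
/-- The singular vectors orthogonal to at most four vectors span their orthogonal. -/
theorem mem_of_singular {k : ℕ} (hk : k ≤ 3) (vs : Fin k → (Fin n → F)) (S : Submodule F (Fin n → F))
    (hS : ∀ z, B z z = 0 → (∀ i, B z (vs i) = 0) → z ∈ S) {y : Fin n → F} (hy : ∀ i, B y (vs i) = 0) :
    y ∈ S := by
  obtain ⟨y', h', hperp⟩ := exists_rep hf hn (k := k + 1) (by omega) (Fin.cons y vs) (-B y y)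
  have hy0 : B y' y = 0 := by simpa using hperp 0
  have hy0' : B y y' = 0 := by rw [hf.symm, hy0]
  have hi : ∀ i, B y' (vs i) = 0 := fun i => by simpa using hperp i.succ
  have k1 := hS (y + y') (by rw [hf.add_left, add_right hf, add_right hf, h', hy0, hy0']; ring)
    (fun i => by rw [hf.add_left, hy, hi, add_zero])
  have k2 := hS (y - y') (by rw [sub_left hf, sub_right hf, sub_right hf, h', hy0, hy0']; ring)
    (fun i => by rw [sub_left hf, hy, hi, sub_zero])
  have := S.smul_mem (2 : F)⁻¹ (S.add_mem k1 k2)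
  rwa [add_add_sub_cancel, ← two_smul F, inv_smul_smul₀ hf.two_ne] at this

omit [Fintype F] in
theorem exists_perp_apply_ne {u w : Fin n → F} (hu : u ≠ 0) (hw : ∀ c : F, w ≠ c • u) :
    ∃ y, B y u = 0 ∧ B y w ≠ 0 := by
  by_contra h
  push Not at h
  obtain ⟨y0, hy0⟩ := exists_apply_eq_one hf hu
  refine hw (B y0 w) (ext_right hf fun z => ?_)
  have := h (z + (-B z u) • y0) (by rw [hf.add_left, hf.smul_left, hy0]; ring)
  rw [hf.add_left, hf.smul_left] at this
  rw [smul_right hf]
  linear_combination this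

/-- Closure argument: an additive subgroup of a perp, stable under reflections, is everything. -/
theorem closure_eq_perp {u : Fin n → F} (hu : u ≠ 0) (P : AddSubgroup (Fin n → F))
    (hstab : ∀ x ∈ P, ∀ a, B a a ≠ 0 → B a u = 0 → (2 * B x a / B a a) • a ∈ P)
    {w : Fin n → F} (hw : w ∈ P) (hne : ∀ c : F, w ≠ c • u) :
    ∀ x, B x u = 0 → x ∈ P := by
  classical
  have htwo := hf.two_ne
  -- an anisotropic vector seeing `w`
  obtain ⟨a, hau, haw, haa⟩ : ∃ a, B a u = 0 ∧ B a w ≠ 0 ∧ B a a ≠ 0 := by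
    obtain ⟨y, hyu, hyw⟩ := exists_perp_apply_ne hf hn hu hne
    by_cases hyy : B y y = 0
    · obtain ⟨y', hy', hp⟩ := exists_aniso hf hn (k := 3) (by omega) ![u, w, y]
      have p1 : B y' u = 0 := by simpa using hp 0
      have p2 : B y' w = 0 := by simpa using hp 1
      have p3 : B y' y = 0 := by simpa using hp 2
      refine ⟨y + y', by rw [hf.add_left, hyu, p1, add_zero], by rw [hf.add_left, p2, add_zero]; exact hyw, ?_⟩
      rw [hf.add_left, add_right hf, add_right hf, hyy, p3, hf.symm y y', p3]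
      simpa using hy'
    · exact ⟨y, hyu, hyw, hyy⟩
  obtain ⟨e, he⟩ : ∃ e : Fin n → F, e = (2 * B w a / B a a) • a := ⟨_, rfl⟩
  have heP : e ∈ P := he ▸ hstab w hw a haa hau
  have heu : B e u = 0 := by rw [he, hf.smul_left, hau, mul_zero]
  have hε : B e e ≠ 0 := by
    rw [he, hf.smul_left, smul_right hf]
    have : 2 * B w a / B a a ≠ 0 := div_ne_zero (mul_ne_zero htwo (by rwa [hf.symm])) haa
    exact mul_ne_zero this (mul_ne_zero this haa)
  -- all multiples of `e`
  have hmul : ∀ c : F, c • e ∈ P := by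
    intro c
    by_cases hc : c = 0
    · rw [hc, zero_smul]; exact P.zero_mem
    obtain ⟨μ, hμ⟩ : ∃ μ : F, μ = 4 / (c * B e e) := ⟨_, rfl⟩
    have hμ0 : μ ≠ 0 := hμ ▸ div_ne_zero
      (by rw [show (4 : F) = 2 * 2 by norm_num]; exact mul_ne_zero htwo htwo) (mul_ne_zero hc hε)
    obtain ⟨y', hy', hp⟩ := exists_rep hf hn (k := 2) (by omega) ![u, e] (μ - (B e e)⁻¹)
    have p1 : B y' u = 0 := by simpa using hp 0
    have p2 : B y' e = 0 := by simpa using hp 1
    obtain ⟨a', ha'⟩ : ∃ a' : Fin n → F, a' = (B e e)⁻¹ • e + y' := ⟨_, rfl⟩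
    have hau' : B a' u = 0 := by rw [ha', hf.add_left, hf.smul_left, heu, p1]; ring
    have hae : B a' e = 1 := by rw [ha', hf.add_left, hf.smul_left, p2, inv_mul_cancel₀ hε, add_zero]
    have haa' : B a' a' = μ := by
      rw [ha', hf.add_left, add_right hf, add_right hf, hf.smul_left, smul_right hf, hf.smul_left,
        smul_right hf, p2, hf.symm e y', p2, hy']
      field_simp
      ring
    have s1 := hstab e heP a' (haa'.symm ▸ hμ0) hau'
    have s2 := hstab _ s1 e hε heu
    rw [hf.smul_left, hf.symm e a', hae, haa', mul_one] at s2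
    rwa [show 2 * (2 * 1 / μ) / B e e = c by
      rw [hμ, show (4 : F) = 2 * 2 by norm_num]; field_simp] at s2
  -- anisotropic vectors seeing `e`
  have hhop : ∀ a, B a a ≠ 0 → B a u = 0 → B e a ≠ 0 → a ∈ P := by
    intro a haa hau hea
    have := hstab _ (hmul (B a a / (2 * B e a))) a haa hau
    rw [hf.smul_left] at this
    rwa [show 2 * (B a a / (2 * B e a) * B e a) / B a a = 1 by field_simp, one_smul] at this
  intro x hx
  have hcard : 3 ≤ Fintype.card F := by
    have h1 := Fintype.one_lt_card (α := F)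
    by_contra h
    have h2 : Fintype.card F = 2 := by omega
    have := FiniteField.cast_card_eq_zero F
    rw [h2] at this
    exact htwo (by exact_mod_cast this)
  have pick : ∀ p q : F, ∃ r : F, r ≠ p ∧ r ≠ q := by
    intro p q
    by_contra h
    push Not at h
    have h2 : (Finset.univ : Finset F) ⊆ {p, q} := fun r _ => by
      by_cases hr : r = p
      · simp [hr]
      · simp [h r hr]
    have := (Finset.card_le_card h2).trans Finset.card_le_two
    rw [Finset.card_univ] at this
    omega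
  obtain ⟨s, hs0, hs1⟩ := pick 0 (-B e x / B e e)
  obtain ⟨ν, hν0, hν1⟩ := pick (-(s * s * B e e)) (-(B x x + 2 * s * B e x + s * s * B e e))
  obtain ⟨y', hy', hp⟩ := exists_rep hf hn (k := 3) (by omega) ![u, e, x] ν
  have p1 : B y' u = 0 := by simpa using hp 0
  have p2 : B y' e = 0 := by simpa using hp 1
  have p3 : B y' x = 0 := by simpa using hp 2
  have p2' : B e y' = 0 := by rw [hf.symm, p2]
  have p3' : B x y' = 0 := by rw [hf.symm, p3]
  have m1 : s • e + y' ∈ P := by
    refine hhop _ ?_ (by rw [hf.add_left, hf.smul_left, heu, p1]; ring) ?_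
    · rw [hf.add_left, add_right hf, add_right hf, hf.smul_left, smul_right hf, hf.smul_left,
        smul_right hf, p2, p2', hy']
      intro h
      exact hν0 (by linear_combination h)
    · rw [add_right hf, smul_right hf, p2', add_zero]
      exact mul_ne_zero hs0 hε
  have m2 : x + (s • e + y') ∈ P := by
    refine hhop _ ?_ (by rw [hf.add_left, hf.add_left, hf.smul_left, hx, heu, p1]; ring) ?_
    · simp only [hf.add_left, add_right hf, hf.smul_left, smul_right hf, p2, p2', p3, p3', hy', hf.symm x e]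
      intro h
      exact hν1 (by linear_combination h)
    · rw [add_right hf, add_right hf, smul_right hf, p2', add_zero]
      intro h
      exact hs1 (by field_simp; linear_combination h)
  simpa using P.sub_mem m2 m1

end Basic

section Pairs

/-- `x ↦ x + B(x,w) u` lies in `X`. -/
def PairH (B : (Fin n → F) → (Fin n → F) → F) (X : Subgroup (GL (Fin n) F)) (u w : Fin n → F) : Prop :=
  B u w = 0 ∧ ∃ g ∈ X, ∀ x, g.val *ᵥ x = x + B x w • u

/-- `X` contains enough isometries: long root elements, and elements acting on two given vectors as a reflection. -/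
structure HasOrth (B : (Fin n → F) → (Fin n → F) → F) (X : Subgroup (GL (Fin n) F)) : Prop where
  root : ∀ z w, B z z = 0 → B w w = 0 → B z w = 0 →
    ∃ g ∈ X, ∀ x, g.val *ᵥ x = x + B x z • w - B x w • z
  refl : ∀ a u v, B a a ≠ 0 → ∃ g ∈ X, (∀ x y, B (g.val *ᵥ x) (g.val *ᵥ y) = B x y) ∧
    g.val *ᵥ u = u - (2 * B u a / B a a) • a ∧ g.val *ᵥ v = v - (2 * B v a / B a a) • a

variable {X : Subgroup (GL (Fin n) F)} (hf : SymForm B)
include hf

theorem PairH.add_right {u w w' : Fin n → F} (h : PairH B X u w) (h' : PairH B X u w') :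
    PairH B X u (w + w') := by
  obtain ⟨a, g, hg, he⟩ := h
  obtain ⟨b, g', hg', he'⟩ := h'
  refine ⟨by rw [H61.OrthSim.add_right hf, a, b, add_zero], g * g', mul_mem hg hg', fun x => ?_⟩
  rw [Units.val_mul, ← Matrix.mulVec_mulVec, he', he, hf.add_left, hf.smul_left, a, mul_zero, add_zero,
    H61.OrthSim.add_right hf, add_smul]
  abel

theorem PairH.add_left {u u' w : Fin n → F} (h : PairH B X u w) (h' : PairH B X u' w) :
    PairH B X (u + u') w := by
  obtain ⟨a, g, hg, he⟩ := h
  obtain ⟨b, g', hg', he'⟩ := h'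
  refine ⟨by rw [hf.add_left, a, b, add_zero], g * g', mul_mem hg hg', fun x => ?_⟩
  rw [Units.val_mul, ← Matrix.mulVec_mulVec, he', he, hf.add_left, hf.smul_left, b, mul_zero, add_zero,
    smul_add]
  abel

theorem PairH.neg_right {u w : Fin n → F} (h : PairH B X u w) : PairH B X u (-w) := by
  obtain ⟨a, g, hg, he⟩ := h
  refine ⟨by rw [H61.OrthSim.neg_right hf, a, neg_zero], g⁻¹, inv_mem hg, fun x => ?_⟩
  apply H49.gl_mulVec_injective g
  show g.val *ᵥ (g⁻¹.val *ᵥ x) = g.val *ᵥ (x + B x (-w) • u)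
  rw [H49.gl_mulVec_inv, he, hf.add_left, hf.smul_left, a, mul_zero, add_zero, H61.OrthSim.neg_right hf,
    neg_smul]
  abel

theorem PairH.neg_left {u w : Fin n → F} (h : PairH B X u w) : PairH B X (-u) w := by
  obtain ⟨a, g, hg, he⟩ := PairH.neg_right hf h
  refine ⟨by rw [H61.OrthSim.neg_left hf, h.1, neg_zero], g, hg, fun x => ?_⟩
  rw [he, H61.OrthSim.neg_right hf, neg_smul, smul_neg]

theorem pair_zero_right (u : Fin n → F) : PairH B X u 0 :=
  ⟨zero_right hf u, 1, X.one_mem, fun x => by simp [zero_right hf]⟩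

theorem pair_zero_left (w : Fin n → F) : PairH B X 0 w :=
  ⟨zero_left hf w, 1, X.one_mem, fun x => by simp⟩

theorem PairH.conj {u w : Fin n → F} (h : PairH B X u w) {M : GL (Fin n) F} (hM : M ∈ X)
    (hiso : ∀ x y, B (M.val *ᵥ x) (M.val *ᵥ y) = B x y) : PairH B X (M.val *ᵥ u) (M.val *ᵥ w) := by
  obtain ⟨h0, g, hg, he⟩ := h
  refine ⟨(hiso u w).trans h0, M * g * M⁻¹, mul_mem (mul_mem hM hg) (inv_mem hM), fun x => ?_⟩
  have e := hiso (M⁻¹.val *ᵥ x) w
  rw [H49.gl_mulVec_inv] at e
  rw [Units.val_mul, Units.val_mul, ← Matrix.mulVec_mulVec, ← Matrix.mulVec_mulVec, he,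
    Matrix.mulVec_add, Matrix.mulVec_smul, H49.gl_mulVec_inv, e]

variable [Fintype F] (hn : 10 ≤ n) (hX : HasOrth B X)
include hn hX

theorem pair_all_right {u w : Fin n → F} (hu : u ≠ 0) (h : PairH B X u w) (hne : ∀ c : F, w ≠ c • u) :
    ∀ x, B x u = 0 → PairH B X u x := by
  let P : AddSubgroup (Fin n → F) :=
    { carrier := {x | PairH B X u x}
      add_mem' := fun a b => PairH.add_right hf a b
      zero_mem' := pair_zero_right hf u
      neg_mem' := fun a => PairH.neg_right hf a }
  refine closure_eq_perp hf hn hu P (fun x hx a haa hau => ?_) h hne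
  obtain ⟨g, hg, hiso, gu, gx⟩ := hX.refl a u x haa
  have h1 := PairH.conj hf hx hg hiso
  rw [gu, hf.symm u a, hau, mul_zero, zero_div, zero_smul, sub_zero, gx] at h1
  have := P.sub_mem hx h1
  rwa [sub_sub_cancel] at this

theorem pair_all_left {u w : Fin n → F} (hw : w ≠ 0) (h : PairH B X u w) (hne : ∀ c : F, u ≠ c • w) :
    ∀ x, B x w = 0 → PairH B X x w := by
  let P : AddSubgroup (Fin n → F) :=
    { carrier := {x | PairH B X x w}
      add_mem' := fun a b => PairH.add_left hf a b
      zero_mem' := pair_zero_left hf w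
      neg_mem' := fun a => PairH.neg_left hf a }
  refine closure_eq_perp hf hn hw P (fun x hx a haa haw => ?_) h hne
  obtain ⟨g, hg, hiso, gx, gw⟩ := hX.refl a x w haa
  have h1 := PairH.conj hf hx hg hiso
  rw [gw, hf.symm w a, haw, mul_zero, zero_div, zero_smul, sub_zero, gx] at h1
  have := P.sub_mem hx h1
  rwa [sub_sub_cancel] at this

theorem pair_all {u w : Fin n → F} (hu : u ≠ 0) (hw : w ≠ 0) (h : PairH B X u w)
    (hne : ∀ c : F, w ≠ c • u) {u' w' : Fin n → F} (hu' : u' ≠ 0) (h' : B u' w' = 0) :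
    PairH B X u' w' := by
  have prop : ∀ {a b : Fin n → F}, a ≠ 0 → (∀ c : F, b ≠ c • a) → ∀ c : F, a ≠ c • b := by
    intro a b ha hab c hc
    have hc0 : c ≠ 0 := fun e => ha (by rw [hc, e, zero_smul])
    exact hab c⁻¹ (by rw [hc, inv_smul_smul₀ hc0])
  have main : ∀ a b : Fin n → F, a ≠ 0 → b ≠ 0 → B a b = 0 → (∀ c : F, b ≠ c • a) → PairH B X a b := by
    intro a b ha hb hab hne'
    obtain ⟨y, hy, hperp⟩ := exists_aniso hf hn (k := 2) (by omega) ![w, b]
    have hyw : B y w = 0 := by simpa using hperp 0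
    have hyb : B y b = 0 := by simpa using hperp 1
    have hy0 : y ≠ 0 := fun e => hy (by rw [e, zero_left hf])
    have aux : ∀ v, B y v = 0 → v ≠ 0 → ∀ c : F, v ≠ c • y := fun v hv hv0 c hc => by
      rw [hc, smul_right hf] at hv
      exact hv0 (by rw [hc, (mul_eq_zero.mp hv).resolve_right hy, zero_smul])
    have h1 := pair_all_left hf hn hX hw h (prop hu hne) y hyw
    have h2 := pair_all_right hf hn hX hy0 h1 (aux w hyw hw) b (by rw [hf.symm, hyb])
    exact pair_all_left hf hn hX hb h2 (prop hy0 (aux b hyb hb)) a hab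
  by_cases hne' : ∀ c : F, w' ≠ c • u'
  · by_cases hw' : w' = 0
    · rw [hw']; exact pair_zero_right hf u'
    · exact main u' w' hu' hw' h' hne'
  push Not at hne'
  obtain ⟨c, hc⟩ := hne'
  obtain ⟨y, hy, hperp⟩ := exists_aniso hf hn (k := 1) (by omega) ![u']
  have hyu : B y u' = 0 := by simpa using hperp 0
  have hy0 : y ≠ 0 := fun e => hy (by rw [e, zero_left hf])
  have hyp : ∀ d : F, y ≠ d • u' := fun d hd => hy (by
    have e : B y y = B y (d • u') := congrArg (B y) hd
    rw [smul_right hf, hyu, mul_zero] at e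
    exact e)
  have huy : B u' y = 0 := by rw [hf.symm, hyu]
  have hsum : ∀ d : F, w' + y ≠ d • u' := fun d hd => hyp (d - c) (by
    rw [sub_smul, ← hd, hc, add_sub_cancel_left])
  have a1 := main u' (w' + y) hu' (fun e => hsum 0 (by rw [e, zero_smul]))
    (by rw [H61.OrthSim.add_right hf, h', huy, add_zero]) hsum
  have a2 := main u' y hu' hy0 huy hyp
  have := PairH.add_right hf a1 (PairH.neg_right hf a2)
  rwa [add_neg_cancel_right] at this

/-- A subgroup with enough isometries and a non-similarity contains a transvection. -/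
theorem exists_pair {g : GL (Fin n) F} (hg : g ∈ X) (hns : g ∉ Cfsg.Geo.similarityGroup B) :
    ∃ u w, u ≠ 0 ∧ w ≠ 0 ∧ PairH B X u w ∧ ∀ c : F, w ≠ c • u := by
  classical
  have htr : ∀ z, ∃ k, ∀ x, B (g.val *ᵥ x) k = B x z := by
    intro z
    obtain ⟨k, hk⟩ := exists_lf hf ((lf hf z) ∘ₗ Matrix.mulVecLin g⁻¹.val)
    refine ⟨k, fun x => ?_⟩
    rw [hk, LinearMap.comp_apply, Matrix.mulVecLin_apply, lf_apply, H49.gl_inv_mulVec]
  choose κ hκ using htr
  have hκ' : ∀ z y, B (g⁻¹.val *ᵥ y) z = B y (κ z) := fun z y => by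
    rw [← hκ z (g⁻¹.val *ᵥ y), H49.gl_mulVec_inv]
  by_cases hA : ∀ z w : Fin n → F, B z z = 0 → B w w = 0 → B z w = 0 → z ≠ 0 → (∀ c : F, w ≠ c • z) →
      ∃ a b : F, κ z = a • (g.val *ᵥ z) + b • (g.val *ᵥ w)
  · -- then `g` is a similarity
    exfalso
    have hd : ∀ z, B z z = 0 → z ≠ 0 →
        ∃ d : F, d ≠ 0 ∧ ∀ x, B (g.val *ᵥ x) (g.val *ᵥ z) = d * B x z := by
      intro z hz hz0
      obtain ⟨w, f, hw, -, hwf, hp⟩ := exists_hyp hf hn (k := 1) (by omega) ![z]
      have hwz : B w z = 0 := by simpa using (hp 0).1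
      have hfz : B f z = 0 := by simpa using (hp 0).2
      obtain ⟨w', f', hw', -, hwf', hp'⟩ := exists_hyp hf hn (k := 2) (by omega) ![z, w]
      have hwz' : B w' z = 0 := by simpa using (hp' 0).1
      have hfz' : B f' z = 0 := by simpa using (hp' 0).2
      have hfw' : B f' w = 0 := by simpa using (hp' 1).2
      have hw1 : ∀ c : F, w ≠ c • z := fun c hc => by
        rw [hc, hf.smul_left, hf.symm z f, hfz, mul_zero] at hwf
        exact zero_ne_one hwf
      have hw1' : ∀ c : F, w' ≠ c • z := fun c hc => by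
        rw [hc, hf.smul_left, hf.symm z f', hfz', mul_zero] at hwf'
        exact zero_ne_one hwf'
      obtain ⟨a, b, hab⟩ := hA z w hz hw (by rw [hf.symm, hwz]) hz0 hw1
      obtain ⟨a', b', hab'⟩ := hA z w' hz hw' (by rw [hf.symm, hwz']) hz0 hw1'
      have e : a • z + b • w = a' • z + b' • w' := by
        apply H49.gl_mulVec_injective g
        show g.val *ᵥ _ = g.val *ᵥ _
        simp only [Matrix.mulVec_add, Matrix.mulVec_smul]
        exact hab.symm.trans hab'
      have e' := congrArg (B f') e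
      simp only [H61.OrthSim.add_right hf, smul_right hf, hfz', hfw', hf.symm f' w', hwf', mul_zero,
        mul_one, add_zero, zero_add] at e'
      rw [← e', zero_smul, add_zero] at hab'
      obtain ⟨y, hy⟩ := exists_apply_eq_one hf hz0
      have ha0 : a' ≠ 0 := fun h => by
        have := hκ z y
        rw [hab', h, zero_smul, zero_right hf, hy] at this
        exact zero_ne_one this
      refine ⟨a'⁻¹, inv_ne_zero ha0, fun x => ?_⟩
      rw [← hκ z x, hab', smul_right hf, inv_mul_cancel_left₀ ha0]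
    choose! d hd using hd
    have hsame : ∀ v v' : Fin n → F, B v v = 0 → v ≠ 0 → B v' v' = 0 → v' ≠ 0 → B v' v ≠ 0 → d v = d v' := by
      intro v v' a b a' b' h
      have h1 := (hd v a b).2 v'
      rw [hf.symm, (hd v' a' b').2 v, hf.symm v v'] at h1
      exact (mul_right_cancel₀ h h1).symm
    have hconst : ∀ v v' : Fin n → F, B v v = 0 → v ≠ 0 → B v' v' = 0 → v' ≠ 0 → d v = d v' := by
      intro v v' a b a' b'
      obtain ⟨y, hy⟩ : ∃ y, B y v ≠ 0 ∧ B y v' ≠ 0 := by
        obtain ⟨y1, h1⟩ := exists_apply_eq_one hf b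
        obtain ⟨y2, h2⟩ := exists_apply_eq_one hf b'
        by_cases h3 : B y1 v' = 0
        · by_cases h4 : B y2 v = 0
          · exact ⟨y1 + y2, by simp [hf.add_left, h1, h4], by simp [hf.add_left, h2, h3]⟩
          · exact ⟨y2, h4, by rw [h2]; exact one_ne_zero⟩
        · exact ⟨y1, by rw [h1]; exact one_ne_zero, h3⟩
      obtain ⟨z, hz, hz'⟩ := exists_iso hf hn (k := 2) (by omega) y ![v, v']
      have e1 : B z v = B y v := by simpa using hz' 0
      have e2 : B z v' = B y v' := by simpa using hz' 1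
      have hz0 : z ≠ 0 := fun e => hy.1 (by rw [← e1, e, zero_left hf])
      rw [hsame v z a b hz hz0 (e1 ▸ hy.1), hsame v' z a' b' hz hz0 (e2 ▸ hy.2)]
    obtain ⟨v0, f0, hv0, -, hv0f, -⟩ := exists_hyp hf hn (k := 0) (by omega) ![]
    have hv00 : v0 ≠ 0 := fun e => by
      rw [e, zero_left hf] at hv0f
      exact zero_ne_one hv0f
    let S : Submodule F (Fin n → F) :=
      { carrier := {v | ∀ x, B (g.val *ᵥ x) (g.val *ᵥ v) = d v0 * B x v}
        zero_mem' := fun x => by simp [zero_right hf]
        add_mem' := fun {v v'} h h' x => by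
          rw [Matrix.mulVec_add, H61.OrthSim.add_right hf, h x, h' x, H61.OrthSim.add_right hf, mul_add]
        smul_mem' := fun c v h x => by
          rw [Matrix.mulVec_smul, smul_right hf, h x, smul_right hf]; ring }
    have hiso : ∀ v, B v v = 0 → v ∈ S := by
      intro v hv x
      by_cases hv' : v = 0
      · simp [hv', zero_right hf]
      · rw [(hd v hv hv').2 x, hconst v v0 hv hv' hv0 hv00]
    refine hns ⟨Units.mk0 (d v0) (hd v0 hv0 hv00).1, fun x v => ?_⟩
    exact (mem_of_singular hf hn (k := 0) (by omega) ![] S (fun z hz _ => hiso z hz)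
      (fun i => i.elim0) : v ∈ S) x
  push Not at hA
  obtain ⟨z, w, hz, hw, hzw, hz0, hwz, hno⟩ := hA
  set p := g.val *ᵥ z with hp
  set q := g.val *ᵥ w with hq
  obtain ⟨e, he, ep, eq', ez, ew, hnoe, hnu⟩ : ∃ e, B e e = 0 ∧ B e p = 0 ∧ B e q = 0 ∧ B e (κ z) = 0 ∧
      B e (κ w) = 0 ∧ (∀ a b c : F, κ z ≠ a • p + b • q + c • e) ∧
      (∀ a b c : F, a ≠ 0 → e ≠ c • (a • q - b • p)) := by
    rcases exists_hyp_four hf hn ![p, q, κ z, κ w] with ⟨e, f, he, -, hef, hperp⟩ | htot
    · have fp : B f p = 0 := by simpa using (hperp 0).2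
      have fq : B f q = 0 := by simpa using (hperp 1).2
      have fz : B f (κ z) = 0 := by simpa using (hperp 2).2
      refine ⟨e, he, by simpa using (hperp 0).1, by simpa using (hperp 1).1, by simpa using (hperp 2).1,
        by simpa using (hperp 3).1, fun a b c hk => ?_, fun a b c _ hc => ?_⟩
      · have := fz
        rw [hk] at this
        simp only [H61.OrthSim.add_right hf, smul_right hf, fp, fq, hf.symm f e, hef, mul_zero, mul_one,
          zero_add] at this
        exact hno a b (by rw [hk, this, zero_smul, add_zero])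
      · have h1 : B f e = 1 := by rw [hf.symm, hef]
        rw [hc, smul_right hf, sub_right hf, smul_right hf, smul_right hf, fp, fq] at h1
        simp at h1
    · refine ⟨p, by simpa using htot 0 0, by simpa using htot 0 0, by simpa using htot 0 1,
        by simpa using htot 0 2, by simpa using htot 0 3, fun a b c hk => hno (a + c) b ?_, fun a b c ha hc => ?_⟩
      · rw [hk]; module
      · have h' : g.val *ᵥ z = g.val *ᵥ (c • (a • w - b • z)) := by
          rw [Matrix.mulVec_smul, Matrix.mulVec_sub, Matrix.mulVec_smul, Matrix.mulVec_smul]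
          exact hc
        have h'' := H49.gl_mulVec_injective g h'
        have hc0 : c ≠ 0 := by rintro rfl; exact hz0 (by rw [h'', zero_smul])
        apply hwz ((c * a)⁻¹ * (1 + c * b))
        rw [mul_smul, show (1 + c * b) • z = (c * a) • w by
          rw [add_smul, one_smul]; nth_rw 1 [h'']; module, inv_smul_smul₀ (mul_ne_zero hc0 ha)]
  obtain ⟨y, hy, hyp, hyq, hye, hyk⟩ : ∃ y, B y y = 0 ∧ B y p = 0 ∧ B y q = 0 ∧ B y e = 0 ∧ B y (κ z) ≠ 0 := by
    by_contra hall
    push Not at hall
    have hker : ∀ y, (∀ i, B y (![p, q, e] i) = 0) → B y (κ z) = 0 := by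
      intro y hy
      refine LinearMap.mem_ker.mp (mem_of_singular hf hn (k := 3) (by omega) ![p, q, e]
        (LinearMap.ker (lf hf (κ z))) (fun v hv hv' => ?_) hy)
      exact hall v hv (by simpa using hv' 0) (by simpa using hv' 1) (by simpa using hv' 2)
    have hmem := FiniteDimensional.mem_span_of_iInf_ker_le_ker (L := fun i => lf hf (![p, q, e] i))
      (K := lf hf (κ z)) (fun x hx => by
        simp only [Submodule.mem_iInf, LinearMap.mem_ker] at hx
        exact hker x hx)
    obtain ⟨c, hc⟩ := (Submodule.mem_span_range_iff_exists_fun F).mp hmem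
    have hk : κ z = c 0 • p + c 1 • q + c 2 • e := lf_injective hf (by
      rw [← hc, Fin.sum_univ_three]; simp)
    exact hnoe _ _ _ hk
  set u := B y (κ z) • q - B y (κ w) • p with hu
  have hu0 : u ≠ 0 := by
    intro h
    have h' : g.val *ᵥ (B y (κ z) • w - B y (κ w) • z) = g.val *ᵥ 0 := by
      rw [Matrix.mulVec_sub, Matrix.mulVec_smul, Matrix.mulVec_smul, Matrix.mulVec_zero]
      exact h
    have h'' := sub_eq_zero.mp (H49.gl_mulVec_injective g h')
    exact hwz ((B y (κ z))⁻¹ * B y (κ w)) (by rw [mul_smul, ← h'', inv_smul_smul₀ hyk])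
  have hue : B u e = 0 := by
    rw [hu, sub_left hf, hf.smul_left, hf.smul_left, hf.symm q e, eq', hf.symm p e, ep]; ring
  have hne : ∀ c : F, e ≠ c • u := fun c hc => hnu _ _ c hyk hc
  refine ⟨u, e, hu0, fun h => hne 0 (by rw [h, zero_smul]), ⟨hue, ?_⟩, hne⟩
  obtain ⟨E0, hE, hEe⟩ := hX.root z w hz hw hzw
  obtain ⟨M, hM, hMe⟩ := hX.root e y he hy (by rw [hf.symm, hye])
  set h := g * E0 * g⁻¹ with hh
  have hhX : h ∈ X := mul_mem (mul_mem hg hE) (inv_mem hg)
  have hhe : ∀ x, h.val *ᵥ x = x + B x (κ z) • q - B x (κ w) • p := fun x => by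
    rw [hh, Units.val_mul, Units.val_mul, ← Matrix.mulVec_mulVec, ← Matrix.mulVec_mulVec, hEe,
      Matrix.mulVec_sub, Matrix.mulVec_add, Matrix.mulVec_smul, Matrix.mulVec_smul, H49.gl_mulVec_inv,
      hκ', hκ']
  set T := h * M * h⁻¹ * M⁻¹ with hT
  refine ⟨T, mul_mem (mul_mem (mul_mem hhX hM) (inv_mem hhX)) (inv_mem hM), fun x => ?_⟩
  have hTrel : T * (M * h) = h * M := by rw [hT]; group
  obtain ⟨x0, rfl⟩ : ∃ x0, (M * h).val *ᵥ x0 = x :=
    ⟨(M * h)⁻¹.val *ᵥ x, H49.gl_mulVec_inv _ x⟩
  rw [Matrix.mulVec_mulVec, ← Units.val_mul, hTrel]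
  simp only [Units.val_mul, ← Matrix.mulVec_mulVec]
  simp only [hhe, hMe, hf.add_left, sub_left hf, hf.smul_left, ep, eq', hyp, hyq, hye, ez, ew, he,
    hf.symm q e, hf.symm p e, hf.symm q y, hf.symm p y, hu]
  module

/-- A subgroup with enough isometries and a non-similarity contains every elementary transvection. -/
theorem full_of_not_similar {g : GL (Fin n) F} (hg : g ∈ X) (hns : g ∉ Cfsg.Geo.similarityGroup B) :
    ∀ i j (hij : i ≠ j) (c : F), H49.elem i j hij c ∈ X := by
  obtain ⟨u, w, hu, hw, hp, hne⟩ := exists_pair hf hn hX hg hns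
  intro i j hij c
  obtain ⟨w', hw'⟩ := exists_lf hf (c • LinearMap.proj j)
  have hwv : ∀ x : Fin n → F, B x w' = c * x j := hw'
  obtain ⟨-, T, hT, he⟩ := pair_all hf hn hX hu hw hp hne (u' := Pi.single i 1) (w' := w') (by simp)
    (by rw [hwv]; simp [hij.symm])
  convert hT using 1
  refine H49.gl_ext_mulVec fun x => funext fun k => ?_
  rw [H49.elem_mulVec, he, hwv]
  by_cases hk : k = i <;> simp [hk]

end Pairs

end H61.OrthSim
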