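import Mathlib
import Cfsg.Agent.H61.Marggraff

/-!
Quasiprimitive groups with a Jordan set.
-/

set_option autoImplicit false

namespace H61

open MulAction

theorem alternatingGroup_le_of_threeCycle_conj {β : Type*} [Fintype β] [DecidableEq β]
    {K : Subgroup (Equiv.Perm β)} (hconj : ∀ σ ∈ alternatingGroup β, ∀ π ∈ K, σ * π * σ⁻¹ ∈ K)
    {c : Equiv.Perm β} (hc : c.IsThreeCycle) (hcK : c ∈ K) : alternatingGroup β ≤ K := by
  rw [← Equiv.Perm.closure_three_cycles_eq_alternating, Subgroup.closure_le]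
  intro τ hτ
  obtain ⟨σ, hσ⟩ := isConj_iff.mp
    (Equiv.Perm.isConj_iff_cycleType_eq.mpr (hc.cycleType.trans (Equiv.Perm.IsThreeCycle.cycleType hτ).symm))
  rcases Int.units_eq_one_or (Equiv.Perm.sign σ) with h | h
  · exact hσ ▸ hconj σ (Equiv.Perm.mem_alternatingGroup.mpr h) c hcK
  · obtain ⟨a, ha⟩ := Finset.card_pos.mp (show 0 < c.support.card by rw [hc.card_support]; norm_num)
    have hab : a ≠ c a := (Equiv.Perm.mem_support.mp ha).symm
    have hce := hc.eq_swap_mul_swap_iff_mem_support.mpr ha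
    have ht : Equiv.swap a (c a) * c * (Equiv.swap a (c a))⁻¹ = c⁻¹ := by
      rw [Equiv.swap_inv]
      conv_lhs => rw [hce]
      conv_rhs => rw [hce, mul_inv_rev, Equiv.swap_inv, Equiv.swap_inv]
      have hca : c a = (Equiv.swap a (c a) * Equiv.swap (c a) (c (c a))) a := by rw [← hce]
      rw [← hca, ← mul_assoc, Equiv.swap_mul_self, one_mul]
    have hmem : σ * Equiv.swap a (c a) ∈ alternatingGroup β := by
      rw [Equiv.Perm.mem_alternatingGroup, map_mul, h, Equiv.Perm.sign_swap hab]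
      rfl
    have h2 := hconj _ hmem c hcK
    rw [mul_inv_rev, show σ * Equiv.swap a (c a) * c * ((Equiv.swap a (c a))⁻¹ * σ⁻¹) =
      σ * (Equiv.swap a (c a) * c * (Equiv.swap a (c a))⁻¹) * σ⁻¹ by group, ht,
      show σ * c⁻¹ * σ⁻¹ = (σ * c * σ⁻¹)⁻¹ by group, hσ] at h2
    exact inv_mem_iff.mp h2

variable {G Ω : Type*} [Group G] [MulAction G Ω] [FaithfulSMul G Ω] [Finite G] [Finite Ω]

theorem pretransitive_of_quasiprimitive
    (hqp : ∀ N : Subgroup G, N.Normal → N ≠ ⊥ → IsPretransitive ↥N Ω)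
    {Γ : Set Ω} (hJ : JordanSet G Γ) (h1 : 1 < Γ.ncard) : IsPretransitive G Ω := by
  obtain ⟨x, hx, y, hy, hxy⟩ := (Set.one_lt_ncard (s := Γ)).mp h1
  obtain ⟨g, -, hg⟩ := hJ x hx y hy
  have hne : (⊤ : Subgroup G) ≠ ⊥ := fun h => hxy (by
    have : g ∈ (⊥ : Subgroup G) := h ▸ Subgroup.mem_top g
    rw [Subgroup.mem_bot.mp this, one_smul] at hg
    exact hg)
  have := hqp ⊤ inferInstance hne
  exact ⟨fun u v => by obtain ⟨k, hk⟩ := exists_smul_eq (⊤ : Subgroup G) u v; exact ⟨k, hk⟩⟩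

/-- A maximal block system of an imprimitive quasiprimitive group with a Jordan set. -/
theorem exists_blockSystem
    (hqp : ∀ N : Subgroup G, N.Normal → N ≠ ⊥ → IsPretransitive ↥N Ω)
    {Γ : Set Ω} (hJ : JordanSet G Γ) (h1 : 1 < Γ.ncard) (hn : ¬ IsPreprimitive G Ω) :
    ∃ (M : Subgroup G) (π : Ω → G ⧸ M), IsCoatom M ∧ (∀ (g : G) w, π (g • w) = g • π w) ∧
      Function.Surjective π ∧ (∀ g : G, toPermHom G (G ⧸ M) g = 1 → g = 1) ∧
      (∀ q, ∃ u v, π u = q ∧ π v = q ∧ u ≠ v) ∧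
      (∀ x ∈ Γ, ∀ w, π w = π x → w ∈ Γ) ∧ ∃ x ∈ Γ, ∃ y ∈ Γ, π x ≠ π y := by
  haveI := pretransitive_of_quasiprimitive hqp hJ h1
  obtain ⟨a, ha⟩ : Γ.Nonempty := Set.nonempty_of_ncard_ne_zero (by omega)
  obtain ⟨a', ha', haa'⟩ := Set.exists_ne_of_one_lt_ncard h1 a
  haveI : Nontrivial Ω := ⟨⟨a', a, haa'⟩⟩
  have htop : stabilizer G a ≠ ⊤ := fun h => by
    obtain ⟨g, hg⟩ := exists_smul_eq G a a'
    have : g ∈ stabilizer G a := h ▸ Subgroup.mem_top g
    exact haa' (hg.symm.trans this)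
  obtain ⟨M, hM, hle⟩ := (eq_top_or_exists_le_coatom (stabilizer G a)).resolve_left htop
  have hneM : stabilizer G a ≠ M := fun h => hn ((isCoatom_stabilizer_iff_preprimitive G a).mp (h ▸ hM))
  choose f hf using fun w => exists_smul_eq G a w
  let π : Ω → G ⧸ M := fun w => (f w : G ⧸ M)
  have hπ : ∀ (g : G) w, π (g • w) = g • π w := by
    intro g w
    show ((f (g • w) : G) : G ⧸ M) = g • ((f w : G) : G ⧸ M)
    rw [Quotient.smul_coe, QuotientGroup.eq]
    refine hle ?_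
    rw [mem_stabilizer_iff, smul_eq_mul, mul_smul, mul_smul, hf, inv_smul_eq_iff, hf]
  have hsurj : Function.Surjective π := fun q => by
    induction q using QuotientGroup.induction_on with
    | _ g =>
      refine ⟨g • a, ?_⟩
      rw [hπ]
      show g • ((f a : G) : G ⧸ M) = _
      rw [Quotient.smul_coe, QuotientGroup.eq, smul_eq_mul, mul_inv_rev, mul_assoc, inv_mul_cancel, mul_one]
      exact inv_mem (hle (hf a))
  have hker : ∀ g : G, toPermHom G (G ⧸ M) g = 1 → g = 1 := by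
    by_contra hc
    push Not at hc
    obtain ⟨g, hg, hg1⟩ := hc
    have hne : (toPermHom G (G ⧸ M)).ker ≠ ⊥ := fun h => hg1 (by
      rw [← Subgroup.mem_bot, ← h]; exact hg)
    have := hqp _ inferInstance hne
    refine hM.1 ((Subgroup.eq_top_iff' M).mpr fun h => ?_)
    obtain ⟨k, hk⟩ := exists_smul_eq (toPermHom G (G ⧸ M)).ker a (h • a)
    have hk1 := Equiv.Perm.ext_iff.mp k.2 (π a)
    change (k : G) • π a = π a at hk1
    rw [← hπ, show ((k : G) • a : Ω) = h • a from hk, hπ] at hk1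
    have hfa : f a ∈ M := hle (hf a)
    change h • ((f a : G) : G ⧸ M) = _ at hk1
    rw [Quotient.smul_coe, smul_eq_mul, QuotientGroup.eq] at hk1
    change (h * f a)⁻¹ * f a ∈ M at hk1
    have : (h * f a)⁻¹ ∈ M := by simpa using mul_mem hk1 (inv_mem hfa)
    simpa using mul_mem (inv_mem_iff.mp this) (inv_mem hfa)
  have hnc : ∃ x ∈ Γ, ∃ y ∈ Γ, π x ≠ π y := by
    by_contra hc
    push Not at hc
    obtain ⟨g, hg, hga⟩ := hJ a ha a' ha'
    have hg1 : g = 1 := hker g (Equiv.ext fun q => by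
      obtain ⟨u, rfl⟩ := hsurj q
      show g • π u = π u
      rw [← hπ]
      by_cases hu : u ∈ Γ
      · refine hc _ ?_ _ hu
        by_contra hgu
        have := hg _ hgu
        exact hgu ((MulAction.injective g this).symm ▸ hu)
      · rw [hg u hu])
    rw [hg1, one_smul] at hga
    exact haa' hga.symm
  refine ⟨M, π, hM, hπ, hsurj, hker, fun q => ?_, fun x hx w hw => ?_, hnc⟩
  · obtain ⟨g, hgM, hgS⟩ := SetLike.exists_of_lt (lt_of_le_of_ne hle hneM)
    obtain ⟨u, rfl⟩ := hsurj q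
    refine ⟨u, (f u * g) • a, rfl, ?_, fun e => hgS ?_⟩
    · have h0 : π a = ((1 : G) : G ⧸ M) := QuotientGroup.eq.mpr (by
        simpa using inv_mem (hle (hf a)))
      rw [hπ, h0, show u = f u • a from (hf u).symm, hπ, h0]
      rw [Quotient.smul_coe, Quotient.smul_coe, QuotientGroup.eq]
      simp only [smul_eq_mul, mul_one, mul_inv_rev, mul_assoc]
      simpa [hf u] using inv_mem hgM
    · rw [mem_stabilizer_iff, ← MulAction.injective (f u) |>.eq_iff, ← mul_smul, ← e, hf]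
  · by_contra hwΓ
    obtain ⟨u, hu, v, hv, huv⟩ := hnc
    have key : ∀ y ∈ Γ, π y = π w := fun y hy => by
      obtain ⟨h, hh, hxy⟩ := hJ x hx y hy
      rw [← hxy, hπ, ← hw, ← hπ, hh w hwΓ]
    exact huv ((key u hu).trans (key v hv).symm)

/-- A quasiprimitive group with a primitive Jordan set is primitive. -/
theorem isPreprimitive_of_jordan_primitive
    (hqp : ∀ N : Subgroup G, N.Normal → N ≠ ⊥ → IsPretransitive ↥N Ω)
    {Γ : Set Ω} (h1 : 1 < Γ.ncard)
    (hJp : IsPreprimitive ↥(fixingSubgroup G Γᶜ) ↥(SubMulAction.ofFixingSubgroup G Γᶜ)) :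
    IsPreprimitive G Ω := by
  have hJ : JordanSet G Γ := jordanSet_of_pretransitive hJp.toIsPretransitive
  by_contra hn
  obtain ⟨M, π, -, hπ, -, -, hfib, hsat, x, hx, y, hy, hxy⟩ := exists_blockSystem hqp hJ h1 hn
  let D : Set (SubMulAction.ofFixingSubgroup G Γᶜ) := {w | π w = π x}
  have hD : IsBlock (fixingSubgroup G Γᶜ) D := by
    rw [isBlock_iff_smul_eq_of_nonempty]
    rintro g ⟨_, ⟨u, hu, rfl⟩, hgu⟩
    have hgx : (g : G) • π x = π x := by
      change π ((g : G) • (u : Ω)) = π x at hgu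
      rw [hπ, show π u = π x from hu] at hgu
      exact hgu
    ext w
    rw [Set.mem_smul_set_iff_inv_smul_mem]
    show π ((g : G)⁻¹ • (w : Ω)) = π x ↔ π w = π x
    rw [hπ, inv_smul_eq_iff, hgx]
  rcases hJp.isTrivialBlock_of_isBlock hD with h | h
  · obtain ⟨u, v, hu, hv, huv⟩ := hfib (π x)
    exact huv (congrArg Subtype.val (@h ⟨u, not_not.mpr (hsat x hx u hu)⟩ hu
      ⟨v, not_not.mpr (hsat x hx v hv)⟩ hv))
  · exact hxy (show (⟨y, not_not.mpr hy⟩ : SubMulAction.ofFixingSubgroup G Γᶜ) ∈ D from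
      h ▸ Set.mem_univ _).symm

/-- A quasiprimitive group with a small Jordan set is primitive. -/
theorem isPreprimitive_of_small_jordan
    (hqp : ∀ N : Subgroup G, N.Normal → N ≠ ⊥ → IsPretransitive ↥N Ω)
    {Γ : Set Ω} (hJ : JordanSet G Γ) (h1 : 1 < Γ.ncard) (h2 : 2 * Γ.ncard < Nat.card Ω) :
    IsPreprimitive G Ω := by
  classical
  by_contra hn
  haveI := pretransitive_of_quasiprimitive hqp hJ h1
  obtain ⟨M, π, hM, hπ, hsurj, hker, hfib, hsat, x, hx, y, hy, hxy⟩ := exists_blockSystem hqp hJ h1 hn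
  haveI := Fintype.ofFinite Ω
  haveI := Fintype.ofFinite (G ⧸ M)
  -- the action on blocks is primitive with a small Jordan set
  have hJ' : JordanSet G (π '' Γ) := by
    rintro _ ⟨u, hu, rfl⟩ _ ⟨v, hv, rfl⟩
    obtain ⟨g, hg, rfl⟩ := hJ u hu v hv
    refine ⟨g, fun q hq => ?_, (hπ g u).symm⟩
    obtain ⟨w, rfl⟩ := hsurj q
    rw [← hπ, hg w fun hw => hq ⟨w, hw, rfl⟩]
  haveI : Nontrivial (G ⧸ M) := ⟨⟨π x, π y, hxy⟩⟩
  have hprim : IsPreprimitive G (G ⧸ M) := by
    refine (isCoatom_stabilizer_iff_preprimitive G ((1 : G) : G ⧸ M)).mp ?_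
    rwa [MulAction.stabilizer_quotient]
  have hk1 : 1 < (π '' Γ).ncard :=
    (Set.one_lt_ncard).mpr ⟨_, ⟨x, hx, rfl⟩, _, ⟨y, hy, rfl⟩, hxy⟩
  have hk2 : 2 * (π '' Γ).ncard < Nat.card (G ⧸ M) := by
    set r := (Finset.univ.filter fun w => π w = π x).card with hr
    have hfr : ∀ q, (Finset.univ.filter fun w => π w = q).card = r := by
      intro q
      obtain ⟨w, rfl⟩ := hsurj q
      obtain ⟨g, hg⟩ := exists_smul_eq G x w
      refine (Finset.card_bij' (fun u _ => g • u) (fun u _ => g⁻¹ • u) ?_ ?_ ?_ ?_).symm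
      · intro u hu
        simp only [Finset.mem_filter, Finset.mem_univ, true_and] at hu ⊢
        rw [hπ, hu, ← hπ, hg]
      · intro u hu
        simp only [Finset.mem_filter, Finset.mem_univ, true_and] at hu ⊢
        rw [hπ, hu, ← hg, hπ, inv_smul_smul]
      · intro u _; simp
      · intro u _; simp
    have e1 : Nat.card Ω = Nat.card (G ⧸ M) * r := by
      rw [Nat.card_eq_fintype_card, ← Finset.card_univ,
        Finset.card_eq_sum_card_fiberwise (f := π) (t := Finset.univ) (fun w _ => Finset.mem_univ _),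
        Finset.sum_congr rfl fun q _ => hfr q, Finset.sum_const, Finset.card_univ, smul_eq_mul,
        Nat.card_eq_fintype_card]
    have e2 : Γ.ncard = (π '' Γ).ncard * r := by
      rw [Set.ncard_eq_toFinset_card', Set.ncard_eq_toFinset_card' (π '' Γ),
        Finset.card_eq_sum_card_fiberwise (f := π) (t := (π '' Γ).toFinset)
          (fun w hw => Set.mem_toFinset.mpr ⟨w, Set.mem_toFinset.mp hw, rfl⟩),
        Finset.sum_congr rfl (g := fun _ => r) fun q hq => ?_, Finset.sum_const, smul_eq_mul]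
      rw [← hfr q]
      refine congrArg Finset.card (Finset.ext fun w => ?_)
      simp only [Finset.mem_filter, Finset.mem_univ, true_and, Set.mem_toFinset]
      refine ⟨fun h => h.2, fun h => ⟨?_, h⟩⟩
      obtain ⟨u, hu, huq⟩ := Set.mem_toFinset.mp hq
      exact hsat u hu w (h.trans huq.symm)
    rw [e1, e2, ← mul_assoc] at h2
    exact Nat.lt_of_mul_lt_mul_right h2
  set φ := toPermHom G (G ⧸ M) with hφ
  have halt : alternatingGroup (G ⧸ M) ≤ φ.range := alternatingGroup_le_range hprim hJ' hk1 hk2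
  have hφinj : Function.Injective φ := (injective_iff_map_eq_one φ).mpr hker
  -- two translates meeting in one block, and a block outside both
  have hcompl := Set.ncard_compl (π '' Γ)
  obtain ⟨R, hR, hRc⟩ := Finset.exists_subset_card_eq (s := ((π '' Γ)ᶜ).toFinset)
    (n := (π '' Γ).ncard - 1) (by rw [← Set.ncard_eq_toFinset_card']; omega)
  obtain ⟨q, hq, hqR⟩ := Finset.exists_mem_notMem_of_card_lt_card (s := R) (t := ((π '' Γ)ᶜ).toFinset)
    (by rw [← Set.ncard_eq_toFinset_card']; omega)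
  have hqΓ : q ∉ π '' Γ := Set.mem_toFinset.mp hq
  have hxR : π x ∉ R := fun h => Set.mem_toFinset.mp (hR h) ⟨x, hx, rfl⟩
  have htr : IsMultiplyPretransitive (alternatingGroup (G ⧸ M)) (G ⧸ M) (π '' Γ).ncard := by
    haveI := alternatingGroup.isMultiplyPretransitive (G ⧸ M)
    exact isMultiplyPretransitive_of_le (n := Nat.card (G ⧸ M) - 2) (by omega) (by omega)
  obtain ⟨σ, hσ⟩ := exists_smul_image_eq htr (S := insert (π x) R) (S' := (π '' Γ).toFinset)
    (by rw [Finset.card_insert_of_notMem hxR]; omega) (by rw [← Set.ncard_eq_toFinset_card'])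
  obtain ⟨g, hg⟩ := halt σ.2
  have hgσ : ∀ p, g • p = σ • p := fun p => Equiv.Perm.ext_iff.mp hg p
  have hpre : ∀ p, g • p ∈ π '' Γ ↔ p ∈ insert (π x) R := by
    intro p
    rw [hgσ, ← Set.mem_toFinset, ← hσ, Finset.mem_image]
    exact ⟨fun ⟨p', hp', e⟩ => MulAction.injective σ e ▸ hp', fun hp => ⟨p, hp, rfl⟩⟩
  -- the witnesses
  obtain ⟨h, hh, hhxy⟩ := hJ x hx y hy
  obtain ⟨p', hp', hp'x⟩ := Set.exists_ne_of_one_lt_ncard (s := π '' Γ) hk1 (g • π x)
  obtain ⟨v, hv, rfl⟩ := hp'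
  have hgx : g • x ∈ Γ := by
    obtain ⟨u, hu, e⟩ := (hpre (π x)).mpr (Finset.mem_insert_self _ _)
    exact hsat u hu _ (by rw [hπ, e])
  obtain ⟨h', hh', hh'v⟩ := hJ (g • x) hgx v hv
  set h'' := g⁻¹ * h' * g with hh''
  have hB : ∀ w, π w = q → h • w = w ∧ h'' • w = w := by
    intro w hw
    refine ⟨hh w fun hwΓ => hqΓ ⟨w, hwΓ, hw⟩, ?_⟩
    rw [hh'', mul_smul, mul_smul, hh' (g • w) fun hgw => ?_, inv_smul_smul]
    have h3 := (hpre q).mp ⟨g • w, hgw, by rw [hπ, hw]⟩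
    rcases Finset.mem_insert.mp h3 with e | e
    · exact hqΓ ⟨x, hx, e.symm⟩
    · exact hqR e
  -- their commutator is a three-cycle of blocks
  let A : Set (G ⧸ M) := π '' Γ
  let B : Set (G ⧸ M) := ↑(insert (π x) R)
  have hhA : ∀ p ∉ A, h • p = p := fun p hp => by
    obtain ⟨w, rfl⟩ := hsurj p
    rw [← hπ, hh w fun hw => hp ⟨w, hw, rfl⟩]
  have hhB : ∀ p ∉ B, h'' • p = p := fun p hp => by
    obtain ⟨w, rfl⟩ := hsurj p
    rw [← hπ, hh'', mul_smul, mul_smul, hh' (g • w) fun hw => hp ((hpre _).mp ⟨g • w, hw, hπ g w⟩),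
      inv_smul_smul]
  have hhx : h • π x = π y := by rw [← hπ, hhxy]
  have hh''x : h'' • π x ≠ π x := fun e => hp'x (by
    rw [hh'', mul_smul, mul_smul, inv_smul_eq_iff, ← hπ g x, ← hπ h', hh'v] at e
    rw [e, hπ])
  have hI : A ∩ B = {π x} := by
    refine Set.ext fun p => ⟨fun ⟨hpA, hpB⟩ => ?_, fun e => ?_⟩
    · rcases Finset.mem_insert.mp hpB with e | hpR
      · exact e
      · exact absurd hpA (Set.mem_toFinset.mp (hR hpR))
    · rw [Set.mem_singleton_iff] at e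
      exact e ▸ ⟨⟨x, hx, rfl⟩, Finset.mem_insert_self _ _⟩
  have h3c : (toPerm (h * h'' * h⁻¹ * h''⁻¹) : Equiv.Perm (G ⧸ M)).IsThreeCycle := by
    have h3 := commutator_isThreeCycle hI hhA hhB (hhx.trans_ne hxy.symm) hh''x
    exact h3
  -- conjugates fix the block `q` pointwise
  let K : Subgroup (Equiv.Perm {p : G ⧸ M // p ≠ q}) :=
    { carrier := {ρ | ∃ c : G, (∀ w, π w = q → c • w = w) ∧ φ c = Equiv.Perm.ofSubtype ρ}
      one_mem' := ⟨1, fun w _ => one_smul _ w, by rw [map_one, map_one]⟩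
      mul_mem' := by
        rintro a b ⟨c, hc, hca⟩ ⟨d, hd, hdb⟩
        exact ⟨c * d, fun w hw => by rw [mul_smul, hd w hw, hc w hw], by rw [map_mul, map_mul, hca, hdb]⟩
      inv_mem' := by
        rintro a ⟨c, hc, hca⟩
        exact ⟨c⁻¹, fun w hw => by rw [inv_smul_eq_iff, hc w hw], by rw [map_inv, map_inv, hca]⟩ }
  have hlift : ∀ ρ : Equiv.Perm {p : G ⧸ M // p ≠ q}, ρ ∈ alternatingGroup _ →
      ∃ c : G, φ c = Equiv.Perm.ofSubtype ρ := fun ρ hρ =>
    halt (by rw [Equiv.Perm.mem_alternatingGroup, Equiv.Perm.sign_ofSubtype]; exact hρ)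
  have hK : alternatingGroup {p : G ⧸ M // p ≠ q} ≤ K := by
    have hcfix : ∀ w, π w = q → (h * h'' * h⁻¹ * h''⁻¹) • w = w := by
      intro w hw
      obtain ⟨e1, e2⟩ := hB w hw
      have e3 : h⁻¹ • w = w := by rw [inv_smul_eq_iff, e1]
      have e4 : h''⁻¹ • w = w := by rw [inv_smul_eq_iff, e2]
      rw [mul_smul, mul_smul, mul_smul, e4, e3, e2, e1]
    obtain ⟨w₀, hw₀⟩ := hsurj q
    set cσ := φ (h * h'' * h⁻¹ * h''⁻¹) with hcσ
    have hcq : cσ q = q := by
      show (h * h'' * h⁻¹ * h''⁻¹) • q = q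
      rw [← hw₀, ← hπ, hcfix w₀ hw₀]
    have hmem : ∀ p, p ≠ q ↔ cσ p ≠ q := fun p => by
      rw [not_iff_not]
      exact ⟨fun e => e ▸ hcq, fun e => cσ.injective (e.trans hcq.symm)⟩
    refine alternatingGroup_le_of_threeCycle_conj ?_ (c := cσ.subtypePerm fun p => (hmem p).symm) ?_
      ⟨_, hcfix, ?_⟩
    · rintro s hs ρ ⟨c, hc, hcρ⟩
      obtain ⟨d, hd⟩ := hlift s hs
      refine ⟨d * c * d⁻¹, fun w hw => ?_, by rw [map_mul, map_mul, map_inv, map_mul, map_mul, map_inv, hd, hcρ]⟩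
      have hdq : d⁻¹ • q = q := by
        rw [inv_smul_eq_iff]
        have := Equiv.Perm.ext_iff.mp hd q
        rw [Equiv.Perm.ofSubtype_apply_of_not_mem _ (by simp)] at this
        exact this.symm
      rw [mul_smul, mul_smul, hc _ (by rw [hπ, hw, hdq]), smul_inv_smul]
    · rw [Equiv.Perm.IsThreeCycle, ← Equiv.Perm.cycleType_ofSubtype, Equiv.Perm.ofSubtype_subtypePerm]
      · exact h3c
      · intro p hp e
        exact hp (e ▸ hcq)
    · rw [Equiv.Perm.ofSubtype_subtypePerm]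
      intro p hp e
      exact hp (e ▸ hcq)
  -- but the preimage of the alternating group is transitive
  haveI : (alternatingGroup (G ⧸ M)).Normal := inferInstance
  have hA : IsPretransitive ((alternatingGroup (G ⧸ M)).comap φ) Ω := by
    refine hqp _ inferInstance fun hb => ?_
    have : (h * h'' * h⁻¹ * h''⁻¹) ∈ (alternatingGroup (G ⧸ M)).comap φ :=
      Subgroup.mem_comap.mpr h3c.mem_alternatingGroup
    rw [hb, Subgroup.mem_bot] at this
    exact h3c.ne_one (by rw [this]; exact Equiv.ext fun p => one_smul G p)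
  obtain ⟨u, v', hu, hv', huv⟩ := hfib q
  obtain ⟨⟨d, hdA⟩, hd⟩ := hA.exists_smul_eq u v'
  change d • u = v' at hd
  have hdq : φ d q = q := by
    show d • q = q
    rw [← hu, ← hπ, hd, hv', hu]
  have hmem : ∀ p, p ≠ q ↔ φ d p ≠ q := fun p => by
    rw [not_iff_not]
    exact ⟨fun e => e ▸ hdq, fun e => (φ d).injective (e.trans hdq.symm)⟩
  have hsupp : ∀ p, φ d p ≠ p → p ≠ q := fun p hp e => hp (e ▸ hdq)
  obtain ⟨c, hc, hcd⟩ := hK (show (φ d).subtypePerm (fun p => (hmem p).symm) ∈ alternatingGroup _ by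
    rw [Equiv.Perm.mem_alternatingGroup, ← Equiv.Perm.sign_ofSubtype,
      Equiv.Perm.ofSubtype_subtypePerm _ hsupp]
    exact hdA)
  rw [Equiv.Perm.ofSubtype_subtypePerm _ hsupp] at hcd
  rw [← hφinj hcd, hc u hu] at hd
  exact huv hd

end H61
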