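import Cfsg.Agent.S2116
import Cfsg.Agent.H37.SmallIso
import Cfsg.Agent.H39.PSL2Multiplier

/-!
The multiplier of `SL₂(9)` from that of `A₆`.
-/

set_option autoImplicit false

namespace H61.AltSix

open Matrix
open scoped MatrixGroups commutatorElement

/-- A central extension of a perfect central extension has central kernel. -/
theorem comp_central {Γ H G : Type*} [Group Γ] [Group H] [Group G] (τ : Γ →* H) (ρ : H →* G)
    (hτ : Function.Surjective τ) (hτc : τ.ker ≤ Subgroup.center Γ) (hρc : ρ.ker ≤ Subgroup.center H)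
    (hperf : commutator Γ = ⊤) : (ρ.comp τ).ker ≤ Subgroup.center Γ := by
  intro w hw
  have hwk : τ w ∈ ρ.ker := hw
  have hcw : ∀ g, ⁅g, w⁆ ∈ Subgroup.center Γ := fun g => hτc (by
    rw [MonoidHom.mem_ker, map_commutatorElement, commutatorElement_eq_one_iff_mul_comm]
    exact Subgroup.mem_center_iff.1 (hρc hwk) (τ g))
  let f : Γ →* ↥(Subgroup.center Γ) := MonoidHom.mk' (fun g => ⟨⁅g, w⁆, hcw g⟩) fun a b => Subtype.ext (by
    show ⁅a * b, w⁆ = ⁅a, w⁆ * ⁅b, w⁆
    rw [show ⁅a * b, w⁆ = a * ⁅b, w⁆ * a⁻¹ * ⁅a, w⁆ by simp only [commutatorElement_def]; group,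
      Subgroup.mem_center_iff.1 (hcw b) a, mul_inv_cancel_right, ← Subgroup.mem_center_iff.1 (hcw b) ⁅a, w⁆])
  have hf : commutator Γ ≤ f.ker := by
    rw [commutator_def, Subgroup.commutator_le]
    intro a _ b _
    rw [MonoidHom.mem_ker, map_commutatorElement, commutatorElement_eq_one_iff_mul_comm]
    exact Subtype.ext (Subgroup.mem_center_iff.1 (f b).2 _)
  rw [hperf] at hf
  rw [Subgroup.mem_center_iff]
  intro g
  have : ⁅g, w⁆ = 1 := congrArg Subtype.val (MonoidHom.mem_ker.1 (hf (Subgroup.mem_top g)))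
  exact commutatorElement_eq_one_iff_mul_comm.1 this

universe u

theorem multiplier_SL2_nine {F : Type u} [Field F] [Fintype F] (hF : Fintype.card F = 9) :
    Cfsg.HasCyclicSchurMultiplier SL(2, F) 3 := by
  classical
  obtain ⟨e⟩ := H37.PSL2_nine_mulEquiv_alternating hF
  have hperf : commutator SL(2, F) = ⊤ := H39.SL2_perfect' (by omega)
  let pr : SL(2, F) →* ProjectiveSpecialLinearGroup (Fin 2) F := QuotientGroup.mk' _
  let ρ : SL(2, F) →* alternatingGroup (Fin 6) := e.toMonoidHom.comp pr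
  have hρ : Function.Surjective ρ := e.surjective.comp (QuotientGroup.mk'_surjective _)
  have hρk : ρ.ker = Subgroup.center SL(2, F) := by
    ext x
    rw [MonoidHom.mem_ker, ← QuotientGroup.eq_one_iff]
    exact ⟨fun h => e.injective (h.trans (map_one e).symm), fun h => by simp [ρ, pr, h]⟩
  have hρc : Nat.card ρ.ker = 2 := by
    rw [hρk, H37.card_center_SL, Fintype.card_fin, Nat.card_eq_fintype_card, hF]; decide
  constructor
  · obtain ⟨A, _, _, α, ⟨hα, hαc, hαd⟩, hαk⟩ := exists_triple_cover 6 (Or.inl rfl)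
    set T := MonoidHom.eqLocus (α.comp (MonoidHom.fst A SL(2, F))) (ρ.comp (MonoidHom.snd A SL(2, F))) with hT
    let pA : T →* A := (MonoidHom.fst A SL(2, F)).comp T.subtype
    let pB : T →* SL(2, F) := (MonoidHom.snd A SL(2, F)).comp T.subtype
    have hmem : ∀ t : T, α t.1.1 = ρ t.1.2 := fun t => t.2
    have hpA : Function.Surjective pA := fun a => (hρ (α a)).elim fun b hb => ⟨⟨(a, b), hb.symm⟩, rfl⟩
    have hpB : Function.Surjective pB := fun b => (hα (ρ b)).elim fun a ha => ⟨⟨(a, b), ha⟩, rfl⟩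
    have hk1 : ∀ t ∈ pB.ker, t.1.1 ∈ α.ker ∧ t.1.2 = 1 := fun t ht => by
      have h2 : t.1.2 = 1 := ht
      exact ⟨MonoidHom.mem_ker.2 ((hmem t).trans (by rw [h2, map_one])), h2⟩
    have hkA : ∀ a ∈ α.ker, a ^ 3 = 1 := fun a ha => by
      have := congrArg Subtype.val (pow_card_eq_one' (x := (⟨a, ha⟩ : α.ker)))
      rwa [hαk] at this
    have hkB : ∀ b ∈ ρ.ker, b ^ 2 = 1 := fun b hb => by
      have := congrArg Subtype.val (pow_card_eq_one' (x := (⟨b, hb⟩ : ρ.ker)))
      rwa [hρc] at this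
    refine ⟨T, inferInstance, inferInstance, pB, ⟨hpB, fun t ht => ?_, fun t ht => ?_⟩, ?_⟩
    · refine Subgroup.mem_center_iff.2 fun v => Subtype.ext (Prod.ext ?_ ?_)
      · exact Subgroup.mem_center_iff.1 (hαc (hk1 t ht).1) v.1.1
      · show v.1.2 * t.1.2 = t.1.2 * v.1.2
        rw [(hk1 t ht).2, mul_one, one_mul]
    · have ha := (hk1 t ht).1
      have h := hαd ha
      rw [commutator_def, ← Subgroup.map_top_of_surjective pA hpA, ← Subgroup.map_commutator] at h
      obtain ⟨s, hs, hsa⟩ := h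
      have hsa' : s.1.1 = t.1.1 := hsa
      have hb : s.1.2 ^ 2 = 1 := hkB _ (MonoidHom.mem_ker.2 ((hmem s).symm.trans (by rw [hsa']; exact ha)))
      have : t = s ^ 4 := by
        refine Subtype.ext (Prod.ext ?_ ?_)
        · show t.1.1 = s.1.1 ^ 4
          rw [hsa', pow_succ, hkA _ ha, one_mul]
        · show t.1.2 = s.1.2 ^ 4
          rw [(hk1 t ht).2, show 4 = 2 * 2 from rfl, pow_mul, hb, one_pow]
      rw [this]
      exact Subgroup.pow_mem _ hs 4
    · let f : pB.ker ≃* α.ker :=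
        { toFun := fun t => ⟨_, (hk1 t.1 t.2).1⟩
          invFun := fun p => ⟨⟨(p.1, 1), (MonoidHom.mem_ker.1 p.2).trans (map_one ρ).symm⟩, rfl⟩
          left_inv := fun t => Subtype.ext (Subtype.ext (Prod.ext rfl (hk1 t.1 t.2).2.symm))
          right_inv := fun p => rfl
          map_mul' := fun t u => rfl }
      haveI : Fact (Nat.Prime 3) := ⟨Nat.prime_three⟩
      haveI : IsCyclic α.ker := isCyclic_of_prime_card hαk
      exact ⟨f.trans (mulEquivOfCyclicCardEq (by rw [hαk]; simp))⟩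
  intro Γ _ _ τ ⟨hτ, hτc, hτd⟩
  have hperfΓ : commutator Γ = ⊤ := by
    rw [eq_top_iff]
    intro g _
    have h : τ g ∈ (commutator Γ).map τ := by
      rw [commutator_def, Subgroup.map_commutator, Subgroup.map_top_of_surjective τ hτ, ← commutator_def, hperf]
      exact Subgroup.mem_top _
    obtain ⟨c, hc, hcg⟩ := h
    have : c⁻¹ * g ∈ τ.ker := by rw [MonoidHom.mem_ker, map_mul, map_inv, hcg, inv_mul_cancel]
    simpa using mul_mem hc (hτd this)
  obtain ⟨π, hπ⟩ := Cfsg.Agent.S2116.upper_six Γ (ρ.comp τ)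
    ⟨hρ.comp hτ, comp_central τ ρ hτ hτc hρk.le hperfΓ, by rw [hperfΓ]; exact le_top⟩
  haveI : IsCyclic (ρ.comp τ).ker := isCyclic_of_surjective π hπ
  have hle : τ.ker ≤ (ρ.comp τ).ker := fun x hx => by
    rw [MonoidHom.mem_ker, MonoidHom.comp_apply, MonoidHom.mem_ker.1 hx, map_one]
  haveI : IsCyclic τ.ker := isCyclic_of_injective (Subgroup.inclusion hle) (Subgroup.inclusion_injective hle)
  have h6 : Nat.card (ρ.comp τ).ker ∣ 6 := by
    have := Subgroup.card_dvd_of_surjective π hπ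
    rwa [Nat.card_congr Multiplicative.toAdd, Nat.card_zmod] at this
  let g : (ρ.comp τ).ker →* ρ.ker := (τ.comp (ρ.comp τ).ker.subtype).codRestrict _ fun x => x.2
  have hg : Function.Surjective g := fun y => (hτ y.1).elim fun x hx =>
    ⟨⟨x, MonoidHom.mem_ker.2 (show ρ (τ x) = 1 by rw [hx]; exact y.2)⟩, Subtype.ext hx⟩
  have hgk : Nat.card g.ker = Nat.card τ.ker := by
    refine Nat.card_congr
      { toFun := fun x => ⟨x.1.1, congrArg Subtype.val (MonoidHom.mem_ker.1 x.2)⟩
        invFun := fun x => ⟨⟨x.1, hle x.2⟩, Subtype.ext x.2⟩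
        left_inv := fun x => rfl
        right_inv := fun x => rfl }
  have hmul := g.ker.card_mul_index
  rw [Subgroup.index_ker, hgk, MonoidHom.range_eq_top.2 hg, Subgroup.card_top, hρc] at hmul
  have h3 : Nat.card τ.ker ∣ 3 := Nat.dvd_of_mul_dvd_mul_right (by norm_num : 0 < 2) (hmul ▸ h6)
  have h3card : Nat.card (Multiplicative (ZMod 3)) = 3 := by simp
  rcases (Nat.dvd_prime Nat.prime_three).1 h3 with h | h
  · haveI : Subsingleton τ.ker := (Nat.card_eq_one_iff_unique.1 h).1
    exact ⟨1, fun x => ⟨1, Subsingleton.elim _ _⟩⟩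
  · exact ⟨(mulEquivOfCyclicCardEq (h3card.trans h.symm)).toMonoidHom, MulEquiv.surjective _⟩

end H61.AltSix
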