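import Mathlib
import Cfsg.Agent.H48.Diag
import Cfsg.Agent.H35.DerivedPerm

/-!
Iterated wreath 2-groups inside `SL₂(F) ≀ Sym(X)`, of large derived length.
-/

set_option autoImplicit false

namespace H61.SpWreath

open scoped commutatorElement

universe u

variable {F : Type u} [Field F]

local notation "SL2" => Matrix.SpecialLinearGroup (Fin 2) F

/-- Permutation of the coordinates. -/
def act (F : Type u) [Field F] (X : Type*) :
    Equiv.Perm X →* MulAut (X → Matrix.SpecialLinearGroup (Fin 2) F) where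
  toFun σ :=
    { toFun := fun f => f ∘ σ.symm
      invFun := fun f => f ∘ σ
      left_inv := fun f => by funext i; simp
      right_inv := fun f => by funext i; simp
      map_mul' := fun f g => rfl }
  map_one' := by ext f i; rfl
  map_mul' σ τ := by ext f i; rfl

theorem act_apply {X : Type*} (σ : Equiv.Perm X) (f : X → SL2) (x : X) :
    act F X σ f x = f (σ.symm x) := rfl

/-- The monomial group `SL₂(F) ≀ Sym(X)`. -/
abbrev Mon (F : Type u) [Field F] (X : Type*) :=
  (X → Matrix.SpecialLinearGroup (Fin 2) F) ⋊[act F X] Equiv.Perm X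

theorem mon_ext {X : Type*} {a b : Mon F X} (h1 : ∀ x, a.left x = b.left x)
    (h2 : ∀ x, a.right x = b.right x) : a = b :=
  SemidirectProduct.ext (funext h1) (Equiv.ext h2)

section Step

variable {W C : Type*} [Group W] [CommGroup C] {X : Type*}

/-- The permutation part of the embedding of a regular wreath product. -/
def stepPerm (ψ : W →* Mon F X) (w : W ≀ᵣ C) : Equiv.Perm (X × C) where
  toFun p := ((ψ (w.left (w.right * p.2))).right p.1, w.right * p.2)
  invFun p := ((ψ (w.left p.2)).right.symm p.1, w.right⁻¹ * p.2)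
  left_inv p := by ext <;> simp
  right_inv p := by ext <;> simp

/-- A monomial representation of `W` gives one of `W ≀ C`. -/
def stepHom (ψ : W →* Mon F X) : W ≀ᵣ C →* Mon F (X × C) where
  toFun w := ⟨fun p => (ψ (w.left p.2)).left p.1, stepPerm ψ w⟩
  map_one' := mon_ext (fun p => by simp) (fun p => by simp [stepPerm])
  map_mul' a b := mon_ext
    (fun p => by
      simp only [RegularWreathProduct.mul_left, Pi.mul_apply, map_mul, SemidirectProduct.mul_left,
        act_apply]
      rfl)
    (fun p => by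
      simp only [stepPerm, RegularWreathProduct.mul_left, RegularWreathProduct.mul_right,
        Pi.mul_apply, map_mul, SemidirectProduct.mul_right, Equiv.Perm.mul_apply, Equiv.coe_fn_mk,
        mul_assoc, inv_mul_cancel_left])

theorem stepHom_injective [Nonempty X] {ψ : W →* Mon F X} (hψ : Function.Injective ψ) :
    Function.Injective (stepHom (C := C) ψ) := by
  intro a b h
  have hl : ∀ x d, (ψ (a.left d)).left x = (ψ (b.left d)).left x := fun x d =>
    congrFun (congrArg SemidirectProduct.left h) (x, d)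
  have hr : ∀ x d, ((ψ (a.left (a.right * d))).right x, a.right * d) =
      ((ψ (b.left (b.right * d))).right x, b.right * d) := fun x d =>
    congrArg (fun e : Mon F (X × C) => e.right (x, d)) h
  obtain ⟨x₀⟩ := (inferInstance : Nonempty X)
  have hc : a.right = b.right := mul_right_cancel (congrArg Prod.snd (hr x₀ 1))
  refine RegularWreathProduct.ext (funext fun d => hψ (mon_ext (fun x => hl x d) fun x => ?_)) hc
  have h1 := congrArg Prod.fst (hr x (a.right⁻¹ * d))
  simp only [mul_inv_cancel_left, hc] at h1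
  exact h1

end Step

/-- A nonabelian `2`-subgroup of `SL₂(F)`. -/
theorem exists_quaternion [Fintype F] (h2 : (2 : F) ≠ 0) :
    ∃ Q : Subgroup SL2, IsPGroup 2 Q ∧ derivedSeries Q 1 ≠ ⊥ := by
  classical
  haveI : Fact (Nat.Prime 2) := ⟨Nat.prime_two⟩
  obtain ⟨x, y, hxy⟩ : ∃ x y : F, x ^ 2 + y ^ 2 = -1 := by
    obtain ⟨p, hp⟩ := CharP.exists F
    haveI : Fact p.Prime := ⟨CharP.char_is_prime F p⟩
    obtain ⟨a, b, hab⟩ := ZMod.sq_add_sq p (-1)
    refine ⟨ZMod.castHom (dvd_refl p) F a, ZMod.castHom (dvd_refl p) F b, ?_⟩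
    rw [← map_pow, ← map_pow, ← map_add, hab, map_neg, map_one]
  let a : SL2 := ⟨!![0, 1; -1, 0], by simp [Matrix.det_fin_two]⟩
  let b : SL2 := ⟨!![x, y; y, -x], by
    simp [Matrix.det_fin_two]; linear_combination (-1 : F) * hxy⟩
  have hva : a.1 = !![0, 1; -1, 0] := rfl
  have hvb : b.1 = !![x, y; y, -x] := rfl
  have haa : a.1 * a.1 = -1 := by
    rw [hva]; ext i j; fin_cases i <;> fin_cases j <;> simp [Matrix.mul_apply, Fin.sum_univ_two]
  have hbb : b.1 * b.1 = -1 := by
    rw [hvb]; ext i j; fin_cases i <;> fin_cases j <;>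
      simp [Matrix.mul_apply, Fin.sum_univ_two] <;>
      first | ring1 | linear_combination hxy | linear_combination -hxy
  have hba : b.1 * a.1 = -(a.1 * b.1) := by
    rw [hva, hvb]; ext i j; fin_cases i <;> fin_cases j <;> simp [Matrix.mul_apply, Fin.sum_univ_two]
  have hne1 : (1 : Matrix (Fin 2) (Fin 2) F) ≠ -1 := fun e => h2 (by
    have := congrFun (congrFun e 0) 0
    simp at this
    linear_combination this)
  have hp : ∀ c : SL2, c.1 * c.1 = -1 → IsPGroup 2 (Subgroup.zpowers c) := by
    intro c hc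
    have h4 : c ^ 4 = 1 := Subtype.ext (by
      show (c ^ 4).1 = (1 : SL2).1
      rw [Matrix.SpecialLinearGroup.coe_pow, Matrix.SpecialLinearGroup.coe_one]
      rw [show (4 : ℕ) = 2 * 2 from rfl, pow_mul, sq c.1, hc, neg_one_sq])
    rintro ⟨g, hg⟩
    obtain ⟨k, rfl⟩ := Subgroup.mem_zpowers_iff.mp hg
    refine ⟨2, Subtype.ext ?_⟩
    show (c ^ k) ^ (2 ^ 2) = 1
    rw [← zpow_natCast, ← zpow_mul, mul_comm k, zpow_mul]
    simp [h4]
  have hconj : b * a * b⁻¹ = a⁻¹ := by
    rw [mul_inv_eq_iff_eq_mul, eq_inv_mul_iff_mul_eq]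
    apply Subtype.ext
    show a.1 * (b.1 * a.1) = b.1
    rw [hba, mul_neg, ← mul_assoc, haa, neg_mul, one_mul, neg_neg]
  have hle : Subgroup.zpowers b ≤ Subgroup.normalizer ((Subgroup.zpowers a : Subgroup SL2) : Set SL2) := by
    rw [Subgroup.zpowers_le]
    refine Subgroup.mem_normalizer_fintype fun g hg => ?_
    obtain ⟨k, rfl⟩ := Subgroup.mem_zpowers_iff.mp hg
    rw [SetLike.mem_coe, ← conj_zpow, hconj, inv_zpow', Subgroup.mem_zpowers_iff]
    exact ⟨-k, rfl⟩
  refine ⟨Subgroup.zpowers b ⊔ Subgroup.zpowers a,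
    (hp b hbb).to_sup_of_normal_right' (hp a haa) hle, fun hbot => ?_⟩
  rw [derivedSeries_one, commutator_def, Subgroup.commutator_eq_bot_iff_le_centralizer] at hbot
  have h := hbot (Subgroup.mem_top (⟨b, Subgroup.mem_sup_left (Subgroup.mem_zpowers b)⟩ :
    ↥(Subgroup.zpowers b ⊔ Subgroup.zpowers a)))
  have hcomm := Subgroup.mem_centralizer_iff.mp h ⟨a, Subgroup.mem_sup_right (Subgroup.mem_zpowers a)⟩
    (Subgroup.mem_top _)
  have hc : a.1 * b.1 = b.1 * a.1 := congrArg (fun e : ↥(Subgroup.zpowers b ⊔ Subgroup.zpowers a) => (e : SL2).1) hcomm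
  have hc' : a.1 * b.1 = -(a.1 * b.1) := hc.trans hba
  have e : a.1 * (a.1 * b.1) * b.1 = 1 := by
    rw [← mul_assoc a.1 a.1 b.1, haa, mul_assoc, hbb, neg_mul_neg, one_mul]
  exact hne1 (by
    calc (1 : Matrix (Fin 2) (Fin 2) F) = a.1 * (a.1 * b.1) * b.1 := e.symm
      _ = a.1 * (-(a.1 * b.1)) * b.1 := by rw [← hc']
      _ = -1 := by rw [mul_neg, neg_mul, e])

/-- Iterated wreath products: derived length at least `j + 2` on `2 ^ j` points. -/
theorem exists_mon_group [Fintype F] (h2 : (2 : F) ≠ 0) (j : ℕ) :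
    ∃ (W : Type u) (_ : Group W) (_ : Finite W) (X : Type) (_ : Finite X), Nonempty X ∧
      Nat.card X = 2 ^ j ∧ IsPGroup 2 W ∧ (∃ ψ : W →* Mon F X, Function.Injective ψ) ∧
      derivedSeries W (j + 1) ≠ ⊥ := by
  haveI : Fact (Nat.Prime 2) := ⟨Nat.prime_two⟩
  induction j with
  | zero =>
    obtain ⟨Q, hQ, hne⟩ := exists_quaternion h2
    let c : ↥Q →* (Unit → SL2) :=
      { toFun := fun g _ => (g : SL2)
        map_one' := rfl
        map_mul' := fun _ _ => rfl }
    refine ⟨↥Q, inferInstance, inferInstance, Unit, inferInstance, inferInstance, by simp, hQ,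
      ⟨SemidirectProduct.inl.comp c, ?_⟩, hne⟩
    intro g h e
    exact Subtype.ext (congrFun (congrArg SemidirectProduct.left e) ())
  | succ j ih =>
    obtain ⟨W, _, _, X, _, hX, hcard, hW, ⟨ψ, hψ⟩, hne⟩ := ih
    let C := Multiplicative (ZMod 2)
    haveI : Nontrivial C := Finite.one_lt_card_iff_nontrivial.mp (by simp [C])
    refine ⟨W ≀ᵣ C, inferInstance, inferInstance, X × C, inferInstance, inferInstance, ?_, ?_,
      ⟨stepHom ψ, stepHom_injective hψ⟩, H35.wreath_derived_ne_bot hne⟩
    · rw [Nat.card_prod, hcard, pow_succ]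
      simp [C]
    · obtain ⟨m, hm⟩ := IsPGroup.iff_card.mp hW
      exact IsPGroup.of_card (n := m * 2 + 1) (by
        rw [RegularWreathProduct.card, hm]; simp [C, pow_succ, pow_mul])

/-- The monomial group inside the symplectic group. -/
theorem exists_sp_embedding {X Y : Type} [Fintype Y] [DecidableEq Y] (ι : X ↪ Y) :
    ∃ Φ : Mon F X →* Matrix.symplecticGroup Y F, Function.Injective Φ := by
  classical
  let ext : (X → SL2) →* (Y → SL2) :=
    { toFun := fun f => Function.extend ι f 1
      map_one' := by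
        funext y
        by_cases h : ∃ x, ι x = y
        · obtain ⟨x, rfl⟩ := h
          simp [ι.injective.extend_apply]
        · rw [Function.extend_apply' _ _ _ h]
      map_mul' := fun f g => by
        funext y
        by_cases h : ∃ x, ι x = y
        · obtain ⟨x, rfl⟩ := h
          simp [ι.injective.extend_apply]
        · simp [Function.extend_apply' _ _ _ h] }
  let Φ : Mon F X →* Matrix.symplecticGroup Y F := SemidirectProduct.lift (H48.diagHom.comp ext)
    (H48.permHom.comp (Equiv.Perm.viaEmbeddingHom ι)) (fun σ => MonoidHom.ext fun f => by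
      simp only [MonoidHom.comp_apply, MulEquiv.coe_toMonoidHom, MulAut.conj_apply,
        H48.permHom_conj_diagHom]
      congr 1
      funext y
      by_cases h : ∃ x, ι x = y
      · obtain ⟨x, rfl⟩ := h
        have hs : (Equiv.Perm.viaEmbeddingHom ι σ).symm (ι x) = ι (σ.symm x) := by
          rw [Equiv.symm_apply_eq, Equiv.Perm.viaEmbeddingHom_apply, Equiv.Perm.viaEmbedding_apply,
            Equiv.apply_symm_apply]
        simp [ext, hs, ι.injective.extend_apply, act_apply]
      · have hs : (Equiv.Perm.viaEmbeddingHom ι σ).symm y = y := by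
          rw [Equiv.symm_apply_eq, Equiv.Perm.viaEmbeddingHom_apply,
            Equiv.Perm.viaEmbedding_apply_of_notMem _ _ y (by simpa using h)]
        simp [ext, hs, Function.extend_apply' _ _ _ h])
  refine ⟨Φ, fun a b hab => ?_⟩
  have key : ∀ (f : Y → SL2) (σ : Equiv.Perm Y) (g : Y → SL2) (τ : Equiv.Perm Y),
      H48.diagHom f * H48.permHom σ = H48.diagHom g * H48.permHom τ → f = g ∧ σ = τ := by
    intro f σ g τ h
    have h1 : H48.diagHom (g⁻¹ * f) = H48.permHom (F := F) (τ * σ⁻¹) := by
      rw [map_mul, map_mul, map_inv, map_inv, inv_mul_eq_iff_eq_mul, ← mul_assoc, ← h,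
        mul_inv_cancel_right]
    have hσ : τ * σ⁻¹ = 1 := by
      refine Equiv.ext fun i => ?_
      by_contra hi
      set ρ := τ * σ⁻¹ with hρ
      have e := congrArg (fun M : Matrix.symplecticGroup Y F =>
        (M • (Pi.single (Sum.inl i) (1 : F) : Y ⊕ Y → F)) (Sum.inl (ρ i))) h1
      simp only [H48.diagHom_smul_inl, H48.permHom_smul_inl, Equiv.symm_apply_apply] at e
      have hne : (Sum.inl (ρ i) : Y ⊕ Y) ≠ Sum.inl i := fun he => hi (Sum.inl_injective he)
      simp [hne] at e
    have hστ : σ = τ := (mul_inv_eq_one.mp hσ).symm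
    rw [hστ] at h
    exact ⟨H48.diagHom_injective (mul_right_cancel h), hστ⟩
  obtain ⟨h1, h2⟩ := key _ _ _ _ hab
  refine mon_ext (fun x => ?_) (fun x => ?_)
  · have := congrFun h1 (ι x)
    simpa [ext, ι.injective.extend_apply] using this
  · exact congrFun (congrArg (⇑) (Equiv.Perm.viaEmbeddingHom_injective ι h2)) x

end H61.SpWreath
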