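import Cfsg.Agent.H68.PSU34
import Cfsg.Agent.H61.Order320

/-! The centraliser of a transvection in `SU_3(4)` has order `320` and a pair of generators
satisfying the relations. -/

set_option autoImplicit false

namespace H61.U34

open Matrix Cfsg H68.PSU34

variable {F : Type*} [Field F] [Fintype F]

/-- The diagonal torus element centralising the transvection. -/
def dg (u : F) : Matrix (Fin 3) (Fin 3) F := !![u, 0, 0; 0, u ^ 3, 0; 0, 0, u]

theorem dg_form {u : F} (hu : u ^ 5 = 1) (x y : Fin 3 → F) :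
    hypForm (dg u *ᵥ x) (dg u *ᵥ y) = hypForm x y := by
  simp [hypForm, dg, Matrix.mulVec, dotProduct, Fin.sum_univ_three, mul_pow]
  have h15 : (u ^ 3) ^ 4 * u ^ 3 = 1 := by
    rw [← pow_mul, ← pow_add, show 3 * 4 + 3 = 5 * 3 from rfl, pow_mul, hu, one_pow]
  linear_combination (x 0 * y 2 ^ 4 + x 2 * y 0 ^ 4) * hu + (x 1 * y 1 ^ 4) * h15

theorem dg_det {u : F} (hu : u ^ 5 = 1) : (dg u).det = 1 := by
  simp [dg, Matrix.det_fin_three]
  linear_combination hu

theorem up_dg_mul (hF : Fintype.card F = 16) {u : F} (hu : u ^ 5 = 1) (a b c d v : F) :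
    upMat a b * dg u * (upMat c d * dg v)
      = upMat (a + u ^ 2 * c) (b + d + a ^ 4 * (u ^ 2 * c)) * dg (u * v) := by
  have hF2 : Fintype.card F = 4 ^ 2 := by rw [hF]; norm_num
  ext i j
  fin_cases i <;> fin_cases j <;>
    simp [upMat, dg, Matrix.mul_apply, Fin.sum_univ_three, H50.add_pow_q hF2, mul_pow,
      ← pow_mul] <;>
    first
      | ring1
      | linear_combination (-(u * v ^ 3 * c ^ 4 * u ^ 5 + u * v ^ 3 * c ^ 4)) * hu
      | linear_combination (-(a * u * c * v)) * hu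

/-- Coordinates. -/
abbrev Tri (F : Type*) [Field F] : Type _ :=
  {p : F × F × F // p.2.1 ^ 4 + p.2.1 = p.1 ^ 5 ∧ p.2.2 ^ 5 = 1}

theorem card_tri_le (hF : Fintype.card F = 16) : Nat.card (Tri F) ≤ 320 := by
  classical
  let e : Tri F → Pts F × {u : F // u ^ 5 = 1} :=
    fun p => (⟨(p.1.1, p.1.2.1), p.2.1⟩, ⟨p.1.2.2, p.2.2⟩)
  have hinj : Function.Injective e := by
    intro p p' h
    simp only [e, Prod.mk.injEq, Subtype.mk.injEq] at h
    exact Subtype.ext (Prod.ext h.1.1 (Prod.ext h.1.2 h.2))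
  refine (Nat.card_le_card_of_injective e hinj).trans ?_
  rw [Nat.card_prod, card_pts hF]
  have : Nat.card {u : F // u ^ 5 = 1} ≤ 5 := by
    rw [Nat.card_eq_fintype_card, Fintype.card_subtype]
    refine le_trans (Finset.card_le_card (t := (Polynomial.nthRoots 5 (1 : F)).toFinset) ?_) ?_
    · intro u hu
      rw [Finset.mem_filter] at hu
      rw [Multiset.mem_toFinset, Polynomial.mem_nthRoots (by norm_num)]
      exact hu.2
    · exact (Multiset.toFinset_card_le _).trans (Polynomial.card_nthRoots 5 1)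
  omega

theorem bits_zero {z : F} (h2 : (2 : F) = 0) (hz : z ^ 5 = 1)
    (hsum : 1 + z + z ^ 2 + z ^ 3 + z ^ 4 = 0) {e0 e1 e2 e3 : F}
    (he0 : e0 * e0 = e0) (he1 : e1 * e1 = e1) (he2 : e2 * e2 = e2) (he3 : e3 * e3 = e3)
    (h : e0 + e1 * z + e2 * z ^ 2 + e3 * z ^ 3 = 0) :
    e0 = 0 ∧ e1 = 0 ∧ e2 = 0 ∧ e3 = 0 := by
  -- the Frobenius conjugates of the relation
  have g2 : e0 + e1 * z ^ 2 + e2 * z ^ 4 + e3 * z = 0 := by
    linear_combination (e0 + e1 * z + e2 * z ^ 2 + e3 * z ^ 3) * h - he0 - z ^ 2 * he1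
      - z ^ 4 * he2 - z ^ 6 * he3 - e3 * z * hz
      - (e0 * e1 * z + e0 * e2 * z ^ 2 + e0 * e3 * z ^ 3 + e1 * e2 * z ^ 3 + e1 * e3 * z ^ 4
        + e2 * e3 * z ^ 5) * h2
  have g4 : e0 + e1 * z ^ 4 + e2 * z ^ 3 + e3 * z ^ 2 = 0 := by
    linear_combination (e0 + e1 * z ^ 2 + e2 * z ^ 4 + e3 * z) * g2 - he0 - z ^ 4 * he1
      - z ^ 8 * he2 - z ^ 2 * he3 - e2 * z ^ 3 * hz
      - (e0 * e1 * z ^ 2 + e0 * e2 * z ^ 4 + e0 * e3 * z + e1 * e2 * z ^ 6 + e1 * e3 * z ^ 3
        + e2 * e3 * z ^ 5) * h2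
  have g8 : e0 + e1 * z ^ 3 + e2 * z + e3 * z ^ 4 = 0 := by
    linear_combination (e0 + e1 * z ^ 4 + e2 * z ^ 3 + e3 * z ^ 2) * g4 - he0 - z ^ 8 * he1
      - z ^ 6 * he2 - z ^ 4 * he3 - (e1 * z ^ 3 + e2 * z) * hz
      - (e0 * e1 * z ^ 4 + e0 * e2 * z ^ 3 + e0 * e3 * z ^ 2 + e1 * e2 * z ^ 7 + e1 * e3 * z ^ 6
        + e2 * e3 * z ^ 5) * h2
  -- weighted sums
  have s0 : e1 + e2 + e3 = 0 := by
    linear_combination -h - g2 - g4 - g8 + (e1 + e2 + e3) * hsum + (2 * e0) * h2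
  have s1 : e1 + (e0 + e1 + e2 + e3) = 0 := by
    linear_combination -(z ^ 4 * h + z ^ 3 * g2 + z * g4 + z ^ 2 * g8)
      + (e0 + e2 + e3) * hsum + (4 * e1 + (e2 + e3) * (z + z ^ 2)) * hz + (3 * e1) * h2
  have s2 : e2 + (e0 + e1 + e2 + e3) = 0 := by
    linear_combination -(z ^ 3 * h + z * g2 + z ^ 2 * g4 + z ^ 4 * g8)
      + (e0 + e1 + e3) * hsum + (4 * e2 + e1 * (z + z ^ 2) + e3 * (z + z ^ 3)) * hz + (3 * e2) * h2
  have s3 : e3 + (e0 + e1 + e2 + e3) = 0 := by
    linear_combination -(z ^ 2 * h + z ^ 4 * g2 + z ^ 3 * g4 + z * g8)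
      + (e0 + e1 + e2) * hsum + (4 * e3 + e1 * (z + z ^ 2) + e2 * (z + z ^ 3)) * hz + (3 * e3) * h2
  have r1 : e1 = e0 := by linear_combination s1 - s0 - e0 * h2
  have r2 : e2 = e0 := by linear_combination s2 - s0 - e0 * h2
  have r3 : e3 = e0 := by linear_combination s3 - s0 - e0 * h2
  have r0 : e0 = 0 := by linear_combination s0 - r1 - r2 - r3 - e0 * h2
  exact ⟨r0, r1.trans r0, r2.trans r0, r3.trans r0⟩

theorem exists_rel (hF : Fintype.card F = 16) :
    ∃ t : Cfsg.SU 3 F 4, orderOf t = 2 ∧ ∃ y s a b : Cfsg.SU 3 F 4, Ord320.Rel y s a b ∧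
      Subgroup.closure ({y, s} : Set (Cfsg.SU 3 F 4)) = Subgroup.centralizer {t} ∧
      Nat.card (Subgroup.centralizer ({t} : Set (Cfsg.SU 3 F 4))) = 320 := by
  classical
  have hF2 : Fintype.card F = 4 ^ 2 := by rw [hF]; norm_num
  have h2 := two_zero hF
  haveI : CharP F 2 := CharTwo.of_one_ne_zero_of_two_eq_zero one_ne_zero h2
  obtain ⟨w, hw⟩ := H50.exists_trace_eq hF2 (one_pow 4)
  obtain ⟨hPQ, hQP⟩ := base_mul_inv w h2
  let M : Tri F → Matrix (Fin 3) (Fin 3) F := fun p =>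
    baseMat w * (upMat p.1.1 p.1.2.1 * dg p.1.2.2) * baseInv w
  have hiso : ∀ p : Tri F, H50.IsIso 4 (M p) := by
    intro p u v
    simp only [M]
    rw [← mulVec_mulVec, ← mulVec_mulVec, ← mulVec_mulVec, ← mulVec_mulVec, ← mulVec_mulVec,
      ← mulVec_mulVec, base_form hF hw, up_form hF p.2.1, dg_form p.2.2, ← base_form hF hw,
      mulVec_mulVec, mulVec_mulVec, hPQ, one_mulVec, one_mulVec]
  have hdet : ∀ p : Tri F, (M p).det = 1 := by
    intro p
    simp only [M]
    rw [det_mul, det_mul, det_mul, up_det, dg_det p.2.2, one_mul, mul_one, ← det_mul, hPQ, det_one]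
  let f : Tri F → Cfsg.SU 3 F 4 := fun p => H50.mkSU _ (hiso p) (hdet p)
  have hclosed : ∀ p p' : Tri F,
      (p.1.2.1 + p'.1.2.1 + p.1.1 ^ 4 * (p.1.2.2 ^ 2 * p'.1.1)) ^ 4
        + (p.1.2.1 + p'.1.2.1 + p.1.1 ^ 4 * (p.1.2.2 ^ 2 * p'.1.1))
          = (p.1.1 + p.1.2.2 ^ 2 * p'.1.1) ^ 5 ∧ (p.1.2.2 * p'.1.2.2) ^ 5 = 1 := by
    intro p p'
    refine ⟨?_, by rw [mul_pow, p.2.2, p'.2.2, one_mul]⟩
    have h16 := pow_sixteen hF p.1.1
    have hu10 : (p.1.2.2 ^ 2) ^ 5 = 1 := by rw [← pow_mul, mul_comm, pow_mul, p.2.2, one_pow]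
    generalize p.1.2.2 ^ 2 = u at hu10 ⊢
    rw [pow_succ _ 4, H50.add_pow_q hF2, H50.add_pow_q hF2, H50.add_pow_q hF2, mul_pow, mul_pow,
      ← pow_mul]
    linear_combination p.2.1 + p'.2.1 + (u ^ 4 * p'.1.1 ^ 4) * h16 - p'.1.1 ^ 5 * hu10
  let mulP : Tri F → Tri F → Tri F := fun p p' =>
    ⟨(p.1.1 + p.1.2.2 ^ 2 * p'.1.1,
      p.1.2.1 + p'.1.2.1 + p.1.1 ^ 4 * (p.1.2.2 ^ 2 * p'.1.1), p.1.2.2 * p'.1.2.2), hclosed p p'⟩
  have hfmul : ∀ p p', f p * f p' = f (mulP p p') := by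
    intro p p'
    apply H50.SU_ext
    show M p * M p' = M (mulP p p')
    simp only [M, mulP]
    rw [← up_dg_mul hF p.2.2]
    simp only [mul_assoc]
    rw [← mul_assoc (baseInv w) (baseMat w), hQP, one_mul]
  have hext : ∀ p p' : Tri F, p.1.1 = p'.1.1 → p.1.2.1 = p'.1.2.1 → p.1.2.2 = p'.1.2.2 → p = p' :=
    fun p p' h h' h'' => Subtype.ext (Prod.ext h (Prod.ext h' h''))
  have hfinj : Function.Injective f := by
    intro p p' h
    have h' : M p = M p' := congrArg (fun g : Cfsg.SU 3 F 4 =>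
      ((g : Matrix.SpecialLinearGroup (Fin 3) F) : Matrix (Fin 3) (Fin 3) F)) h
    have h'' := congrArg (fun M => baseInv w * M * baseMat w) h'
    simp only [M, ← mul_assoc, hQP, one_mul] at h''
    simp only [mul_assoc, hQP, mul_one] at h''
    have e0 := congrFun (congrFun h'' 0) 0
    have e1 := congrFun (congrFun h'' 1) 2
    have e2 := congrFun (congrFun h'' 0) 2
    simp [upMat, dg] at e0 e1 e2
    have hne : p.1.2.2 ≠ 0 := by
      intro h0
      have := p.2.2
      simp [h0] at this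
    rw [← e0] at e1 e2
    exact hext _ _ (mul_right_cancel₀ hne e1) (mul_right_cancel₀ hne e2) e0
  -- elements
  let one' : Tri F := ⟨(0, 0, 1), by simp⟩
  have hf1 : f one' = 1 := by
    have h := hfmul one' one'
    rw [show mulP one' one' = one' from hext _ _ (by simp [mulP, one']) (by simp [mulP, one'])
      (by simp [mulP, one'])] at h
    exact mul_eq_left.1 h
  let t' : Tri F := ⟨(0, 1, 1), by simp [CharTwo.add_self_eq_zero]⟩
  obtain ⟨u, hu⟩ : ∃ u : Fˣ, orderOf u = 5 := by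
    haveI : Fact (Nat.Prime 5) := ⟨by norm_num⟩
    refine exists_prime_orderOf_dvd_card' 5 ?_
    rw [Nat.card_eq_fintype_card, Fintype.card_units, hF]
    norm_num
  have hu5 : (u : F) ^ 5 = 1 := by
    rw [← Units.val_pow_eq_pow_val, ← hu, pow_orderOf_eq_one, Units.val_one]
  obtain ⟨z, hz⟩ : ∃ z : F, z = (u : F) ^ 2 := ⟨_, rfl⟩
  have hz5 : z ^ 5 = 1 := by rw [hz, ← pow_mul, mul_comm, pow_mul, hu5, one_pow]
  have hzne : z ≠ 1 := by
    intro h
    have : u ^ 2 = 1 := Units.ext (by rw [Units.val_pow_eq_pow_val, Units.val_one, ← hz]; exact h)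
    have := orderOf_dvd_of_pow_eq_one this
    rw [hu] at this; norm_num at this
  have hsum : 1 + z + z ^ 2 + z ^ 3 + z ^ 4 = 0 := by
    have : (1 + z + z ^ 2 + z ^ 3 + z ^ 4) * (z - 1) = 0 := by linear_combination hz5
    exact (mul_eq_zero.1 this).resolve_right (sub_ne_zero.2 hzne)
  set B : F := z + z ^ 4 with hB
  have hB4 : B ^ 4 + B = 0 := by
    rw [hB, H50.add_pow_q hF2]
    linear_combination (z ^ 11 + z ^ 6 + z) * hz5 + (z + z ^ 4) * h2
  let y' : Tri F := ⟨(1, z ^ 2 + z ^ 4, 1), by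
    refine ⟨?_, one_pow 5⟩
    show (z ^ 2 + z ^ 4) ^ 4 + (z ^ 2 + z ^ 4) = 1 ^ 5
    rw [H50.add_pow_q hF2]
    linear_combination (z ^ 11 + z ^ 6 + z ^ 3 + z) * hz5 + hsum - h2⟩
  let s' : Tri F := ⟨(0, 0, (u : F)), by simp [hu5]⟩
  let b' : Tri F := ⟨(0, B, 1), by simp [hB4]⟩
  let ab' : Tri F := ⟨(0, 1 + B, 1), by
    refine ⟨?_, one_pow 5⟩
    show (1 + B) ^ 4 + (1 + B) = 0 ^ 5
    rw [H50.add_pow_q hF2]
    linear_combination hB4 + h2⟩
  have hb0mem : ∀ i : ℕ, (z ^ 2 + z ^ 4) ^ 4 + (z ^ 2 + z ^ 4) = (z ^ i) ^ 5 := fun i => by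
    rw [← pow_mul, mul_comm, pow_mul, hz5, one_pow]
    exact y'.2.1.trans (one_pow 5)
  let cy : ℕ → Tri F := fun i => ⟨(z ^ i, z ^ 2 + z ^ 4, 1), hb0mem i, one_pow 5⟩
  let sp : ℕ → Tri F := fun i => ⟨(0, 0, (u : F) ^ i), by simp,
    show ((u : F) ^ i) ^ 5 = 1 by rw [← pow_mul, mul_comm, pow_mul, hu5, one_pow]⟩
  have hsp : ∀ i : ℕ, f s' ^ i = f (sp i) := by
    intro i
    induction i with
    | zero => rw [pow_zero, ← hf1]; exact congrArg f (hext _ _ rfl rfl (pow_zero _).symm)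
    | succ i ih =>
      rw [pow_succ, ih, hfmul]
      exact congrArg f (hext _ _ (by simp [mulP, sp, s']) (by simp [mulP, sp, s'])
        (by simp [mulP, sp, s', pow_succ]))
  have hcj : ∀ i : ℕ, Ord320.cj (f s') (f y') i = f (cy i) := by
    intro i
    rw [Ord320.cj, mul_inv_eq_iff_eq_mul, hsp, hfmul, hfmul]
    refine congrArg f (hext _ _ ?_ ?_ ?_)
    · simp [mulP, sp, y', cy, hz, ← pow_mul, mul_comm]
    · simp [mulP, sp, y', cy]
    · simp [mulP, sp, y', cy]
  have hcomm : ∀ (c d : Tri F), c.1.1 = 0 → c.1.2.2 = 1 → Commute (f c) (f d) := by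
    intro c d h1 h2'
    show f c * f d = f d * f c
    rw [hfmul, hfmul]
    refine congrArg f (hext _ _ ?_ ?_ ?_)
    · simp [mulP, h1, h2']
    · simp [mulP, h1, h2', add_comm]
    · simp [mulP, h2']
  have hrel : Ord320.Rel (f y') (f s') (f t') (f b') := by
    have mk : ∀ (c d e : Tri F), mulP c d = e → f c * f d = f e := fun c d e h => by rw [hfmul, h]
    refine ⟨?_, ?_, hcomm _ _ rfl rfl, hcomm _ _ rfl rfl, hcomm _ _ rfl rfl, hcomm _ _ rfl rfl,
      hcomm _ _ rfl rfl, ?_, ?_, ?_, ?_, ?_⟩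
    · rw [← hf1]; exact mk _ _ _ (hext _ _ (by simp [mulP, t', one'])
        (by simp [mulP, t', one', CharTwo.add_self_eq_zero]) (by simp [mulP, t', one']))
    · rw [← hf1]; exact mk _ _ _ (hext _ _ (by simp [mulP, b', one'])
        (by simp [mulP, b', one', CharTwo.add_self_eq_zero]) (by simp [mulP, b', one']))
    · rw [hsp, ← hf1]
      exact congrArg f (hext _ _ rfl rfl hu5)
    · exact mk _ _ _ (hext _ _ (by simp [mulP, y', t', CharTwo.add_self_eq_zero])
        (by simp [mulP, y', t', CharTwo.add_self_eq_zero]) (by simp [mulP, y', t']))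
    · have h0 := hcj 0
      rw [Ord320.cj_zero] at h0
      rw [hcj, h0, hfmul, hfmul, hfmul]
      refine congrArg f (hext _ _ ?_ ?_ ?_)
      · simp [mulP, cy, b', add_comm]
      · simp [mulP, cy, b', hB, ← pow_mul]
        linear_combination (-z) * h2
      · simp [mulP, cy, b']
    · have h0 := hcj 0
      rw [Ord320.cj_zero] at h0
      rw [hcj, h0, hfmul t' b', hfmul, hfmul, hfmul]
      refine congrArg f (hext _ _ ?_ ?_ ?_)
      · simp [mulP, cy, t', b', add_comm]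
      · simp [mulP, cy, t', b', hB, ← pow_mul]
        linear_combination z ^ 3 * hz5 - hsum + (z ^ 3) * h2
      · simp [mulP, cy, t', b']
    · simp only [hcj, hfmul]
      rw [← hf1]
      refine congrArg f (hext _ _ ?_ ?_ ?_)
      · simp [mulP, cy, one']
        linear_combination hsum
      · simp [mulP, cy, one', H50.add_pow_q hF2, ← pow_mul]
        linear_combination (z ^ 11 + z ^ 7 + 2 * z ^ 6 + z ^ 3 + 2 * z ^ 2 + 3 * z) * hz5
          + (3 * z ^ 4 + z ^ 3 + 4 * z ^ 2 + 2 * z) * h2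
      · simp [mulP, cy, one']
  have hfsurj : ∀ g : Cfsg.SU 3 F 4, g ∈ Subgroup.centralizer {f t'} → ∃ p, f p = g := by
    intro g hg
    rw [Subgroup.mem_centralizer_singleton_iff] at hg
    set K := baseInv w * H50.suMat g * baseMat w with hK
    have hgK : H50.suMat g = baseMat w * K * baseInv w := by
      rw [hK]; simp only [← mul_assoc, hPQ, one_mul]; simp only [mul_assoc, hPQ, mul_one]
    have hKE : K * upMat 0 1 = upMat 0 1 * K := by
      have h : H50.suMat g * M t' = M t' * H50.suMat g := congrArg (fun g : Cfsg.SU 3 F 4 =>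
        ((g : Matrix.SpecialLinearGroup (Fin 3) F) : Matrix (Fin 3) (Fin 3) F)) hg
      have hd : dg (1 : F) = 1 := by
        ext i j; fin_cases i <;> fin_cases j <;> simp [dg]
      simp only [M, t', hd, mul_one] at h
      rw [hgK] at h
      have h' := congrArg (fun X => baseInv w * X * baseMat w) h
      simp only [← mul_assoc, hQP, one_mul] at h'
      simp only [mul_assoc, hQP, mul_one] at h'
      exact h'
    have hKf : ∀ x v, hypForm (K *ᵥ x) (K *ᵥ v) = hypForm x v := by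
      intro x v
      rw [← base_form hF hw, ← base_form hF hw x, mulVec_mulVec, mulVec_mulVec]
      have : baseMat w * K = H50.suMat g * baseMat w := by
        rw [hK]; simp only [← mul_assoc, hPQ, one_mul]
      rw [this, ← mulVec_mulVec, ← mulVec_mulVec, H50.suMat_h]
    have hKd : K.det = 1 := by
      rw [hK, det_mul, det_mul, g.1.2, mul_one, ← det_mul, hQP, det_one]
    have ent := fun i j => congrFun (congrFun hKE i) j
    have k10 := ent 1 2
    have k20 := ent 2 2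
    have k21 := ent 0 1
    have k00 := ent 0 2
    simp [upMat, Matrix.mul_apply, Fin.sum_univ_three] at k10 k20 k21 k00
    have k22 : K 2 2 = K 0 0 := by linear_combination -k00
    have f02 := hKf ![1, 0, 0] ![0, 0, 1]
    have f12 := hKf ![0, 1, 0] ![0, 0, 1]
    have f22 := hKf ![0, 0, 1] ![0, 0, 1]
    have f11 := hKf ![0, 1, 0] ![0, 1, 0]
    simp [hypForm, Matrix.mulVec, dotProduct, Fin.sum_univ_three, k10, k20, k21, k22]
      at f02 f12 f22 f11
    rw [Matrix.det_fin_three] at hKd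
    simp [k10, k20, k21, k22] at hKd
    set α := K 0 0 with hα
    set β := K 1 1
    set x := K 0 1
    set v := K 1 2
    have hα5 : α ^ 5 = 1 := by linear_combination f02
    have hα0 : α ≠ 0 := by intro h0; rw [h0] at hα5; simp at hα5
    have hβ : β = α ^ 3 := by linear_combination α ^ 3 * hKd - β * hα5
    have hx : x * α = v ^ 4 := by
      linear_combination α ^ 2 * f12 - (x * α + v ^ 4) * hα5 - α ^ 2 * v ^ 4 * hβ - v ^ 4 * h2
    refine ⟨⟨(v / α, K 0 2 / α, α), ?_, hα5⟩, ?_⟩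
    · show (K 0 2 / α) ^ 4 + K 0 2 / α = (v / α) ^ 5
      rw [div_pow, div_pow, hα5]
      field_simp
      linear_combination α ^ 4 * f22 - (K 0 2 ^ 4 + K 0 2 * α ^ 3) * hα5 - α ^ 4 * v ^ 5 * h2
    · apply H50.SU_ext
      show M _ = H50.suMat g
      rw [hgK]
      simp only [M]
      congr 2
      ext i j
      fin_cases i <;> fin_cases j <;>
        simp [upMat, dg, Matrix.mul_apply, Fin.sum_univ_three, k10, k20, k21, k22,
          div_mul_cancel₀ _ hα0, ← hα]
      · change (v / α) ^ 4 * α ^ 3 = x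
        rw [div_pow, ← hx]
        field_simp
      · exact hβ.symm
      · rfl
  have hK : Subgroup.closure ({f y', f s'} : Set (Cfsg.SU 3 F 4))
      ≤ Subgroup.centralizer {f t'} := by
    rw [Subgroup.closure_le]
    rintro g (rfl | rfl) <;>
      exact Subgroup.mem_centralizer_singleton_iff.2 (hcomm t' _ rfl rfl).symm
  have hup : Nat.card (Subgroup.centralizer ({f t'} : Set (Cfsg.SU 3 F 4))) ≤ 320 := by
    refine le_trans ?_ (card_tri_le hF)
    refine Nat.card_le_card_of_surjective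
      (fun p : Tri F => (⟨f p, Subgroup.mem_centralizer_singleton_iff.2
        (hcomm t' p rfl rfl).symm⟩ : Subgroup.centralizer ({f t'} : Set (Cfsg.SU 3 F 4)))) ?_
    rintro ⟨g, hg⟩
    obtain ⟨p, hp⟩ := hfsurj g hg
    exact ⟨p, Subtype.ext hp⟩
  -- `320` distinct elements
  let bit : Bool → F := fun e => bif e then 1 else 0
  let first : (Bool × Bool × Bool × Bool) → F := fun e =>
    bit e.1 + bit e.2.1 * z + bit e.2.2.1 * z ^ 2 + bit e.2.2.2 * z ^ 3
  let P1 : Cfsg.SU 3 F 4 → F → Prop := fun g a => ∃ b h, g = f ⟨(a, b, 1), h⟩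
  have P1mul : ∀ g g' a a', P1 g a → P1 g' a' → P1 (g * g') (a + a') := by
    rintro g g' a a' ⟨b, h, rfl⟩ ⟨b', h', rfl⟩
    rw [hfmul]
    refine ⟨_, ?_, congrArg f (hext _ _ ?_ rfl ?_)⟩
    rotate_left
    · simp [mulP]
    · simp [mulP]
    · have hh := (hclosed ⟨(a, b, 1), h⟩ ⟨(a', b', 1), h'⟩).1
      simp at hh ⊢
      exact hh
  have P1pw : ∀ (i : ℕ) (e : Bool), P1 (Ord320.pw (Ord320.cj (f s') (f y') i) e) (bit e * z ^ i) := by
    intro i e
    cases e
    · simp only [Ord320.pw, bit, cond_false, zero_mul]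
      exact ⟨0, by simp, hf1.symm⟩
    · simp only [Ord320.pw, bit, cond_true, one_mul]
      exact ⟨_, (cy i).2, hcj i⟩
  let Φ : (Bool × Bool × Bool × Bool) × (Bool × Bool) × Fin 5 →
      Subgroup.closure ({f y', f s'} : Set (Cfsg.SU 3 F 4)) := fun x =>
    ⟨Ord320.Yw (f s') (f y') x.1 * Ord320.Zw (f t') (f b') x.2.1 * f s' ^ (x.2.2 : ℕ), by
      set C := Subgroup.closure ({f y', f s'} : Set (Cfsg.SU 3 F 4))
      have hyC : f y' ∈ C := Subgroup.subset_closure (by simp)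
      have hsC : f s' ∈ C := Subgroup.subset_closure (by simp)
      have hcC : ∀ i, Ord320.cj (f s') (f y') i ∈ C := fun i =>
        C.mul_mem (C.mul_mem (C.pow_mem hsC i) hyC) (C.inv_mem (C.pow_mem hsC i))
      have htC : f t' ∈ C := hrel.sq ▸ C.mul_mem hyC hyC
      have hbC : f b' ∈ C := by
        have e := hrel.com1
        have : f b' = (f y' * Ord320.cj (f s') (f y') 1)⁻¹ *
            (Ord320.cj (f s') (f y') 1 * f y') := by rw [e]; simp [mul_assoc]
        rw [this]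
        exact C.mul_mem (C.inv_mem (C.mul_mem hyC (hcC 1))) (C.mul_mem (hcC 1) hyC)
      have hpw : ∀ g ∈ C, ∀ e, Ord320.pw g e ∈ C := fun g hg e => by
        cases e
        · exact C.one_mem
        · exact hg
      exact C.mul_mem (C.mul_mem (C.mul_mem (C.mul_mem (C.mul_mem (hpw _ (hcC 0) _)
        (hpw _ (hcC 1) _)) (hpw _ (hcC 2) _)) (hpw _ (hcC 3) _))
        (C.mul_mem (hpw _ htC _) (hpw _ hbC _))) (C.pow_mem hsC _)⟩
  have hΦ : Function.Injective Φ := by
    rintro ⟨e, ⟨f1, f2⟩, k⟩ ⟨e', ⟨f1', f2'⟩, k'⟩ hxx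
    have hg := congrArg Subtype.val hxx
    simp only [Φ] at hg
    have hY : ∀ e, P1 (Ord320.Yw (f s') (f y') e) (first e) := fun e => by
      have := P1mul _ _ _ _ (P1mul _ _ _ _ (P1mul _ _ _ _ (P1pw 0 e.1) (P1pw 1 e.2.1))
        (P1pw 2 e.2.2.1)) (P1pw 3 e.2.2.2)
      simpa [Ord320.Yw, first] using this
    have hT : ∀ e g1 g2, P1 (Ord320.Yw (f s') (f y') e * Ord320.Zw (f t') (f b') (g1, g2))
        (first e) := by
      intro e g1 g2
      have hz : P1 (Ord320.Zw (f t') (f b') (g1, g2)) (0 + 0) := by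
        refine P1mul _ _ _ _ ?_ ?_
        · cases g1
          · exact ⟨0, by simp, hf1.symm⟩
          · exact ⟨1, t'.2, rfl⟩
        · cases g2
          · exact ⟨0, by simp, hf1.symm⟩
          · exact ⟨B, b'.2, rfl⟩
      simpa using P1mul _ _ _ _ (hY e) hz
    obtain ⟨β1, hβ1, e1⟩ := hT e f1 f2
    obtain ⟨β2, hβ2, e2⟩ := hT e' f1' f2'
    have hg' := hg
    rw [e1, e2, hsp, hsp, hfmul, hfmul] at hg'
    have hh := hfinj hg'
    simp [mulP, sp, Subtype.ext_iff, Prod.ext_iff] at hh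
    obtain ⟨hfst, -, hk⟩ := hh
    have hkk : k = k' := by
      have hk' : u ^ (k : ℕ) = u ^ (k' : ℕ) := Units.ext (by simpa using hk)
      rw [pow_inj_mod, hu, Nat.mod_eq_of_lt k.2, Nat.mod_eq_of_lt k'.2] at hk'
      exact Fin.ext hk'
    subst hkk
    have hee : e = e' := by
      obtain ⟨a0, a1, a2, a3⟩ := e
      obtain ⟨b0, b1, b2, b3⟩ := e'
      have key : ∀ i j : Bool, bit (xor i j) = bit i + bit j ∧ (bit i * bit i = bit i) ∧
          (bit i = 0 → i = false) := fun i j => by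
        cases i <;> cases j <;> simp [bit, CharTwo.add_self_eq_zero]
      have h0 := bits_zero h2 hz5 hsum (e0 := bit (xor a0 b0)) (e1 := bit (xor a1 b1))
        (e2 := bit (xor a2 b2)) (e3 := bit (xor a3 b3)) (key _ true).2.1 (key _ true).2.1
        (key _ true).2.1 (key _ true).2.1 (by
          rw [(key a0 b0).1, (key a1 b1).1, (key a2 b2).1, (key a3 b3).1]
          simp only [first] at hfst
          linear_combination hfst + (bit b0 + bit b1 * z + bit b2 * z ^ 2 + bit b3 * z ^ 3) * h2)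
      have q := fun i j : Bool => show xor i j = false → i = j by cases i <;> cases j <;> decide
      rw [q _ _ ((key _ true).2.2 h0.1), q _ _ ((key _ true).2.2 h0.2.1),
        q _ _ ((key _ true).2.2 h0.2.2.1), q _ _ ((key _ true).2.2 h0.2.2.2)]
    subst hee
    have hzz := mul_left_cancel (mul_right_cancel hg)
    have hBne : B ≠ 0 ∧ B ≠ 1 := by
      constructor
      · intro h
        have := bits_zero h2 hz5 hsum (e0 := 1) (e1 := 0) (e2 := 1) (e3 := 1) (one_mul 1)
          (mul_zero 0) (one_mul 1) (one_mul 1) (by linear_combination hsum - h + (0 : F) * h2)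
        exact one_ne_zero this.1
      · intro h
        have := bits_zero h2 hz5 hsum (e0 := 0) (e1 := 0) (e2 := 1) (e3 := 1) (mul_zero 0)
          (mul_zero 0) (one_mul 1) (one_mul 1) (by linear_combination hsum - h - h2)
        exact one_ne_zero this.2.2.1
    have hbne : f b' ≠ 1 ∧ f t' ≠ 1 ∧ f t' * f b' ≠ 1 := by
      refine ⟨fun h => ?_, fun h => ?_, fun h => ?_⟩
      · rw [← hf1] at h
        exact hBne.1 (congrArg (fun p : Tri F => p.1.2.1) (hfinj h))
      · rw [← hf1] at h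
        exact one_ne_zero (congrArg (fun p : Tri F => p.1.2.1) (hfinj h))
      · rw [← hf1, hfmul] at h
        have := congrArg (fun p : Tri F => p.1.2.1) (hfinj h)
        simp [mulP, t', b', one'] at this
        exact hBne.2 (CharTwo.add_eq_zero.1 this).symm
    have hne4 : f t' ≠ f b' := fun h => hbne.2.2 (by rw [h]; exact hrel.bb)
    cases f1 <;> cases f2 <;> cases f1' <;> cases f2' <;>
      simp [Ord320.Zw, Ord320.pw, hbne, hbne.1.symm, hbne.2.1.symm, hbne.2.2.symm, hne4,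
        hne4.symm] at hzz ⊢
  haveI := hrel.card_closure_le.1
  have hlow : 320 ≤ Nat.card (Subgroup.closure ({f y', f s'} : Set (Cfsg.SU 3 F 4))) := by
    refine le_trans (le_of_eq ?_) (Nat.card_le_card_of_injective Φ hΦ)
    simp
  have heq := Subgroup.eq_of_le_of_card_ge hK (hup.trans hlow)
  refine ⟨f t', ?_, f y', f s', f t', f b', hrel, heq, le_antisymm hup (heq ▸ hlow)⟩
  refine orderOf_eq_prime (by rw [pow_two]; exact hrel.aa) fun h => ?_
  rw [← hf1] at h
  exact one_ne_zero (congrArg (fun p : Tri F => p.1.2.1) (hfinj h))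

end H61.U34
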